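import Mathlib
import Cfsg.Prelude.Def_OddOrderLocal
import Cfsg.Agent.S1393
import Cfsg.Agent.S1396
import Cfsg.Agent.S1398
import Cfsg.Agent.S1451
import Cfsg.Agent.Lib.Helper23.Transitivity3
import Cfsg.Agent.Lib.Helper23.Transitivity2
import Cfsg.Agent.Lib.Helper61.BG9c
import Cfsg.Agent.Lib.Helper61.CoresInt
import Cfsg.Agent.Lib.Helper72.BG8
import Cfsg.Agent.Lib.Helper22.PConstr
import Cfsg.Agent.Lib.Helper71.Fitting

/-!
Bender–Glauberman Lemma 9.5 (S1402), packages (O1) and Case 2 (helper75):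
coatoms whose Fitting subgroup has rank at most 2 ("type (A')") containing an `SCN_3` subgroup `A`
are normalizers of maximal `A`-invariant `q`-subgroups, and if every coatom over `A` is of this
kind then `A` lies in a unique maximal subgroup.
-/

set_option autoImplicit false

namespace Cfsg.Agent.Lib.Helper75.BG95

open Cfsg Cfsg.Agent.Lib.Helper23
open scoped commutatorElement

universe u

variable {G : Type u} [Group G] [Finite G]

omit [Finite G] in
/-- Rank bounds pass to subgroups. -/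
theorem rankLE_of_le {H M : Subgroup G} (hHM : H ≤ M) {k : ℕ} (h : RankLE k ↥M) : RankLE k ↥H :=
  fun p hp => Cfsg.Agent.Lib.Helper61.bg_pRankLE_of_injective (Subgroup.inclusion hHM)
    (Subgroup.inclusion_injective hHM) (h p hp)

omit [Finite G] in
/-- The Fitting subgroup of the subgroup `L`, as a type, has the rank of `fittingOf L`. -/
theorem rankLE_fittingSubgroup_of_fittingOf {L : Subgroup G} {k : ℕ}
    (h : RankLE k ↥(fittingOf L)) : RankLE k ↥(Cfsg.fittingSubgroup ↥L) :=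
  fun p hp => Cfsg.Agent.Lib.Helper61.bg_pRankLE_of_injective
    ((Cfsg.fittingSubgroup ↥L).equivMapOfInjective L.subtype L.subtype_injective).toMonoidHom
    ((Cfsg.fittingSubgroup ↥L).equivMapOfInjective L.subtype L.subtype_injective).injective (h p hp)

/-- For a `p`-group `A ≠ 1`, the primes not dividing `#A` are the primes other than `p`. -/
theorem mem_primesNotDvd_iff {p : ℕ} [Fact p.Prime] {A : Subgroup G} (hAp : IsPGroup p A)
    (hA1 : A ≠ ⊥) {q : ℕ} (hq : q.Prime) : q ∈ primesNotDvd (Nat.card A) ↔ q ≠ p := by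
  have hpp : p.Prime := Fact.out
  obtain ⟨n, hn⟩ := IsPGroup.iff_card.mp hAp
  have hn0 : n ≠ 0 := by
    rintro rfl
    rw [pow_zero] at hn
    exact hA1 (Subgroup.card_eq_one.mp hn)
  constructor
  · rintro ⟨-, h⟩ rfl
    exact h (hn ▸ dvd_pow_self q hn0)
  · intro hne
    refine ⟨hq, fun h => hne ?_⟩
    rw [hn] at h
    exact (Nat.prime_dvd_prime_iff_eq hq hpp).mp (hq.dvd_of_dvd_pow h)

omit [Finite G] in
theorem ne_bot_of_not_pRankLE {p k : ℕ} (hp : p.Prime) {A : Subgroup G}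
    (hA : ¬ PRankLE p k ↥A) : A ≠ ⊥ := by
  rintro rfl
  apply hA
  intro B _ _
  have h1 : Nat.card B = 1 := by
    have : Subsingleton ↥(⊥ : Subgroup G) := inferInstance
    have : Subsingleton ↥B := inferInstance
    exact Nat.card_unique
  rw [h1]
  exact Nat.one_le_pow _ _ hp.pos

/-- (R3) A coatom over `A` whose Fitting subgroup has rank at most 2 has a nontrivial `p'`-core,
when `A` is a `p`-group of rank at least 3. -/
theorem core_ne_bot (hG : IsMinSimpleOddOrder G) {p : ℕ} [Fact p.Prime] {A L : Subgroup G}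
    (hAp : IsPGroup p A) (hA3 : ¬ PRankLE p 2 ↥A) (hL : L ≠ ⊤) (hAL : A ≤ L)
    (hr : RankLE 2 ↥(fittingOf L)) :
    piCoreOf (primesNotDvd (Nat.card A)) L ≠ ⊥ := by
  intro hY
  have hpp : p.Prime := Fact.out
  obtain ⟨hodd, hsimple, hnc, hsolv⟩ := hG
  have hLs : Group.IsSolvable ↥L := hsolv L hL
  have hoddL : Odd (Nat.card ↥L) := Odd.of_dvd_nat hodd (Subgroup.card_subgroup_dvd_card L)
  have hA1 : A ≠ ⊥ := ne_bot_of_not_pRankLE hpp hA3
  have hrL : RankLE 2 ↥(Cfsg.fittingSubgroup ↥L) := rankLE_fittingSubgroup_of_fittingOf hr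
  have hnil : Group.IsNilpotent ↥(commutator ↥L) :=
    (Cfsg.Agent.S1451.result hoddL (Or.inr hrL)).1
  have hcomm : commutator ↥L ≤ Cfsg.fittingSubgroup ↥L :=
    Cfsg.Agent.Lib.Helper71.le_fittingSubgroup _ hnil
  have hO : Cfsg.pPrimeCore p ↥L = ⊥ := by
    apply Cfsg.Agent.Lib.Helper72.BG8.pPrimeCore_eq_bot_of L p
    intro Y hYL hLY hcop
    have hle : Y ≤ piCoreOf (primesNotDvd (Nat.card A)) L := by
      apply le_piCoreOf_of_normal hYL hLY
      intro q hq hqY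
      rw [mem_primesNotDvd_iff hAp hA1 hq]
      rintro rfl
      exact hq.one_lt.ne' (Nat.Coprime.eq_one_of_dvd hcop.symm hqY)
    rw [hY] at hle
    exact le_bot_iff.mp hle
  have hF : Cfsg.fittingSubgroup ↥L = Cfsg.pCore p ↥L :=
    Cfsg.Agent.Lib.Helper22.fittingSubgroup_eq_pCore_of_pPrimeCore_eq_bot hO
  have hFp : IsPGroup p ↥(Cfsg.fittingSubgroup ↥L) := by
    rw [hF]; exact Cfsg.Agent.Lib.Helper55.pCore_isPGroup p ↥L
  have hA'p : IsPGroup p ↥(A.subgroupOf L) := hAp.comap_subtype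
  have : (Cfsg.fittingSubgroup ↥L).Normal := Cfsg.Agent.Lib.Helper71.fittingSubgroup_normal
  have hNp : IsPGroup p ↥(A.subgroupOf L ⊔ Cfsg.fittingSubgroup ↥L) :=
    hA'p.to_sup_of_normal_right hFp
  have hNn : (A.subgroupOf L ⊔ Cfsg.fittingSubgroup ↥L).Normal := by
    refine ⟨fun n hn g => ?_⟩
    have h1 : g * n * g⁻¹ = ⁅g, n⁆ * n := by
      rw [commutatorElement_def]; group
    rw [h1]
    refine Subgroup.mul_mem _ (le_sup_right (a := A.subgroupOf L) (hcomm ?_)) hn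
    rw [commutator_def]
    exact Subgroup.commutator_mem_commutator (Subgroup.mem_top g) (Subgroup.mem_top n)
  have hNF : A.subgroupOf L ⊔ Cfsg.fittingSubgroup ↥L ≤ Cfsg.fittingSubgroup ↥L := by
    have h2 := Cfsg.Agent.Lib.Helper55.le_pCore hNn hNp
    rw [← hF] at h2
    exact h2
  have hA'F : A.subgroupOf L ≤ Cfsg.fittingSubgroup ↥L := le_sup_left.trans hNF
  apply hA3
  exact Cfsg.Agent.Lib.Helper61.bg_pRankLE_of_injective
    ((Subgroup.inclusion hA'F).comp (Subgroup.subgroupOfEquivOfLe hAL).symm.toMonoidHom)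
    ((Subgroup.inclusion_injective hA'F).comp (Subgroup.subgroupOfEquivOfLe hAL).symm.injective)
    (hrL p hpp)

omit [Finite G] in
theorem le_normalizer_inf {A R S : Subgroup G} (hR : A ≤ Subgroup.normalizer (R : Set G))
    (hS : A ≤ Subgroup.normalizer (S : Set G)) :
    A ≤ Subgroup.normalizer ((R ⊓ S : Subgroup G) : Set G) := by
  intro a ha
  rw [Subgroup.mem_normalizer_iff]
  intro x
  rw [Subgroup.mem_inf, Subgroup.mem_inf, Subgroup.mem_normalizer_iff.mp (hR ha) x,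
    Subgroup.mem_normalizer_iff.mp (hS ha) x]

/-- (O1) A coatom `L` over the `p`-group `A` (satisfying the transitivity hypothesis) whose
Fitting subgroup has rank at most 2 is the normalizer of a maximal `A`-invariant `q`-subgroup,
`q` the largest prime divisor of `#O_{p'}(L)`. -/
theorem typeA_sylow (hG : IsMinSimpleOddOrder G) {A L : Subgroup G}
    (hTH : TransitivityHypothesis A)
    (hL : IsCoatom L) (hAL : A ≤ L) (hr : RankLE 2 ↥(fittingOf L))
    {q : ℕ} (hq : q.Prime) (hqY : q ∣ Nat.card (piCoreOf (primesNotDvd (Nat.card A)) L))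
    (hmax : ∀ r : ℕ, r.Prime → r ∣ Nat.card (piCoreOf (primesNotDvd (Nat.card A)) L) → r ≤ q) :
    ∃ Q : Subgroup G, Q ≠ ⊥ ∧ Q ∈ maxInvSubgroups ⊤ A {q} ∧
      Subgroup.normalizer (Q : Set G) = L := by
  have hG' := hG
  obtain ⟨hodd, hsimple, hnc, hsolv⟩ := hG'
  have hqF : Fact q.Prime := ⟨hq⟩
  obtain ⟨Y, hYdef⟩ : ∃ Y : Subgroup G, Y = piCoreOf (primesNotDvd (Nat.card A)) L := ⟨_, rfl⟩
  rw [← hYdef] at hqY hmax
  have hLtop : L ≠ ⊤ := hL.1
  have hYL : Y ≤ L := hYdef ▸ piCoreOf_le _ L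
  have hLY : L ≤ Subgroup.normalizer (Y : Set G) := hYdef ▸ piCoreOf_normalizer _ L
  have hYtop : Y ≠ ⊤ := fun h => hLtop (top_le_iff.mp (h ▸ hYL))
  have hYs : Group.IsSolvable ↥Y := hsolv Y hYtop
  have hoddY : Odd (Nat.card ↥Y) := Odd.of_dvd_nat hodd (Subgroup.card_subgroup_dvd_card Y)
  have hFY : fittingOf Y ≤ fittingOf L := by
    apply Cfsg.Agent.Lib.Helper72.BG8.le_fittingOf_of_normal_nilpotent L _
      ((fittingOf_le Y).trans hYL)
    · exact hLY.trans (Cfsg.Agent.Lib.Helper61.normalizer_le_normalizer_map_of_characteristic Y _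
        (Cfsg.Agent.Lib.Helper22.fittingSubgroup_char ↥Y))
    · exact fittingOf_isNilpotent Y
  have hrY : RankLE 2 ↥(Cfsg.fittingSubgroup ↥Y) :=
    rankLE_fittingSubgroup_of_fittingOf (rankLE_of_le hFY hr)
  obtain ⟨N, hNchar, hNpi, hNidx⟩ := (Cfsg.Agent.S1451.result hoddY (Or.inr hrY)).2.2 (q - 1)
  have hNq : ∀ {d : ℕ}, d.Prime → d ∣ Nat.card N → d = q := by
    intro d hd hdN
    have h1 : q - 1 < d := (hNpi d hd hdN).2
    have h2 : d ≤ q := hmax d hd (hdN.trans (Subgroup.card_subgroup_dvd_card N))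
    omega
  have hNp : IsPGroup q ↥N :=
    IsPGroup.of_card (Nat.eq_prime_pow_of_unique_prime_dvd Nat.card_pos.ne' hNq)
  have hqidx : ¬ q ∣ N.index := hNidx q hq ⟨hq, by have := hq.pos; omega⟩
  have hcardY : Nat.card ↥N * N.index = Nat.card ↥Y := Subgroup.card_mul_index N
  have hqN : q ∣ Nat.card ↥N := by
    rw [← hcardY] at hqY
    exact (hq.dvd_mul.mp hqY).resolve_right hqidx
  obtain ⟨Q, hQdef⟩ : ∃ Q : Subgroup G, Q = N.map Y.subtype := ⟨_, rfl⟩
  have hQcard : Nat.card ↥Q = Nat.card ↥N := by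
    rw [hQdef, Subgroup.card_map_of_injective Y.subtype_injective]
  have hQY : Q ≤ Y := hQdef ▸ Subgroup.map_subtype_le N
  have hQp : IsPGroup q ↥Q := by
    rw [hQdef]; exact hNp.map _
  have hYQ : Subgroup.normalizer (Y : Set G) ≤ Subgroup.normalizer (Q : Set G) :=
    hQdef ▸ Cfsg.Agent.Lib.Helper61.normalizer_le_normalizer_map_of_characteristic Y N hNchar
  have hLQ : L ≤ Subgroup.normalizer (Q : Set G) := hLY.trans hYQ
  have hQ1 : Q ≠ ⊥ := by
    intro h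
    rw [h, Subgroup.card_bot] at hQcard
    rw [← hQcard] at hqN
    exact hq.one_lt.ne' (Nat.dvd_one.mp hqN)
  have hQtop : Q ≠ ⊤ := fun h => hYtop (top_le_iff.mp (h ▸ hQY))
  have hNQ : Subgroup.normalizer (Q : Set G) = L := by
    by_contra hne
    have hlt : L < Subgroup.normalizer (Q : Set G) := lt_of_le_of_ne hLQ (Ne.symm hne)
    exact normalizer_ne_top_of_simple hG hQ1 hQtop (hL.2 _ hlt)
  have hQinv : Q ∈ invSubgroups ⊤ A {q} := by
    refine ⟨le_top, ?_, hAL.trans hLQ⟩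
    intro d hd hdQ
    rw [hQcard] at hdQ
    exact Set.mem_singleton_iff.mpr (hNq hd hdQ)
  refine ⟨Q, hQ1, ⟨hQinv, ?_⟩, hNQ⟩
  intro R hR hQR
  by_contra hne
  have hlt : Q < R := lt_of_le_of_ne hQR (Ne.symm hne)
  have hRp : IsPGroup q ↥R := isPGroup_of_mem_inv hR
  have hD := lt_inf_normalizer_of_pGroup hRp hlt
  obtain ⟨D, hDdef⟩ : ∃ D : Subgroup G, D = R ⊓ Subgroup.normalizer (Q : Set G) := ⟨_, rfl⟩
  rw [← hDdef] at hD
  have hDR : D ≤ R := hDdef ▸ inf_le_left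
  have hDN : D ≤ Subgroup.normalizer (Q : Set G) := hDdef ▸ inf_le_right
  have hDp : IsPGroup q ↥D := hRp.to_le hDR
  have hqπ : q ∈ primesNotDvd (Nat.card A) := by
    have := piCoreOf_isPi (primesNotDvd (Nat.card A)) L q hq
    rw [← hYdef] at this
    exact this hqY
  have hDinv : D ∈ invSubgroups L A (primesNotDvd (Nat.card A)) := by
    refine ⟨hDN.trans hNQ.le, ?_, ?_⟩
    · intro d hd hdD
      obtain ⟨n, hn⟩ := IsPGroup.iff_card.mp hDp
      rw [hn] at hdD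
      have : d = q := (Nat.prime_dvd_prime_iff_eq hd hq).mp (hd.dvd_of_dvd_pow hdD)
      rw [this]; exact hqπ
    · rw [hDdef]
      exact le_normalizer_inf hR.2.2
        ((hAL.trans hLQ).trans Subgroup.le_normalizer)
  have hDY : D ≤ Y := hYdef ▸ le_piCoreOf_of_mem_inv hTH hLtop hAL hDinv
  have hsupp : IsPGroup q ↥(D ⊔ Q) := hDp.to_sup_of_normal_right' hQp hDN
  have hsupY : D ⊔ Q ≤ Y := sup_le hDY hQY
  obtain ⟨n, hn⟩ := IsPGroup.iff_card.mp hsupp
  have hdvd : Nat.card ↥(D ⊔ Q) ∣ Nat.card ↥Q * N.index := by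
    rw [hQcard, hcardY]
    exact Subgroup.card_dvd_of_le hsupY
  have hcop : (Nat.card ↥(D ⊔ Q)).Coprime N.index := by
    rw [hn]
    exact Nat.Coprime.pow_left n ((Nat.Prime.coprime_iff_not_dvd hq).mpr hqidx)
  have hle : Nat.card ↥(D ⊔ Q) ≤ Nat.card ↥Q :=
    Nat.le_of_dvd Nat.card_pos (hcop.dvd_of_dvd_mul_right hdvd)
  have heq : Q = D ⊔ Q := Subgroup.eq_of_le_of_card_ge le_sup_right hle
  have hDQ : D ≤ Q := by
    rw [heq]; exact le_sup_left
  exact (not_le_of_gt hD) hDQ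

/-- Standard facts about an `SCN_3` subgroup `A` of a Sylow `p`-subgroup. -/
theorem scn_facts (hG : IsMinSimpleOddOrder G) (p : ℕ) [Fact p.Prime] (P : Sylow p G)
    {A : Subgroup G} (hA : IsSCN (P : Subgroup G) A) (hA3 : ¬ PRankLE p 2 ↥A) :
    IsPGroup p A ∧ IsMulCommutative A ∧ A ≠ ⊥ ∧ A ≠ ⊤ ∧ TransitivityHypothesis A ∧
      ¬ RankLE 2 ↥(A ⊓ Subgroup.centralizer (A : Set G)) := by
  have hpp : p.Prime := Fact.out
  have hAp : IsPGroup p A := P.isPGroup'.to_le hA.1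
  have hAcomm := Cfsg.Agent.Lib.Helper61.bg_isSCN_comm hA
  have hAc : IsMulCommutative A := ⟨⟨fun a b => Subtype.ext (hAcomm a a.2 b b.2)⟩⟩
  have hA1 : A ≠ ⊥ := ne_bot_of_not_pRankLE hpp hA3
  have hpG : p ∣ Nat.card G := by
    obtain ⟨n, hn⟩ := IsPGroup.iff_card.mp hAp
    have hn0 : n ≠ 0 := by
      rintro rfl
      rw [pow_zero] at hn
      exact hA1 (Subgroup.card_eq_one.mp hn)
    exact ((dvd_pow_self p hn0).trans (dvd_of_eq hn.symm)).trans
      (Subgroup.card_subgroup_dvd_card A)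
  have hA1' : ¬ PRankLE p 1 ↥A := fun h => hA3 (fun B hc he =>
    (h B hc he).trans (Nat.pow_le_pow_right hpp.pos (by norm_num)))
  have hTH := Cfsg.Agent.S1396.result hG p hpG A hAp hAc (Or.inr ⟨P, hA, hA1'⟩)
  have hZ : ¬ RankLE 2 ↥(A ⊓ Subgroup.centralizer (A : Set G)) := by
    intro h
    have hle : A ≤ A ⊓ Subgroup.centralizer (A : Set G) := by
      refine le_inf le_rfl (fun a ha => ?_)
      rw [Subgroup.mem_centralizer_iff]
      intro b hb
      exact hAcomm b hb a ha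
    exact hA3 ((rankLE_of_le hle h) p hpp)
  exact ⟨hAp, hAc, hA1, hTH.2.1, hTH, hZ⟩

omit [Finite G] in
/-- (K2) If the normalizer `L` of a maximal `A`-invariant `q`-subgroup `Q` contains
`K = O_{π(A)'}(C_G(A))` and `K` is transitive on the maximal `A`-invariant `q`-subgroups, then `Q`
is the only maximal `A`-invariant `q`-subgroup. -/
theorem maxInv_eq_of_core_le {A L Q : Subgroup G} {q : ℕ}
    (hQ : Q ∈ maxInvSubgroups ⊤ A {q}) (hNQ : Subgroup.normalizer (Q : Set G) = L)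
    (htr : ∀ Q₁ ∈ maxInvSubgroups ⊤ A {q}, ∀ Q₂ ∈ maxInvSubgroups ⊤ A {q},
      ∃ k ∈ piCoreOf (primesNotDvd (Nat.card A)) (Subgroup.centralizer (A : Set G)),
        Q₂ = Q₁.map (MulAut.conj k).toMonoidHom)
    (hKL : piCoreOf (primesNotDvd (Nat.card A)) (Subgroup.centralizer (A : Set G)) ≤ L)
    {Q' : Subgroup G} (hQ' : Q' ∈ maxInvSubgroups ⊤ A {q}) : Q' = Q := by
  obtain ⟨k, hk, hkeq⟩ := htr Q hQ Q' hQ'
  have hkN : k ∈ Subgroup.normalizer (Q : Set G) := hNQ ▸ hKL hk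
  rw [mapConj_eq_of_mem_normalizer hkN] at hkeq
  exact hkeq

omit [Finite G] in
/-- (K2) In the situation of `maxInv_eq_of_core_le`, `N_G(A) ≤ L`. -/
theorem normalizer_le_of_core_le {A L Q : Subgroup G} {q : ℕ}
    (hQ : Q ∈ maxInvSubgroups ⊤ A {q}) (hNQ : Subgroup.normalizer (Q : Set G) = L)
    (htr : ∀ Q₁ ∈ maxInvSubgroups ⊤ A {q}, ∀ Q₂ ∈ maxInvSubgroups ⊤ A {q},
      ∃ k ∈ piCoreOf (primesNotDvd (Nat.card A)) (Subgroup.centralizer (A : Set G)),
        Q₂ = Q₁.map (MulAut.conj k).toMonoidHom)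
    (hKL : piCoreOf (primesNotDvd (Nat.card A)) (Subgroup.centralizer (A : Set G)) ≤ L) :
    Subgroup.normalizer (A : Set G) ≤ L := by
  intro n hn
  have h1 := maxInv_eq_of_core_le hQ hNQ htr hKL (mapConj_mem_maxInv_of_normalizer hQ hn)
  rw [← hNQ]
  exact mem_normalizer_of_mapConj_eq h1

theorem exists_max_prime_dvd {n : ℕ} (hn : 1 < n) :
    ∃ q : ℕ, q.Prime ∧ q ∣ n ∧ ∀ r : ℕ, r.Prime → r ∣ n → r ≤ q := by
  have hne : n.primeFactors.Nonempty := Nat.nonempty_primeFactors.mpr hn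
  refine ⟨n.primeFactors.max' hne, ?_, ?_, ?_⟩
  · exact Nat.prime_of_mem_primeFactors (Finset.max'_mem _ hne)
  · exact Nat.dvd_of_mem_primeFactors (Finset.max'_mem _ hne)
  · intro r hr hrn
    exact Finset.le_max' _ r (Nat.mem_primeFactors.mpr ⟨hr, hrn, by omega⟩)

/-- (O1), packaged: a coatom `L` over the rank-3 `p`-group `A` (with the transitivity hypothesis)
whose Fitting subgroup has rank at most 2 is `N_G(Q)` for a nontrivial maximal `A`-invariant
`q`-subgroup `Q`, where `q` is the largest prime divisor of `#O_{p'}(L)`. -/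
theorem typeA_exists (hG : IsMinSimpleOddOrder G) {p : ℕ} [Fact p.Prime] {A L : Subgroup G}
    (hAp : IsPGroup p A) (hA3 : ¬ PRankLE p 2 ↥A) (hTH : TransitivityHypothesis A)
    (hL : IsCoatom L) (hAL : A ≤ L) (hr : RankLE 2 ↥(fittingOf L)) :
    ∃ q : ℕ, q.Prime ∧ q ∣ Nat.card (piCoreOf (primesNotDvd (Nat.card A)) L) ∧
      (∀ r : ℕ, r.Prime → r ∣ Nat.card (piCoreOf (primesNotDvd (Nat.card A)) L) → r ≤ q) ∧
      ∃ Q : Subgroup G, Q ≠ ⊥ ∧ Q ∈ maxInvSubgroups ⊤ A {q} ∧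
        Subgroup.normalizer (Q : Set G) = L := by
  have hY1 := core_ne_bot hG hAp hA3 hL.1 hAL hr
  have hcard : 1 < Nat.card (piCoreOf (primesNotDvd (Nat.card A)) L) :=
    (Subgroup.one_lt_card_iff_ne_bot _).mpr hY1
  obtain ⟨q, hq, hqY, hmax⟩ := exists_max_prime_dvd hcard
  exact ⟨q, hq, hqY, hmax, typeA_sylow hG hTH hL hAL hr hq hqY hmax⟩

/-- (O1)+(K2) for an `SCN_3` subgroup: a coatom over `A·O_{p'}(C_G(A))` whose Fitting subgroup
has rank at most 2 contains `N_G(A)`. -/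
theorem typeA_normalizer_le (hG : IsMinSimpleOddOrder G) (p : ℕ) [Fact p.Prime] (P : Sylow p G)
    {A : Subgroup G} (hA : IsSCN (P : Subgroup G) A) (hA3 : ¬ PRankLE p 2 ↥A)
    {L : Subgroup G} (hL : IsCoatom L) (hAL : A ≤ L) (hr : RankLE 2 ↥(fittingOf L))
    (hKL : piCoreOf (primesNotDvd (Nat.card A)) (Subgroup.centralizer (A : Set G)) ≤ L) :
    Subgroup.normalizer (A : Set G) ≤ L := by
  obtain ⟨hAp, hAc, hA1, hAtop, hTH, hZ⟩ := scn_facts hG p P hA hA3
  obtain ⟨q, hq, hqY, hmax, Q, hQ1, hQ, hNQ⟩ := typeA_exists hG hAp hA3 hTH hL hAL hr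
  have hqA : ¬ q ∣ Nat.card A := (piCoreOf_isPi _ L q hq hqY).2
  exact normalizer_le_of_core_le hQ hNQ (Cfsg.Agent.S1393.result hG A hTH hZ q hq hqA) hKL

/-- **Case 2 of BG Lemma 9.5**: if every coatom over the `SCN_3` subgroup `A` has Fitting subgroup
of rank at most 2, then `A` lies in a unique maximal subgroup. -/
theorem case_two (hG : IsMinSimpleOddOrder G) (p : ℕ) [Fact p.Prime] (P : Sylow p G)
    {A : Subgroup G} (hA : IsSCN (P : Subgroup G) A) (hA3 : ¬ PRankLE p 2 ↥A)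
    (hnoB : ∀ M : Subgroup G, IsCoatom M → A ≤ M → RankLE 2 ↥(fittingOf M)) :
    InUniqueMaximal A := by
  classical
  have hpp : p.Prime := Fact.out
  obtain ⟨hAp, hAc, hA1, hAtop, hTH, hZ⟩ := scn_facts hG p P hA hA3
  have hAcomm := Cfsg.Agent.Lib.Helper61.bg_isSCN_comm hA
  -- the primes of the `p'`-cores of the coatoms over `A`
  obtain ⟨Pr, hPr⟩ : ∃ Pr : ℕ → Prop, ∀ q, Pr q ↔ ∃ L : Subgroup G, IsCoatom L ∧ A ≤ L ∧
      q.Prime ∧ q ∣ Nat.card (piCoreOf (primesNotDvd (Nat.card A)) L) := ⟨_, fun q => Iff.rfl⟩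
  have hbound : ∀ q, Pr q → q ≤ Nat.card G := by
    intro q hq
    obtain ⟨L, -, -, -, hqY⟩ := (hPr q).mp hq
    exact Nat.le_of_dvd Nat.card_pos (hqY.trans (Subgroup.card_subgroup_dvd_card _))
  obtain ⟨L₀, hL₀, hAL₀⟩ := Cfsg.Agent.Lib.Helper61.bg_exists_isCoatom_ge hAtop
  obtain ⟨q₀, hq₀, hq₀Y, -, -⟩ := typeA_exists hG hAp hA3 hTH hL₀ hAL₀ (hnoB L₀ hL₀ hAL₀)
  have hPr₀ : Pr q₀ := (hPr q₀).mpr ⟨L₀, hL₀, hAL₀, hq₀, hq₀Y⟩
  obtain ⟨q, hPrq, hqmax⟩ : ∃ q, Pr q ∧ ∀ r, Pr r → r ≤ q :=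
    ⟨Nat.findGreatest Pr (Nat.card G), Nat.findGreatest_spec (hbound q₀ hPr₀) hPr₀,
      fun r hr => Nat.le_findGreatest (hbound r hr) hr⟩
  obtain ⟨L, hL, hAL, hq, hqY⟩ := (hPr q).mp hPrq
  have hqF : Fact q.Prime := ⟨hq⟩
  have hqA : ¬ q ∣ Nat.card A := (piCoreOf_isPi _ L q hq hqY).2
  have hqπ : q ∈ primesNotDvd (Nat.card A) := ⟨hq, hqA⟩
  have htr := Cfsg.Agent.S1393.result hG A hTH hZ q hq hqA
  -- every coatom over `A` whose `p'`-core has order divisible by `q` is the normalizer of a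
  -- maximal `A`-invariant `q`-subgroup
  have key : ∀ H : Subgroup G, IsCoatom H → A ≤ H →
      q ∣ Nat.card (piCoreOf (primesNotDvd (Nat.card A)) H) →
      ∃ Q : Subgroup G, Q ≠ ⊥ ∧ Q ∈ maxInvSubgroups ⊤ A {q} ∧
        Subgroup.normalizer (Q : Set G) = H := by
    intro H hH hAH hqH
    refine typeA_sylow hG hTH hH hAH (hnoB H hH hAH) hq hqH ?_
    intro r hr hrH
    exact hqmax r ((hPr r).mpr ⟨H, hH, hAH, hr, hrH⟩)
  obtain ⟨Q, hQ1, hQ, hNQ⟩ := key L hL hAL hqY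
  -- an elementary abelian subgroup of order `p ^ 3` of `A`
  obtain ⟨E, hEe, hEA, hEcard⟩ := exists_EA_of_not_pRankLE p hA3
  have hEp : IsPGroup p ↥E := Cfsg.Agent.Lib.Helper61.bg_isPGroup_of_isEA hEe
  obtain ⟨n, hn⟩ := IsPGroup.iff_card.mp hEp
  have hn3 : 3 ≤ n := by
    rw [hn] at hEcard
    have := (Nat.pow_lt_pow_iff_right hpp.one_lt).mp hEcard
    omega
  obtain ⟨E₀', hE₀'⟩ := Sylow.exists_subgroup_card_pow_prime (G := ↥E) p (n := 3)
    (by rw [hn]; exact pow_dvd_pow p hn3)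
  obtain ⟨E₀, hE₀def⟩ : ∃ E₀ : Subgroup G, E₀ = E₀'.map E.subtype := ⟨_, rfl⟩
  have hE₀E : E₀ ≤ E := hE₀def ▸ Subgroup.map_subtype_le _
  have hE₀card : Nat.card E₀ = p ^ 3 := by
    rw [hE₀def, Subgroup.card_map_of_injective E.subtype_injective, hE₀']
  have hE₀ : IsElementaryAbelian p E₀ := isEA_of_le hEe hE₀E
  have hE₀A : E₀ ≤ A := hE₀E.trans hEA
  have hpq : p ≠ q := by
    rintro rfl
    apply hqA
    obtain ⟨m, hm⟩ := IsPGroup.iff_card.mp hAp
    have hm0 : m ≠ 0 := by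
      rintro rfl
      rw [pow_zero] at hm
      exact hA1 (Subgroup.card_eq_one.mp hm)
    exact hm ▸ dvd_pow_self p hm0
  obtain ⟨B, hBE, hBcard, V₂, hV₂Q, hV₂ne, hV₂⟩ :=
    exists_rank_two_fixed hpq hQ hQ1 hE₀A hE₀ hE₀card
  have hBA : B ≤ A := hBE.trans hE₀A
  have hBe : IsElementaryAbelian p B := isEA_of_le hE₀ hBE
  have hBnc : ¬ IsCyclic ↥B := by
    apply Cfsg.Agent.Lib.Helper61.bg_not_isCyclic_of_EA hpp hBe
    have : p < p ^ 2 := by
      have := hpp.one_lt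
      nlinarith
    omega
  -- the `A`-invariant fixed-point group `C_Q(B)`
  obtain ⟨V, hVdef⟩ : ∃ V : Subgroup G, V = Q ⊓ Subgroup.centralizer (B : Set G) := ⟨_, rfl⟩
  have hVQ : V ≤ Q := hVdef ▸ inf_le_left
  have hVB : V ≤ Subgroup.centralizer (B : Set G) := hVdef ▸ inf_le_right
  have hV1 : V ≠ ⊥ := by
    intro h
    apply hV₂ne
    have hle : V₂ ≤ V := by
      rw [hVdef]
      refine le_inf hV₂Q (fun v hv => ?_)
      rw [Subgroup.mem_centralizer_iff]
      intro x hx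
      exact (mem_centralizer_singleton.mp (hV₂ x hx hv))
    rw [h] at hle
    exact le_bot_iff.mp hle
  have hQp : IsPGroup q ↥Q := isPGroup_of_mem_inv hQ.1
  have hVp : IsPGroup q ↥V := hQp.to_le hVQ
  have hAB : A ≤ Subgroup.centralizer (B : Set G) := by
    intro a ha
    rw [Subgroup.mem_centralizer_iff]
    intro b hb
    exact hAcomm b (hBA hb) a ha
  have hAV : A ≤ Subgroup.normalizer (V : Set G) := by
    rw [hVdef]
    exact le_normalizer_inf hQ.1.2.2 (hAB.trans Subgroup.le_normalizer)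
  have hqV : q ∣ Nat.card ↥V := by
    obtain ⟨m, hm⟩ := IsPGroup.iff_card.mp hVp
    have hm0 : m ≠ 0 := by
      rintro rfl
      rw [pow_zero] at hm
      exact hV1 (Subgroup.card_eq_one.mp hm)
    exact hm ▸ dvd_pow_self q hm0
  have hVπ : ∀ d : ℕ, d.Prime → d ∣ Nat.card ↥V → d ∈ primesNotDvd (Nat.card A) := by
    intro d hd hdV
    obtain ⟨m, hm⟩ := IsPGroup.iff_card.mp hVp
    rw [hm] at hdV
    have : d = q := (Nat.prime_dvd_prime_iff_eq hd hq).mp (hd.dvd_of_dvd_pow hdV)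
    rw [this]; exact hqπ
  -- every centralizer of a nonidentity element of `B` lies in `L`
  have hcent : ∀ b ∈ B, b ≠ 1 → Subgroup.centralizer ({b} : Set G) ≤ L := by
    intro b hb hb1
    have hCtop : Subgroup.centralizer ({b} : Set G) ≠ ⊤ := centralizer_singleton_ne_top hG hb1
    obtain ⟨H, hH, hCH⟩ := Cfsg.Agent.Lib.Helper61.bg_exists_isCoatom_ge hCtop
    have hAC : A ≤ Subgroup.centralizer ({b} : Set G) := by
      intro a ha
      rw [mem_centralizer_singleton]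
      exact hAcomm b (hBA hb) a ha
    have hAH : A ≤ H := hAC.trans hCH
    have hVC : V ≤ Subgroup.centralizer ({b} : Set G) :=
      hVB.trans (Subgroup.centralizer_le (Set.singleton_subset_iff.mpr hb))
    have hVH : V ≤ H := hVC.trans hCH
    have hVY : V ≤ piCoreOf (primesNotDvd (Nat.card A)) H :=
      le_piCoreOf_of_mem_inv hTH hH.1 hAH ⟨hVH, hVπ, hAV⟩
    have hqH : q ∣ Nat.card (piCoreOf (primesNotDvd (Nat.card A)) H) :=
      hqV.trans (Subgroup.card_dvd_of_le hVY)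
    obtain ⟨QH, -, hQH, hNQH⟩ := key H hH hAH hqH
    obtain ⟨k, hk, hkeq⟩ := htr Q hQ QH hQH
    have hkC : k ∈ Subgroup.centralizer ({b} : Set G) := by
      have h1 : k ∈ Subgroup.centralizer (A : Set G) := piCoreOf_le _ _ hk
      rw [mem_centralizer_singleton]
      exact Subgroup.mem_centralizer_iff.mp h1 b (hBA hb)
    have hkN : k ∈ Subgroup.normalizer (QH : Set G) := hNQH ▸ hCH hkC
    have h2 : QH.map (MulAut.conj k⁻¹).toMonoidHom = QH :=
      mapConj_eq_of_mem_normalizer (Subgroup.inv_mem _ hkN)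
    have h3 : QH = Q := by
      rw [← h2, hkeq, mapConj_mul, inv_mul_cancel, mapConj_one]
    rw [h3, hNQ] at hNQH
    rw [hNQH]
    exact hCH
  have hBU : InUniqueMaximal B :=
    Cfsg.Agent.S1398.result hG L hL p B (hBA.trans hAL) hBe hBnc (Or.inl hcent)
  exact Cfsg.Agent.Lib.Helper61.bg_unique_of_le' hBU hBA hAtop

end Cfsg.Agent.Lib.Helper75.BG95
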