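import Mathlib
import Cfsg.Prelude.Def_Characters
import Cfsg.Prelude.Def_Blocks
import Cfsg.Agent.Lib.Helper3.CharValues
import Cfsg.Agent.Lib.Helper15.LinChar
import Cfsg.Agent.Lib.Helper80.CharOps
import Cfsg.Agent.Lib.Helper80.CharKer
import Cfsg.Agent.Lib.Helper80.Gagola
import Cfsg.Agent.Lib.Helper82.Ito
import Cfsg.Agent.Lib.Helper82.AbelianSylow
import Cfsg.Agent.Lib.Helper75.CharDecomp
import Cfsg.Agent.Lib.Helper75.CharInd
import Cfsg.Agent.Lib.Helper75.Clifford
import Cfsg.Agent.Lib.Helper75.CliffordCorr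

/-!
# Ito's theorem for solvable groups: `p`-prime character degrees force a normal abelian Sylow
`p`-subgroup
-/

set_option autoImplicit false
set_option linter.style.haveILetI false

namespace Cfsg.Agent.Lib.Helper75

open Cfsg.Agent.Lib.Helper3

universe u

section

variable {G : Type u} [Group G]

/-- every irreducible character of a subgroup lies under an irreducible character of the group -/
theorem exists_irr_over [Fintype G] (K : Subgroup G) [Fintype K] {ψ : K → ℂ}
    (hψ : Cfsg.IsIrrCharacter K ψ) :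
    ∃ χ : G → ℂ, Cfsg.IsIrrCharacter G χ ∧ Cfsg.classInner (fun n : K => χ n) ψ ≠ 0 := by
  classical
  haveI : Fintype (Cfsg.IrrCharacter G) := Fintype.ofFinite _
  have hψch := isCharacter_of_irr hψ
  have hind := isCharacter_indFun K hψch
  obtain ⟨m, hm, hsum⟩ := char_eq_sum_irr hind
  have h1 : Cfsg.indFun K ψ 1 ≠ 0 := by
    rw [indFun_one]
    refine mul_ne_zero (Nat.cast_ne_zero.2 ?_) (Cfsg.Agent.Lib.Helper80.char_one_ne_zero hψ)
    exact Subgroup.index_ne_zero_of_finite
  obtain ⟨χ, hχ⟩ : ∃ χ : Cfsg.IrrCharacter G, m χ ≠ 0 := by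
    by_contra hcon
    have hall : ∀ χ, m χ = 0 := fun χ => by
      by_contra h
      exact hcon ⟨χ, h⟩
    have := congrFun hsum 1
    simp only [hall, Nat.cast_zero, zero_smul, Finset.sum_const_zero, Pi.zero_apply] at this
    exact h1 this
  have hχch := isCharacter_of_irr χ.2
  have hχc := isClassFunction_of_isCharacter hχch
  refine ⟨χ.1, χ.2, ?_⟩
  have h2 := hm χ
  rw [frobenius_reciprocity K _ hχc] at h2
  rw [classInner_conj_symm, h2]
  simpa using hχ

/-- Clifford: the degree of `χ` over `ψ ∈ Irr(K)`, `K` normal -/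
theorem charDegree_eq_mul_of_over [Fintype G] (K : Subgroup G) [K.Normal] [Fintype K] {χ : G → ℂ}
    (hχ : Cfsg.IsIrrCharacter G χ) {ψ : K → ℂ} (hψ : Cfsg.IsIrrCharacter K ψ)
    (h : Cfsg.classInner (fun n : K => χ n) ψ ≠ 0) :
    ∃ e : ℕ, Cfsg.charDegree χ = e * (inertia K ψ).index * Cfsg.charDegree ψ := by
  have hone := res_one_eq K hχ hψ h
  obtain ⟨e, he⟩ := classInner_char_nat (isCharacter_res K (isCharacter_of_irr hχ))
    (isCharacter_of_irr hψ)
  rw [he, card_constit_eq_index_inertia K hχ hψ h,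
    Cfsg.Agent.Lib.Helper80.char_one_eq_charDegree (isCharacter_of_irr hχ),
    Cfsg.Agent.Lib.Helper80.char_one_eq_charDegree (isCharacter_of_irr hψ)] at hone
  exact ⟨e, by exact_mod_cast hone⟩

variable [Finite G]

/-- `p`-prime degrees pass to normal subgroups -/
theorem not_dvd_degree_of_normal (p : ℕ)
    (hdeg : ∀ χ : Cfsg.IrrCharacter G, ¬ p ∣ Cfsg.charDegree (χ : G → ℂ))
    (K : Subgroup G) [K.Normal] (ψ : Cfsg.IrrCharacter K) :
    ¬ p ∣ Cfsg.charDegree (ψ : K → ℂ) := by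
  classical
  haveI := Fintype.ofFinite G
  haveI := Fintype.ofFinite K
  obtain ⟨χ, hχ, h⟩ := exists_irr_over K ψ.2
  obtain ⟨e, he⟩ := charDegree_eq_mul_of_over K hχ ψ.2 h
  intro hp
  exact hdeg ⟨χ, hχ⟩ (by rw [he]; exact Dvd.dvd.mul_left hp _)

omit [Finite G] in
/-- `p`-prime degrees pass to quotients -/
theorem not_dvd_degree_of_quotient (p : ℕ)
    (hdeg : ∀ χ : Cfsg.IrrCharacter G, ¬ p ∣ Cfsg.charDegree (χ : G → ℂ))
    (M : Subgroup G) [M.Normal] (ψ : Cfsg.IrrCharacter (G ⧸ M)) :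
    ¬ p ∣ Cfsg.charDegree (ψ : G ⧸ M → ℂ) := by
  have h := Cfsg.Agent.Lib.Helper80.isIrrCharacter_comp (QuotientGroup.mk' M)
    (QuotientGroup.mk'_surjective M) ψ.2
  exact hdeg ⟨_, h⟩

/-- an abelian normal subgroup of `p`-power index is central when all degrees are prime to `p` -/
theorem le_center_of_not_dvd_degree (p : ℕ) (hp : p.Prime)
    (hdeg : ∀ χ : Cfsg.IrrCharacter G, ¬ p ∣ Cfsg.charDegree (χ : G → ℂ))
    (M : Subgroup G) [hM : M.Normal] (hab : ∀ a ∈ M, ∀ b ∈ M, a * b = b * a) (k : ℕ)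
    (hidx : M.index = p ^ k) : M ≤ Subgroup.center G := by
  classical
  haveI := Fintype.ofFinite G
  haveI := Fintype.ofFinite M
  have hcomm : ∀ a b : M, a * b = b * a := fun a b => Subtype.ext (hab a a.2 b b.2)
  have hinv : ∀ (lam : Cfsg.IrrCharacter M) (g : G) (n : M),
      (lam : M → ℂ) ⟨g * n * g⁻¹, hM.conj_mem n n.2 g⟩ = (lam : M → ℂ) n := by
    intro lam
    obtain ⟨χ, hχ, h⟩ := exists_irr_over M lam.2
    obtain ⟨e, he⟩ := charDegree_eq_mul_of_over M hχ lam.2 h
    have h1 : ¬ p ∣ (inertia M (lam : M → ℂ)).index := by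
      intro hdvd
      exact hdeg ⟨χ, hχ⟩ (by rw [he]; exact Dvd.dvd.mul_right (Dvd.dvd.mul_left hdvd _) _)
    have h2 : (inertia M (lam : M → ℂ)).index ∣ p ^ k := by
      rw [← hidx]
      exact Subgroup.index_dvd_of_le
        (le_inertia M (isClassFunction_of_isCharacter (isCharacter_of_irr lam.2)))
    have h3 : (inertia M (lam : M → ℂ)).index = 1 := by
      obtain ⟨j, _, hj⟩ := (Nat.dvd_prime_pow hp).1 h2
      rcases Nat.eq_zero_or_pos j with h0 | hpos
      · rw [hj, h0, pow_zero]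
      · exfalso
        apply h1
        rw [hj]
        exact dvd_pow_self p hpos.ne'
    have h4 : inertia M (lam : M → ℂ) = ⊤ := Subgroup.index_eq_one.1 h3
    intro g n
    have : g ∈ inertia M (lam : M → ℂ) := by rw [h4]; exact Subgroup.mem_top g
    exact (mem_inertia_iff' M _ g).1 this n
  intro m hm
  rw [Subgroup.mem_center_iff]
  intro g
  have hc : (⟨g * m * g⁻¹, hM.conj_mem m hm g⟩ : M) * (⟨m, hm⟩ : M)⁻¹ = 1 := by
    apply Cfsg.Agent.Lib.Helper80.eq_one_of_forall_irr_eq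
    intro lam
    have hlin : (lam : M → ℂ) 1 = 1 := Cfsg.Agent.Lib.Helper82.irr_one_eq_one_of_comm hcomm lam.2
    have hlc := isCharacter_of_irr lam.2
    rw [Cfsg.Agent.Lib.Helper15.linChar_mul hlc hlin, hinv lam g ⟨m, hm⟩,
      ← Cfsg.Agent.Lib.Helper15.linChar_mul hlc hlin, mul_inv_cancel]
  have hc' := congrArg Subtype.val hc
  simp only [Subgroup.coe_mul, Subgroup.coe_inv, Subgroup.coe_one] at hc'
  have h5 : g * m * g⁻¹ = m := by rwa [mul_inv_eq_one] at hc'
  calc g * m = g * m * g⁻¹ * g := by group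
    _ = m * g := by rw [h5]

/-- a normal `p`-subgroup is abelian when all degrees are prime to `p` -/
theorem comm_of_pgroup_of_not_dvd_degree (p : ℕ) (hp : p.Prime)
    (hdeg : ∀ χ : Cfsg.IrrCharacter G, ¬ p ∣ Cfsg.charDegree (χ : G → ℂ))
    (P : Subgroup G) [P.Normal] (hP : IsPGroup p P) : ∀ a ∈ P, ∀ b ∈ P, a * b = b * a := by
  classical
  haveI : Fact p.Prime := ⟨hp⟩
  have hlin : ∀ ψ : Cfsg.IrrCharacter P, (ψ : P → ℂ) 1 = 1 := by
    intro ψ
    have h1 := not_dvd_degree_of_normal p hdeg P ψ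
    have h2 : Cfsg.charDegree (ψ : P → ℂ) ∣ Nat.card P := by
      have := Cfsg.Agent.Lib.Helper82.ito_charDegree_dvd ψ.2 (⊥ : Subgroup P)
        (by intro a ha b hb; rw [Subgroup.mem_bot] at ha hb; rw [ha, hb])
      rwa [Subgroup.index_bot] at this
    obtain ⟨n, hn⟩ := IsPGroup.iff_card.1 hP
    rw [hn] at h2
    obtain ⟨j, _, hj⟩ := (Nat.dvd_prime_pow hp).1 h2
    have hj0 : j = 0 := by
      by_contra h
      apply h1
      rw [hj]
      exact dvd_pow_self p h
    rw [Cfsg.Agent.Lib.Helper80.char_one_eq_charDegree (isCharacter_of_irr ψ.2), hj, hj0,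
      pow_zero, Nat.cast_one]
  intro a ha b hb
  have hc : (⟨a, ha⟩ : P) * ⟨b, hb⟩ * (⟨a, ha⟩ : P)⁻¹ * (⟨b, hb⟩ : P)⁻¹ = 1 := by
    apply Cfsg.Agent.Lib.Helper80.eq_one_of_forall_irr_eq
    intro ψ
    have hψc := isCharacter_of_irr ψ.2
    have h1 := hlin ψ
    rw [Cfsg.Agent.Lib.Helper15.linChar_mul hψc h1, Cfsg.Agent.Lib.Helper15.linChar_mul hψc h1,
      Cfsg.Agent.Lib.Helper15.linChar_mul hψc h1, Cfsg.Agent.Lib.Helper15.linChar_inv hψc h1,
      Cfsg.Agent.Lib.Helper15.linChar_inv hψc h1, h1]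
    have ha0 := Cfsg.Agent.Lib.Helper15.linChar_ne_zero hψc h1 ⟨a, ha⟩
    have hb0 := Cfsg.Agent.Lib.Helper15.linChar_ne_zero hψc h1 ⟨b, hb⟩
    field_simp
  have hc' := congrArg Subtype.val hc
  simp only [Subgroup.coe_mul, Subgroup.coe_inv, Subgroup.coe_one] at hc'
  have h5 : a * b * a⁻¹ = b := by rwa [mul_inv_eq_one] at hc'
  calc a * b = a * b * a⁻¹ * a := by group
    _ = b * a := by rw [h5]

omit [Finite G] in
/-- a nontrivial solvable group has a nontrivial abelian normal subgroup -/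
theorem exists_normal_abelian_ne_bot (hsolv : Group.IsSolvable G) [Nontrivial G] :
    ∃ M : Subgroup G, M.Normal ∧ M ≠ ⊥ ∧ ∀ a ∈ M, ∀ b ∈ M, a * b = b * a := by
  classical
  have hex : ∃ n, derivedSeries G n = ⊥ := hsolv.solvable
  have hn : derivedSeries G (Nat.find hex) = ⊥ := Nat.find_spec hex
  have hn0 : Nat.find hex ≠ 0 := by
    intro h0
    rw [h0, derivedSeries_zero] at hn
    exact top_ne_bot hn
  obtain ⟨k, hk⟩ := Nat.exists_eq_succ_of_ne_zero hn0
  refine ⟨derivedSeries G k, derivedSeries_normal G k, ?_, ?_⟩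
  · intro h
    have : Nat.find hex ≤ k := Nat.find_min' hex h
    omega
  · intro a ha b hb
    have h1 : derivedSeries G (k + 1) = ⊥ := by
      rw [← Nat.succ_eq_add_one, ← hk]
      exact hn
    rw [derivedSeries_succ, Subgroup.commutator_eq_bot_iff_le_centralizer] at h1
    exact ((Subgroup.mem_centralizer_iff.1 (h1 ha)) b hb).symm

end

/-- **Ito, solvable case**: if `p` divides no irreducible character degree of the solvable
group `G`, then `G` has a normal Sylow `p`-subgroup -/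
theorem exists_normal_sylow_of_not_dvd_degree (p : ℕ) (hp : p.Prime) :
    ∀ (n : ℕ) (G : Type u) [Group G] [Finite G], Nat.card G = n → Group.IsSolvable G →
      (∀ χ : Cfsg.IrrCharacter G, ¬ p ∣ Cfsg.charDegree (χ : G → ℂ)) →
      ∃ P : Subgroup G, P.Normal ∧ IsPGroup p P ∧ ¬ p ∣ P.index := by
  haveI : Fact p.Prime := ⟨hp⟩
  intro n
  induction n using Nat.strong_induction_on with
  | _ n ih =>
  intro G _ _ hcard hsolv hdeg
  haveI := hsolv
  rcases subsingleton_or_nontrivial G with hsub | hnt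
  · refine ⟨⊥, inferInstance, IsPGroup.of_bot, ?_⟩
    rw [Subgroup.index_bot, Nat.card_of_subsingleton (1 : G)]
    exact hp.not_dvd_one
  obtain ⟨M, hMn, hMne, hMab⟩ := exists_normal_abelian_ne_bot hsolv
  haveI := hMn
  have hcardQ : Nat.card (G ⧸ M) < n := by
    rw [← hcard, ← Subgroup.index_eq_card, ← Subgroup.card_mul_index M]
    have h1 : 1 < Nat.card M := (Subgroup.one_lt_card_iff_ne_bot M).2 hMne
    have h2 : 0 < M.index := Nat.pos_of_ne_zero Subgroup.index_ne_zero_of_finite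
    nlinarith
  obtain ⟨Pbar, hPbarN, hPbarP, hPbarI⟩ := ih (Nat.card (G ⧸ M)) hcardQ (G ⧸ M) rfl inferInstance
    (not_dvd_degree_of_quotient p hdeg M)
  haveI := hPbarN
  obtain ⟨K, hKdef⟩ : ∃ K : Subgroup G, K = Pbar.comap (QuotientGroup.mk' M) := ⟨_, rfl⟩
  haveI hKn : K.Normal := by rw [hKdef]; infer_instance
  have hKidx : K.index = Pbar.index := by
    rw [hKdef]
    exact Subgroup.index_comap_of_surjective Pbar (QuotientGroup.mk'_surjective M)
  by_cases hKtop : K = ⊤
  · have hPtop : Pbar = ⊤ := by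
      apply Subgroup.index_eq_one.1
      rw [← hKidx, hKtop, Subgroup.index_top]
    have hQp : IsPGroup p (G ⧸ M) := by
      intro x
      obtain ⟨k, hk⟩ := hPbarP ⟨x, by rw [hPtop]; exact Subgroup.mem_top x⟩
      exact ⟨k, by simpa [Subtype.ext_iff] using hk⟩
    obtain ⟨k, hk⟩ := IsPGroup.iff_card.1 hQp
    rw [← Subgroup.index_eq_card] at hk
    have hcen := le_center_of_not_dvd_degree p hp hdeg M hMab k hk
    have hZp : IsPGroup p (G ⧸ Subgroup.center G) := by
      intro x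
      obtain ⟨g, rfl⟩ := QuotientGroup.mk_surjective x
      refine ⟨k, ?_⟩
      rw [← QuotientGroup.mk_pow, QuotientGroup.eq_one_iff]
      apply hcen
      rw [← hk]
      exact Subgroup.pow_index_mem M g
    haveI : Group.IsNilpotent (G ⧸ Subgroup.center G) := hZp.isNilpotent
    haveI : Group.IsNilpotent G := Group.of_quotient_center_nilpotent inferInstance
    obtain ⟨S⟩ : Nonempty (Sylow p G) := inferInstance
    exact ⟨S, inferInstance, S.isPGroup', S.not_dvd_index⟩
  · have hcardK : Nat.card K < n := by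
      rw [← hcard, ← Subgroup.card_mul_index K]
      have h1 : K.index ≠ 1 := fun h => hKtop (Subgroup.index_eq_one.1 h)
      have h2 : K.index ≠ 0 := Subgroup.index_ne_zero_of_finite
      have h3 : 0 < Nat.card K := Nat.card_pos
      have h4 : 2 ≤ K.index := by omega
      nlinarith
    obtain ⟨P₀, hP₀N, hP₀P, hP₀I⟩ := ih _ hcardK K rfl inferInstance
      (not_dvd_degree_of_normal p hdeg K)
    haveI := hP₀N
    have hSn : (↑(hP₀P.toSylow hP₀I) : Subgroup K).Normal := by
      rw [IsPGroup.toSylow_coe]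
      exact hP₀N
    have hchar := Sylow.characteristic_of_normal (hP₀P.toSylow hP₀I) hSn
    rw [IsPGroup.toSylow_coe] at hchar
    haveI := hchar
    refine ⟨P₀.map K.subtype, ConjAct.normal_of_characteristic_of_normal, hP₀P.map _, ?_⟩
    rw [Subgroup.index_map_subtype]
    intro hdvd
    rcases (Nat.Prime.dvd_mul hp).1 hdvd with h | h
    · exact hP₀I h
    · exact hPbarI (hKidx ▸ h)

end Cfsg.Agent.Lib.Helper75
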