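import Mathlib
import Cfsg.Prelude.Def_Characters
import Cfsg.Prelude.Def_Blocks
import Cfsg.Agent.Lib.Helper3.CharValues
import Cfsg.Agent.Lib.Helper79.Schur
import Cfsg.Agent.Lib.Helper81.CharOps
import Cfsg.Agent.Lib.Helper80.CharOps
import Cfsg.Agent.Lib.Helper75.CharDecomp
import Cfsg.Agent.Lib.Helper75.CharInd
import Cfsg.Agent.Lib.Helper75.Clifford
import Cfsg.Agent.Lib.Helper75.CliffordCorr

set_option autoImplicit false
set_option linter.unusedSectionVars false
set_option linter.style.haveILetI false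

namespace Cfsg.Agent.Lib.Helper75

open Representation Module
open Cfsg.Agent.Lib.Helper3
open scoped ComplexConjugate

universe u

variable {G : Type u} [Group G] (N : Subgroup G) [hN : N.Normal] {d : ℕ}
  (Y : Representation ℂ N (Fin d → ℂ))

/-- The central extension `Ĝ` of `G` attached to a representation `Y` of the normal subgroup
`N`: pairs `(g, A)` where `A` intertwines `Y` with its `g`-conjugate, `A Y(n) A⁻¹ = Y(g n g⁻¹)`,
and `det A` is a `|G|`-th root of unity. -/
def centExt : Subgroup (G × (Module.End ℂ (Fin d → ℂ))ˣ) where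
  carrier := {p | (∀ n : N, (p.2 : Module.End ℂ (Fin d → ℂ)) * Y n =
      Y (MulAut.conjNormal p.1 n) * (p.2 : Module.End ℂ (Fin d → ℂ))) ∧
    LinearMap.det (p.2 : Module.End ℂ (Fin d → ℂ)) ^ Nat.card G = 1}
  mul_mem' := by
    rintro ⟨g, A⟩ ⟨h, B⟩ ⟨hA, hA'⟩ ⟨hB, hB'⟩
    refine ⟨fun n => ?_, ?_⟩
    · show ((A * B : (Module.End ℂ (Fin d → ℂ))ˣ) : Module.End ℂ (Fin d → ℂ)) * Y n =
        Y (MulAut.conjNormal (g * h) n) * ((A * B : (Module.End ℂ (Fin d → ℂ))ˣ) : Module.End ℂ (Fin d → ℂ))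
      rw [Units.val_mul, mul_assoc, hB n, ← mul_assoc, hA, map_mul, MulAut.mul_apply, mul_assoc]
    · show LinearMap.det ((A * B : (Module.End ℂ (Fin d → ℂ))ˣ) : Module.End ℂ (Fin d → ℂ)) ^ Nat.card G = 1
      rw [Units.val_mul, map_mul, mul_pow, hA', hB', one_mul]
  one_mem' := by
    refine ⟨fun n => ?_, ?_⟩
    · show ((1 : (Module.End ℂ (Fin d → ℂ))ˣ) : Module.End ℂ (Fin d → ℂ)) * Y n =
        Y (MulAut.conjNormal (1 : G) n) * ((1 : (Module.End ℂ (Fin d → ℂ))ˣ) : Module.End ℂ (Fin d → ℂ))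
      rw [map_one, Units.val_one, one_mul, mul_one]
      rfl
    · show LinearMap.det ((1 : (Module.End ℂ (Fin d → ℂ))ˣ) : Module.End ℂ (Fin d → ℂ)) ^ Nat.card G = 1
      rw [Units.val_one, map_one, one_pow]
  inv_mem' := by
    rintro ⟨g, A⟩ ⟨hA, hA'⟩
    refine ⟨fun n => ?_, ?_⟩
    · show ((A⁻¹ : (Module.End ℂ (Fin d → ℂ))ˣ) : Module.End ℂ (Fin d → ℂ)) * Y n =
        Y (MulAut.conjNormal g⁻¹ n) * ((A⁻¹ : (Module.End ℂ (Fin d → ℂ))ˣ) : Module.End ℂ (Fin d → ℂ))
      rw [Units.inv_mul_eq_iff_eq_mul, ← mul_assoc, Units.eq_mul_inv_iff_mul_eq]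
      have := hA (MulAut.conjNormal g⁻¹ n)
      rw [← MulAut.mul_apply, ← map_mul, mul_inv_cancel, map_one] at this
      exact this.symm
    · show LinearMap.det ((A⁻¹ : (Module.End ℂ (Fin d → ℂ))ˣ) : Module.End ℂ (Fin d → ℂ)) ^ Nat.card G = 1
      have h1 : LinearMap.det ((A⁻¹ : (Module.End ℂ (Fin d → ℂ))ˣ) : Module.End ℂ (Fin d → ℂ)) *
          LinearMap.det (A : Module.End ℂ (Fin d → ℂ)) = 1 := by
        rw [← map_mul, ← Units.val_mul, inv_mul_cancel, Units.val_one, map_one]
      have h2 := congrArg (fun z : ℂ => z ^ Nat.card G) h1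
      simp only [mul_pow, hA', mul_one, one_pow] at h2
      exact h2

theorem mem_centExt (p : G × (Module.End ℂ (Fin d → ℂ))ˣ) :
    p ∈ centExt N Y ↔ (∀ n : N, (p.2 : Module.End ℂ (Fin d → ℂ)) * Y n =
      Y (MulAut.conjNormal p.1 n) * (p.2 : Module.End ℂ (Fin d → ℂ))) ∧
    LinearMap.det (p.2 : Module.End ℂ (Fin d → ℂ)) ^ Nat.card G = 1 := Iff.rfl

/-- the projection `Ĝ → G` -/
def centExtProj : centExt N Y →* G := (MonoidHom.fst G _).comp (centExt N Y).subtype

/-- the tautological representation of `Ĝ` -/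
def centExtRep : Representation ℂ (centExt N Y) (Fin d → ℂ) :=
  ((Units.coeHom (Module.End ℂ (Fin d → ℂ))).comp (MonoidHom.snd G _)).comp (centExt N Y).subtype

theorem centExtProj_apply (x : centExt N Y) : centExtProj N Y x = x.1.1 := rfl

theorem centExtRep_apply (x : centExt N Y) :
    centExtRep N Y x = (x.1.2 : Module.End ℂ (Fin d → ℂ)) := rfl

/-- the defining intertwining relation -/
theorem centExtRep_mul (x : centExt N Y) (n : N) :
    centExtRep N Y x * Y n = Y (MulAut.conjNormal (centExtProj N Y x) n) * centExtRep N Y x :=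
  x.2.1 n

/-- two irreducible representations with the same character are equivalent -/
theorem nonempty_equiv_of_character_eq {H : Type*} [Group H] [Finite H] {V W : Type*}
    [AddCommGroup V] [Module ℂ V] [FiniteDimensional ℂ V] [AddCommGroup W] [Module ℂ W]
    [FiniteDimensional ℂ W] (ρ : Representation ℂ H V) (σ : Representation ℂ H W)
    [ρ.IsIrreducible] [σ.IsIrreducible] (h : ρ.character = σ.character) :
    Nonempty (Representation.Equiv σ ρ) := by
  classical
  haveI : Fintype H := Fintype.ofFinite H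
  haveI : Invertible (Nat.card H : ℂ) :=
    invertibleOfNonzero (by exact_mod_cast (Nat.card_pos (α := H)).ne')
  have h1 := char_orthonormal ρ σ
  have h2 := char_orthonormal ρ ρ
  rw [if_pos ⟨Representation.Equiv.refl ρ⟩] at h2
  rw [← h, h2] at h1
  by_contra hne
  rw [if_neg hne] at h1
  exact one_ne_zero h1

/-- the scalar operators, as units -/
def scalarUnit (c : ℂˣ) : (Module.End ℂ (Fin d → ℂ))ˣ :=
  Units.map (algebraMap ℂ (Module.End ℂ (Fin d → ℂ))).toMonoidHom c

theorem scalarUnit_val (c : ℂˣ) :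
    ((scalarUnit c : (Module.End ℂ (Fin d → ℂ))ˣ) : Module.End ℂ (Fin d → ℂ)) =
      (c : ℂ) • (1 : Module.End ℂ (Fin d → ℂ)) := by
  show algebraMap ℂ (Module.End ℂ (Fin d → ℂ)) (c : ℂ) = _
  rw [Algebra.algebraMap_eq_smul_one]

theorem det_smul_one (c : ℂ) :
    LinearMap.det (c • (1 : Module.End ℂ (Fin d → ℂ))) = c ^ d := by
  rw [LinearMap.det_smul, Module.finrank_fin_fun]
  show c ^ d * LinearMap.det (LinearMap.id : (Fin d → ℂ) →ₗ[ℂ] (Fin d → ℂ)) = c ^ d
  rw [LinearMap.det_id, mul_one]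

section Finite

variable [Finite G]

/-- the inclusion `N → Ĝ`, `n ↦ (n, Y n)` -/
def centExtIncl : N →* centExt N Y where
  toFun n := ⟨((n : G), Y.toHomUnits n), by
    refine ⟨fun m => ?_, ?_⟩
    · show (Y.toHomUnits n : Module.End ℂ (Fin d → ℂ)) * Y m =
        Y (MulAut.conjNormal (n : G) m) * (Y.toHomUnits n : Module.End ℂ (Fin d → ℂ))
      rw [MonoidHom.coe_toHomUnits, ← map_mul, ← map_mul]
      congr 1
      apply Subtype.ext
      simp [MulAut.conjNormal_apply]
    · show LinearMap.det (Y.toHomUnits n : Module.End ℂ (Fin d → ℂ)) ^ Nat.card G = 1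
      rw [MonoidHom.coe_toHomUnits, ← map_pow, ← map_pow]
      have : n ^ Nat.card G = 1 := by
        apply Subtype.ext
        rw [Subgroup.coe_pow]
        exact pow_card_eq_one'
      rw [this, map_one, map_one]⟩
  map_one' := Subtype.ext (Prod.ext rfl (map_one _))
  map_mul' a b := Subtype.ext (Prod.ext rfl (map_mul _ a b))

theorem centExtProj_incl (n : N) : centExtProj N Y (centExtIncl N Y n) = n := rfl

theorem centExtRep_incl (n : N) : centExtRep N Y (centExtIncl N Y n) = Y n := rfl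

theorem centExtIncl_injective : Function.Injective (centExtIncl N Y) := by
  intro a b h
  apply Subtype.ext
  have := congrArg (centExtProj N Y) h
  rwa [centExtProj_incl, centExtProj_incl] at this

/-- conjugation in `Ĝ` acts on the image of `N` as conjugation by the image in `G` -/
theorem centExt_conj_incl (x : centExt N Y) (n : N) :
    x * centExtIncl N Y n * x⁻¹ = centExtIncl N Y (MulAut.conjNormal (centExtProj N Y x) n) := by
  apply Subtype.ext
  apply Prod.ext
  · rfl
  · apply Units.ext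
    show (x.1.2 : Module.End ℂ (Fin d → ℂ)) * Y n * ((x.1.2)⁻¹ : (Module.End ℂ (Fin d → ℂ))ˣ) =
      Y (MulAut.conjNormal x.1.1 n)
    rw [x.2.1 n, mul_assoc, Units.mul_inv, mul_one]

instance centExtIncl_range_normal : (centExtIncl N Y).range.Normal := by
  constructor
  rintro _ ⟨n, rfl⟩ x
  rw [centExt_conj_incl]
  exact ⟨_, rfl⟩

variable [hY : Y.IsIrreducible]

omit [Finite G] hN in
theorem centExt_d_pos {M : Type*} [Group M] {d : ℕ} (Y : Representation ℂ M (Fin d → ℂ))
    [Y.IsIrreducible] : 0 < d := by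
  have := Helper80.finrank_pos_of_isIrreducible Y
  rwa [Module.finrank_fin_fun] at this

/-- elements over `1` act as scalars (Schur) -/
theorem centExtRep_scalar (x : centExt N Y) (hx : centExtProj N Y x = 1) :
    ∃ c : ℂ, centExtRep N Y x = c • (1 : Module.End ℂ (Fin d → ℂ)) := by
  apply Helper80.schur_scalar Y
  intro n
  have := centExtRep_mul N Y x n
  rw [hx, map_one] at this
  exact this

/-- the kernel of `Ĝ → G` is central -/
theorem centExt_central (x : centExt N Y) (hx : centExtProj N Y x = 1) (y : centExt N Y) :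
    x * y = y * x := by
  obtain ⟨c, hc⟩ := centExtRep_scalar N Y x hx
  apply Subtype.ext
  apply Prod.ext
  · show x.1.1 * y.1.1 = y.1.1 * x.1.1
    have : x.1.1 = 1 := hx
    rw [this, one_mul, mul_one]
  · apply Units.ext
    show (x.1.2 : Module.End ℂ (Fin d → ℂ)) * (y.1.2 : Module.End ℂ (Fin d → ℂ)) =
      (y.1.2 : Module.End ℂ (Fin d → ℂ)) * (x.1.2 : Module.End ℂ (Fin d → ℂ))
    have h2 : (x.1.2 : Module.End ℂ (Fin d → ℂ)) = c • (1 : Module.End ℂ (Fin d → ℂ)) := hc
    rw [h2, smul_mul_assoc, one_mul, mul_smul_comm, mul_one]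

/-- the tautological representation of `Ĝ` is irreducible -/
instance centExtRep_irreducible : (centExtRep N Y).IsIrreducible := by
  haveI := Helper80.nontrivial_of_isIrreducible Y
  apply Helper81.isIrreducible_of_forall
  intro W hW
  apply Helper81.IsIrreducible.submodule_eq_bot_or_eq_top Y W
  intro n v hv
  exact hW (centExtIncl N Y n) v hv

/-- `Ĝ → G` is onto when the character of `Y` is `G`-invariant -/
theorem centExtProj_surjective
    (hinv : ∀ (g : G) (n : N), Y.character (MulAut.conjNormal g n) = Y.character n) :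
    Function.Surjective (centExtProj N Y) := by
  intro g
  let Yg : Representation ℂ N (Fin d → ℂ) := Y.comp (MulAut.conjNormal g : N ≃* N).toMonoidHom
  haveI : Yg.IsIrreducible := Helper81.isIrreducible_comp_mulEquiv (MulAut.conjNormal g : N ≃* N) Y
  have hchar : Yg.character = Y.character := funext (fun n => hinv g n)
  obtain ⟨φ⟩ := nonempty_equiv_of_character_eq Yg Y hchar
  let A₀ : (Module.End ℂ (Fin d → ℂ))ˣ :=
    LinearMap.GeneralLinearGroup.ofLinearEquiv φ.toLinearEquiv
  have hA₀ : ∀ n : N, (A₀ : Module.End ℂ (Fin d → ℂ)) * Y n =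
      Y (MulAut.conjNormal g n) * (A₀ : Module.End ℂ (Fin d → ℂ)) := by
    intro n
    exact φ.isIntertwining' n
  have hδ : LinearMap.det (A₀ : Module.End ℂ (Fin d → ℂ)) ≠ 0 := by
    intro h0
    have : LinearMap.det ((A₀⁻¹ : (Module.End ℂ (Fin d → ℂ))ˣ) : Module.End ℂ (Fin d → ℂ)) *
        LinearMap.det (A₀ : Module.End ℂ (Fin d → ℂ)) = 1 := by
      rw [← map_mul, ← Units.val_mul, inv_mul_cancel, Units.val_one, map_one]
    rw [h0, mul_zero] at this
    exact zero_ne_one this
  obtain ⟨c, hc⟩ := IsAlgClosed.exists_pow_nat_eq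
    (LinearMap.det (A₀ : Module.End ℂ (Fin d → ℂ)))⁻¹ (centExt_d_pos Y)
  have hc0 : c ≠ 0 := by
    rintro rfl
    rw [zero_pow (centExt_d_pos Y).ne'] at hc
    exact inv_ne_zero hδ hc.symm
  refine ⟨⟨(g, A₀ * scalarUnit (Units.mk0 c hc0)), ?_, ?_⟩, rfl⟩
  · intro n
    show ((A₀ * scalarUnit (Units.mk0 c hc0) : (Module.End ℂ (Fin d → ℂ))ˣ) :
        Module.End ℂ (Fin d → ℂ)) * Y n = Y (MulAut.conjNormal g n) *
      ((A₀ * scalarUnit (Units.mk0 c hc0) : (Module.End ℂ (Fin d → ℂ))ˣ) : Module.End ℂ (Fin d → ℂ))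
    simp only [Units.val_mul, scalarUnit_val, Units.val_mk0, mul_smul_comm, smul_mul_assoc,
      mul_one]
    rw [hA₀ n]
  · show LinearMap.det ((A₀ * scalarUnit (Units.mk0 c hc0) : (Module.End ℂ (Fin d → ℂ))ˣ) :
        Module.End ℂ (Fin d → ℂ)) ^ Nat.card G = 1
    rw [Units.val_mul, map_mul, scalarUnit_val, det_smul_one, Units.val_mk0, hc,
      mul_inv_cancel₀ hδ, one_pow]

/-- the kernel of `Ĝ → G` is finite -/
instance centExt_ker_finite : Finite (centExtProj N Y).ker := by
  have hM : 0 < d * Nat.card G := Nat.mul_pos (centExt_d_pos Y) Nat.card_pos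
  have hfin : Finite {c : ℂ // c ^ (d * Nat.card G) = 1} := by
    apply Set.finite_coe_iff.2
    exact (Polynomial.nthRootsFinset (d * Nat.card G) (1 : ℂ)).finite_toSet.subset
      (fun c hc => (Polynomial.mem_nthRootsFinset hM 1).2 hc)
  have hsc : ∀ z : (centExtProj N Y).ker, ∃ c : ℂ,
      centExtRep N Y z.1 = c • (1 : Module.End ℂ (Fin d → ℂ)) :=
    fun z => centExtRep_scalar N Y z.1 z.2
  choose c hc using hsc
  have hpow : ∀ z : (centExtProj N Y).ker, c z ^ (d * Nat.card G) = 1 := by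
    intro z
    have h1 : LinearMap.det (centExtRep N Y z.1) ^ Nat.card G = 1 := z.1.2.2
    rw [hc z, det_smul_one, ← pow_mul] at h1
    exact h1
  apply Finite.of_injective (fun z : (centExtProj N Y).ker =>
    (⟨c z, hpow z⟩ : {c : ℂ // c ^ (d * Nat.card G) = 1}))
  intro z z' h
  have h1 : c z = c z' := congrArg Subtype.val h
  apply Subtype.ext
  apply Subtype.ext
  apply Prod.ext
  · have e1 : z.1.1.1 = 1 := z.2
    have e2 : z'.1.1.1 = 1 := z'.2
    rw [e1, e2]
  · apply Units.ext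
    have e1 : (z.1.1.2 : Module.End ℂ (Fin d → ℂ)) = c z • 1 := hc z
    have e2 : (z'.1.1.2 : Module.End ℂ (Fin d → ℂ)) = c z' • 1 := hc z'
    rw [e1, e2, h1]

/-- `Ĝ` is finite -/
instance centExt_finite : Finite (centExt N Y) := by
  rw [finite_iff_subgroup_quotient (centExtProj N Y).ker]
  refine ⟨inferInstance, ?_⟩
  exact Finite.of_equiv _ (QuotientGroup.quotientKerEquivRange (centExtProj N Y)).symm.toEquiv

end Finite

end Cfsg.Agent.Lib.Helper75
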