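import Mathlib
import Cfsg.Prelude.Def_Characters
import Cfsg.Prelude.Def_Blocks
import Cfsg.Agent.Lib.Helper3.CharValues
import Cfsg.Agent.Lib.Helper80.CharOps
import Cfsg.Agent.Lib.Helper75.CharDecomp
import Cfsg.Agent.Lib.Helper75.CharInd
import Cfsg.Agent.Lib.Helper75.Clifford
import Cfsg.Agent.Lib.Helper75.CliffordCorr
import Cfsg.Agent.Lib.Helper75.CentExt

set_option autoImplicit false
set_option linter.unusedSectionVars false
set_option linter.style.haveILetI false

namespace Cfsg.Agent.Lib.Helper75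

open Representation Module
open Cfsg.Agent.Lib.Helper3
open scoped ComplexConjugate

universe u

/-- the `(i,i)` coefficient of an endomorphism (used to read off the scalar of a scalar
operator) -/
def scalarOf {d : ℕ} (i : Fin d) (T : Module.End ℂ (Fin d → ℂ)) : ℂ := T (Pi.single i 1) i

theorem scalarOf_smul_one {d : ℕ} (i : Fin d) (c : ℂ) :
    scalarOf i (c • (1 : Module.End ℂ (Fin d → ℂ))) = c := by
  simp [scalarOf]

variable {G : Type u} [Group G] [Finite G] (N : Subgroup G) [hN : N.Normal] {d : ℕ}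
  (Y : Representation ℂ N (Fin d → ℂ)) [hY : Y.IsIrreducible]

/-- the linear character `λ` of the (central) kernel of `Ĝ → G`: `z` acts as the scalar `λ z` -/
noncomputable def centExtLam : (centExtProj N Y).ker →* ℂˣ :=
  MonoidHom.toHomUnits
    { toFun := fun z => scalarOf ⟨0, centExt_d_pos Y⟩ (centExtRep N Y z.1)
      map_one' := by
        show scalarOf ⟨0, centExt_d_pos Y⟩ (centExtRep N Y 1) = 1
        rw [map_one]
        have := scalarOf_smul_one (⟨0, centExt_d_pos Y⟩ : Fin d) 1
        rwa [one_smul] at this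
      map_mul' := fun z z' => by
        obtain ⟨c, hc⟩ := centExtRep_scalar N Y z.1 z.2
        obtain ⟨c', hc'⟩ := centExtRep_scalar N Y z'.1 z'.2
        show scalarOf ⟨0, centExt_d_pos Y⟩ (centExtRep N Y (z.1 * z'.1)) =
          scalarOf ⟨0, centExt_d_pos Y⟩ (centExtRep N Y z.1) *
            scalarOf ⟨0, centExt_d_pos Y⟩ (centExtRep N Y z'.1)
        rw [map_mul, hc, hc', smul_mul_assoc, one_mul, smul_smul, scalarOf_smul_one,
          scalarOf_smul_one, scalarOf_smul_one] }

theorem centExtLam_spec (z : (centExtProj N Y).ker) :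
    centExtRep N Y z.1 = ((centExtLam N Y z : ℂˣ) : ℂ) • (1 : Module.End ℂ (Fin d → ℂ)) := by
  obtain ⟨c, hc⟩ := centExtRep_scalar N Y z.1 z.2
  have h1 : ((centExtLam N Y z : ℂˣ) : ℂ) = scalarOf ⟨0, centExt_d_pos Y⟩ (centExtRep N Y z.1) :=
    rfl
  rw [h1, hc, scalarOf_smul_one]

/-- **extension criterion**: a linear character of `Ĝ` trivial on `N` and inverse to `λ` on the
kernel of `Ĝ → G` produces a representation of `G` extending `Y` -/
theorem exists_extension_of_hom
    (hinv : ∀ (g : G) (n : N), Y.character (MulAut.conjNormal g n) = Y.character n)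
    (ν : centExt N Y →* ℂˣ) (h1 : ∀ n : N, ν (centExtIncl N Y n) = 1)
    (h2 : ∀ z : (centExtProj N Y).ker, ν z.1 * centExtLam N Y z = 1) :
    ∃ X : Representation ℂ G (Fin d → ℂ), X.IsIrreducible ∧ ∀ n : N, X n = Y n := by
  have hcomm : ∀ (c : ℂˣ) (A : (Module.End ℂ (Fin d → ℂ))ˣ), scalarUnit c * A = A * scalarUnit c := by
    intro c A
    apply Units.ext
    rw [Units.val_mul, Units.val_mul, scalarUnit_val, smul_mul_assoc, one_mul, mul_smul_comm,
      mul_one]
  let Xh : centExt N Y →* (Module.End ℂ (Fin d → ℂ))ˣ :=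
    { toFun := fun x => scalarUnit (ν x) * x.1.2
      map_one' := by
        rw [map_one]
        show scalarUnit 1 * (1 : (Module.End ℂ (Fin d → ℂ))ˣ) = 1
        rw [mul_one]
        exact map_one _
      map_mul' := fun x y => by
        show scalarUnit (ν (x * y)) * (x.1.2 * y.1.2) =
          scalarUnit (ν x) * x.1.2 * (scalarUnit (ν y) * y.1.2)
        have e1 : scalarUnit (d := d) (ν (x * y)) = scalarUnit (ν x) * scalarUnit (ν y) := by
          rw [map_mul]
          exact map_mul _ _ _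
        rw [e1, mul_assoc, mul_assoc, ← mul_assoc (scalarUnit (ν y)), hcomm (ν y) x.1.2,
          mul_assoc] }
  have hker : (centExtProj N Y).ker ≤ Xh.ker := by
    intro z hz
    rw [MonoidHom.mem_ker]
    apply Units.ext
    show ((scalarUnit (ν z) * z.1.2 : (Module.End ℂ (Fin d → ℂ))ˣ) : Module.End ℂ (Fin d → ℂ)) = 1
    have h3 := centExtLam_spec N Y ⟨z, hz⟩
    have h4 : (z.1.2 : Module.End ℂ (Fin d → ℂ)) =
        ((centExtLam N Y ⟨z, hz⟩ : ℂˣ) : ℂ) • (1 : Module.End ℂ (Fin d → ℂ)) := h3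
    rw [Units.val_mul, scalarUnit_val, h4, smul_mul_assoc, one_mul, smul_smul, ← Units.val_mul,
      h2 ⟨z, hz⟩, Units.val_one, one_smul]
  let Xt : G →* (Module.End ℂ (Fin d → ℂ))ˣ :=
    (centExtProj N Y).liftOfSurjective (centExtProj_surjective N Y hinv) ⟨Xh, hker⟩
  have hXt : ∀ x : centExt N Y, Xt (centExtProj N Y x) = Xh x := fun x =>
    MonoidHom.liftOfRightInverse_comp_apply _ _ _ ⟨Xh, hker⟩ x
  let X : Representation ℂ G (Fin d → ℂ) := (Units.coeHom (Module.End ℂ (Fin d → ℂ))).comp Xt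
  have hXN : ∀ n : N, X n = Y n := by
    intro n
    show ((Xt (n : G) : (Module.End ℂ (Fin d → ℂ))ˣ) : Module.End ℂ (Fin d → ℂ)) = Y n
    have h3 := hXt (centExtIncl N Y n)
    rw [centExtProj_incl] at h3
    rw [h3]
    show ((scalarUnit (ν (centExtIncl N Y n)) * (centExtIncl N Y n).1.2 :
      (Module.End ℂ (Fin d → ℂ))ˣ) : Module.End ℂ (Fin d → ℂ)) = Y n
    rw [h1 n, Units.val_mul, scalarUnit_val, Units.val_one, one_smul, one_mul]
    rfl
  refine ⟨X, ?_, hXN⟩
  haveI := Helper80.nontrivial_of_isIrreducible Y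
  apply Helper81.isIrreducible_of_forall
  intro W hW
  apply Helper81.IsIrreducible.submodule_eq_bot_or_eq_top Y W
  intro n v hv
  rw [← hXN n]
  exact hW n v hv

end Cfsg.Agent.Lib.Helper75
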