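import Mathlib
import Cfsg.Prelude.Def_Characters
import Cfsg.Prelude.Def_Blocks
import Cfsg.Agent.S0153
import Cfsg.Agent.Lib.Helper3.CharValues
import Cfsg.Agent.Lib.Helper15.TransferInv
import Cfsg.Agent.Lib.Helper80.CharOps
import Cfsg.Agent.Lib.Helper75.CharDecomp
import Cfsg.Agent.Lib.Helper75.CharInd
import Cfsg.Agent.Lib.Helper75.Clifford
import Cfsg.Agent.Lib.Helper75.CliffordCorr
import Cfsg.Agent.Lib.Helper75.CentExt
import Cfsg.Agent.Lib.Helper75.CentExt3

set_option autoImplicit false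
set_option linter.unusedSectionVars false
set_option linter.style.haveILetI false

namespace Cfsg.Agent.Lib.Helper75

open Representation Module
open Cfsg.Agent.Lib.Helper3
open scoped ComplexConjugate

universe u

/-- an additive subgroup of `ℤ` containing `m ≠ 0` and, for each prime `p ∣ m`, an element not
divisible by `p`, contains `1` -/
theorem one_mem_of_coprime_family (S : AddSubgroup ℤ) (m : ℕ) (hm : (m : ℤ) ∈ S) (hm0 : m ≠ 0)
    (h : ∀ p : ℕ, p.Prime → p ∣ m → ∃ a : ℕ, (a : ℤ) ∈ S ∧ ¬ p ∣ a) : (1 : ℤ) ∈ S := by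
  classical
  have hex : ∃ k : ℕ, 0 < k ∧ (k : ℤ) ∈ S := ⟨m, Nat.pos_of_ne_zero hm0, hm⟩
  set g := Nat.find hex with hg
  have hg1 : 0 < g ∧ (g : ℤ) ∈ S := Nat.find_spec hex
  have hdvd : ∀ a : ℕ, (a : ℤ) ∈ S → g ∣ a := by
    intro a ha
    by_contra hna
    have hpos : 0 < a % g := Nat.pos_of_ne_zero (fun h0 => hna (Nat.dvd_of_mod_eq_zero h0))
    have hlt : a % g < g := Nat.mod_lt _ hg1.1
    have hmem : ((a % g : ℕ) : ℤ) ∈ S := by
      have e1 : ((a % g : ℕ) : ℤ) = (a : ℤ) - ((a / g : ℕ) : ℤ) • (g : ℤ) := by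
        have := Nat.mod_add_div a g
        rw [smul_eq_mul]
        have h2 : ((a % g : ℕ) : ℤ) + (g : ℤ) * ((a / g : ℕ) : ℤ) = (a : ℤ) := by exact_mod_cast this
        linarith
      rw [e1]
      exact S.sub_mem ha (S.zsmul_mem hg1.2 _)
    exact Nat.find_min hex hlt ⟨hpos, hmem⟩
  by_cases h1 : g = 1
  · have := hg1.2
    rw [h1] at this
    exact_mod_cast this
  · exfalso
    have hp := Nat.minFac_prime h1
    obtain ⟨a, ha, hpa⟩ := h (Nat.minFac g) hp ((Nat.minFac_dvd g).trans (hdvd m hm))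
    exact hpa ((Nat.minFac_dvd g).trans (hdvd a ha))

variable {G : Type u} [Group G] [Finite G] (N : Subgroup G) [hN : N.Normal] {d : ℕ}
  (Y : Representation ℂ N (Fin d → ℂ))

section Sec

variable (P : Subgroup G) (hNP : N ≤ P) (X : Representation ℂ P (Fin d → ℂ))
  (hX : ∀ n : N, X ⟨n, hNP n.2⟩ = Y n)

/-- the section `P → Ĝ`, `g ↦ (g, X g)` attached to a representation `X` of `P ⊇ N`
extending `Y` -/
def centExtSec : P →* centExt N Y where
  toFun g := ⟨((g : G), X.toHomUnits g), by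
    refine ⟨fun m => ?_, ?_⟩
    · show (X.toHomUnits g : Module.End ℂ (Fin d → ℂ)) * Y m =
        Y (MulAut.conjNormal (g : G) m) * (X.toHomUnits g : Module.End ℂ (Fin d → ℂ))
      rw [MonoidHom.coe_toHomUnits, ← hX m, ← hX (MulAut.conjNormal (g : G) m), ← map_mul,
        ← map_mul]
      congr 1
      apply Subtype.ext
      simp [MulAut.conjNormal_apply]
    · show LinearMap.det (X.toHomUnits g : Module.End ℂ (Fin d → ℂ)) ^ Nat.card G = 1
      rw [MonoidHom.coe_toHomUnits, ← map_pow, ← map_pow]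
      have : g ^ Nat.card G = 1 := by
        apply Subtype.ext
        rw [Subgroup.coe_pow]
        exact pow_card_eq_one'
      rw [this, map_one, map_one]⟩
  map_one' := Subtype.ext (Prod.ext rfl (map_one _))
  map_mul' a b := Subtype.ext (Prod.ext rfl (map_mul _ a b))

theorem centExtProj_sec (g : P) : centExtProj N Y (centExtSec N Y P hNP X hX g) = g := rfl

theorem centExtSec_incl (n : N) :
    centExtSec N Y P hNP X hX ⟨n, hNP n.2⟩ = centExtIncl N Y n := by
  apply Subtype.ext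
  apply Prod.ext
  · rfl
  · apply Units.ext
    exact hX n

variable [hY : Y.IsIrreducible]

/-- `x ↦ sec(π x)⁻¹ x`: a homomorphism from the preimage of `P` in `Ĝ` to the central kernel -/
noncomputable def centExtZmap : (P.comap (centExtProj N Y)) →* (centExtProj N Y).ker where
  toFun x := ⟨(centExtSec N Y P hNP X hX ⟨centExtProj N Y x.1, x.2⟩)⁻¹ * x.1, by
    rw [MonoidHom.mem_ker, map_mul, map_inv, centExtProj_sec]
    exact inv_mul_cancel _⟩
  map_one' := by
    apply Subtype.ext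
    show (centExtSec N Y P hNP X hX ⟨centExtProj N Y 1, _⟩)⁻¹ * 1 = 1
    have : (⟨centExtProj N Y 1, (1 : P.comap (centExtProj N Y)).2⟩ : P) = 1 :=
      Subtype.ext (map_one _)
    rw [this, map_one, inv_one, one_mul]
  map_mul' := fun x y => by
    apply Subtype.ext
    show (centExtSec N Y P hNP X hX ⟨centExtProj N Y (x.1 * y.1), _⟩)⁻¹ * (x.1 * y.1) =
      (centExtSec N Y P hNP X hX ⟨centExtProj N Y x.1, x.2⟩)⁻¹ * x.1 *
        ((centExtSec N Y P hNP X hX ⟨centExtProj N Y y.1, y.2⟩)⁻¹ * y.1)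
    have hab : centExtSec N Y P hNP X hX ⟨centExtProj N Y (x.1 * y.1), (x * y).2⟩ =
        centExtSec N Y P hNP X hX ⟨centExtProj N Y x.1, x.2⟩ *
          centExtSec N Y P hNP X hX ⟨centExtProj N Y y.1, y.2⟩ := by
      rw [← map_mul]
      congr 1
    have hz := centExt_central N Y
      ((centExtSec N Y P hNP X hX ⟨centExtProj N Y x.1, x.2⟩)⁻¹ * x.1)
      (by rw [map_mul, map_inv, centExtProj_sec]; exact inv_mul_cancel _)
      (centExtSec N Y P hNP X hX ⟨centExtProj N Y y.1, y.2⟩)⁻¹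
    rw [hab, mul_inv_rev, mul_assoc, ← mul_assoc _ x.1 y.1, ← mul_assoc _ _ y.1, ← hz, mul_assoc]

theorem centExtZmap_incl (n : N) (h : centExtIncl N Y n ∈ P.comap (centExtProj N Y)) :
    centExtZmap N Y P hNP X hX ⟨centExtIncl N Y n, h⟩ = 1 := by
  apply Subtype.ext
  show (centExtSec N Y P hNP X hX ⟨centExtProj N Y (centExtIncl N Y n), _⟩)⁻¹ *
    centExtIncl N Y n = 1
  have : (⟨centExtProj N Y (centExtIncl N Y n), h⟩ : P) = ⟨n, hNP n.2⟩ := rfl
  rw [this, centExtSec_incl, inv_mul_cancel]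

theorem centExtZmap_ker (z : centExt N Y) (hz : z ∈ (centExtProj N Y).ker)
    (h : z ∈ P.comap (centExtProj N Y)) :
    centExtZmap N Y P hNP X hX ⟨z, h⟩ = ⟨z, hz⟩ := by
  apply Subtype.ext
  show (centExtSec N Y P hNP X hX ⟨centExtProj N Y z, _⟩)⁻¹ * z = z
  have : (⟨centExtProj N Y z, h⟩ : P) = 1 := Subtype.ext hz
  rw [this, map_one, inv_one, one_mul]

include hNP X hX in
/-- **transfer**: an extension of `Y` to `P ⊇ N` makes `λ ^ |G : P|` extend to a linear
character of `Ĝ` that is trivial on `N` -/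
theorem exists_hom_of_section
    (hinv : ∀ (g : G) (n : N), Y.character (MulAut.conjNormal g n) = Y.character n) :
    ∃ ν : centExt N Y →* ℂˣ, (∀ n : N, ν (centExtIncl N Y n) = 1) ∧
      ∀ z : (centExtProj N Y).ker, ν z.1 = centExtLam N Y z ^ P.index := by
  let νP : (P.comap (centExtProj N Y)) →* ℂˣ :=
    (centExtLam N Y).comp (centExtZmap N Y P hNP X hX)
  have hle1 : (centExtIncl N Y).range ≤ P.comap (centExtProj N Y) := by
    rintro _ ⟨n, rfl⟩
    exact hNP n.2
  have hle2 : (centExtProj N Y).ker ≤ P.comap (centExtProj N Y) := by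
    intro z hz
    rw [Subgroup.mem_comap, MonoidHom.mem_ker.1 hz]
    exact P.one_mem
  have hν1 : ∀ (x : centExt N Y) (hx : x ∈ (centExtIncl N Y).range), νP ⟨x, hle1 hx⟩ = 1 := by
    rintro _ ⟨n, rfl⟩
    show centExtLam N Y (centExtZmap N Y P hNP X hX ⟨centExtIncl N Y n, _⟩) = 1
    rw [centExtZmap_incl, map_one]
  have hidx : (P.comap (centExtProj N Y)).index = P.index :=
    Subgroup.index_comap_of_surjective P (centExtProj_surjective N Y hinv)
  refine ⟨MonoidHom.transfer νP, ?_, ?_⟩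
  · intro n
    rw [Helper15.transfer_of_invariant hle1 νP
      (fun g x hx => by rw [hν1 x hx, hν1 _ ((centExtIncl_range_normal N Y).conj_mem x hx g)])
      (centExtIncl N Y n) ⟨n, rfl⟩, hν1 _ ⟨n, rfl⟩, one_pow]
  · intro z
    rw [Helper15.transfer_of_invariant hle2 νP
      (fun g x hx => by
        congr 1
        apply Subtype.ext
        show g * x * g⁻¹ = x
        rw [← centExt_central N Y x hx g, mul_inv_cancel_right])
      z.1 z.2, hidx]
    congr 1
    show centExtLam N Y (centExtZmap N Y P hNP X hX ⟨z.1, _⟩) = centExtLam N Y z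
    rw [centExtZmap_ker N Y P hNP X hX z.1 z.2]

end Sec

omit [Finite G] hN in
/-- a character of `P ⊇ N` restricting to the character of `Y` is afforded by a representation
restricting to `Y` itself -/
theorem exists_rep_of_char_extension [Finite N] (P : Subgroup G) (hNP : N ≤ P) {η : P → ℂ}
    (hη : Cfsg.IsCharacter P η) (hηN : ∀ n : N, η ⟨n, hNP n.2⟩ = Y.character n) :
    ∃ X : Representation ℂ P (Fin d → ℂ), ∀ n : N, X ⟨n, hNP n.2⟩ = Y n := by
  obtain ⟨d', ρ, rfl⟩ := hη
  let ρN : Representation ℂ N (Fin d' → ℂ) := ρ.comp (Subgroup.inclusion hNP)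
  have hc : ρN.character = Y.character := funext hηN
  obtain ⟨φ⟩ := Cfsg.Agent.S0153.result ρN Y hc
  refine ⟨transportRep ρ φ.toLinearEquiv, fun n => ?_⟩
  apply LinearMap.ext
  intro v
  rw [transportRep_apply]
  have h1 : φ.toLinearEquiv (ρN n (φ.toLinearEquiv.symm v)) =
      Y n (φ.toLinearEquiv (φ.toLinearEquiv.symm v)) :=
    congrArg (fun f : (Fin d' → ℂ) →ₗ[ℂ] (Fin d → ℂ) => f (φ.toLinearEquiv.symm v))
      (φ.isIntertwining' n)
  rw [LinearEquiv.apply_symm_apply] at h1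
  exact h1

variable [hY : Y.IsIrreducible]

/-- exponents `m` for which `λ ^ m` extends to a linear character of `Ĝ` trivial on `N` -/
def extExp : AddSubgroup ℤ where
  carrier := {m | ∃ ν : centExt N Y →* ℂˣ, (∀ n : N, ν (centExtIncl N Y n) = 1) ∧
      ∀ z : (centExtProj N Y).ker, ν z.1 = centExtLam N Y z ^ m}
  add_mem' := by
    rintro a b ⟨ν, h1, h2⟩ ⟨ν', h1', h2'⟩
    refine ⟨ν * ν', fun n => ?_, fun z => ?_⟩
    · rw [MonoidHom.mul_apply, h1, h1', one_mul]
    · rw [MonoidHom.mul_apply, h2, h2', zpow_add]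
  zero_mem' := ⟨1, fun n => rfl, fun z => by rw [zpow_zero]; rfl⟩
  neg_mem' := by
    rintro a ⟨ν, h1, h2⟩
    refine ⟨ν⁻¹, fun n => ?_, fun z => ?_⟩
    · rw [MonoidHom.inv_apply, h1, inv_one]
    · rw [MonoidHom.inv_apply, h2, zpow_neg]

theorem mem_extExp (m : ℤ) : m ∈ extExp N Y ↔
    ∃ ν : centExt N Y →* ℂˣ, (∀ n : N, ν (centExtIncl N Y n) = 1) ∧
      ∀ z : (centExtProj N Y).ker, ν z.1 = centExtLam N Y z ^ m := Iff.rfl

/-- if `λ` itself extends, `Y` extends to `G` -/
theorem exists_extension_of_one_mem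
    (hinv : ∀ (g : G) (n : N), Y.character (MulAut.conjNormal g n) = Y.character n)
    (h : (1 : ℤ) ∈ extExp N Y) :
    ∃ X : Representation ℂ G (Fin d → ℂ), X.IsIrreducible ∧ ∀ n : N, X n = Y n := by
  obtain ⟨ν, h1, h2⟩ := h
  exact exists_extension_of_hom N Y hinv ν⁻¹
    (fun n => by rw [MonoidHom.inv_apply, h1, inv_one])
    (fun z => by rw [MonoidHom.inv_apply, h2, zpow_one, inv_mul_cancel])

/-- an extension of `Y` to `P ⊇ N` puts `|G : P|` into the exponent group -/
theorem index_mem_extExp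
    (hinv : ∀ (g : G) (n : N), Y.character (MulAut.conjNormal g n) = Y.character n)
    (P : Subgroup G) (hNP : N ≤ P) (X : Representation ℂ P (Fin d → ℂ))
    (hX : ∀ n : N, X ⟨n, hNP n.2⟩ = Y n) : (P.index : ℤ) ∈ extExp N Y := by
  obtain ⟨ν, h1, h2⟩ := exists_hom_of_section N Y P hNP X hX hinv
  exact ⟨ν, h1, fun z => by rw [h2, zpow_natCast]⟩

/-- **Sylow-wise extension**: an invariant `Y` extends to `G` as soon as, for each prime `p`,
its character extends to a character of some `P ⊇ N` of index prime to `p` -/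
theorem exists_extension_of_sylow
    (hinv : ∀ (g : G) (n : N), Y.character (MulAut.conjNormal g n) = Y.character n)
    (hsyl : ∀ p : ℕ, p.Prime → ∃ (P : Subgroup G) (hNP : N ≤ P) (η : P → ℂ),
      Nat.Coprime P.index p ∧ Cfsg.IsCharacter P η ∧ ∀ n : N, η ⟨n, hNP n.2⟩ = Y.character n) :
    ∃ X : Representation ℂ G (Fin d → ℂ), X.IsIrreducible ∧ ∀ n : N, X n = Y n := by
  apply exists_extension_of_one_mem N Y hinv
  apply one_mem_of_coprime_family (extExp N Y) N.index ?_ Subgroup.index_ne_zero_of_finite ?_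
  · exact index_mem_extExp N Y hinv N le_rfl Y (fun n => rfl)
  · intro p hp _
    obtain ⟨P, hNP, η, hcop, hη, hηN⟩ := hsyl p hp
    obtain ⟨X, hX⟩ := exists_rep_of_char_extension N Y P hNP hη hηN
    refine ⟨P.index, index_mem_extExp N Y hinv P hNP X hX, ?_⟩
    intro hdvd
    exact hp.ne_one ((Nat.Coprime.symm hcop).eq_one_of_dvd hdvd)

end Cfsg.Agent.Lib.Helper75
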