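import Mathlib
import Cfsg.Prelude.Def_Characters
import Cfsg.Prelude.Def_Blocks
import Cfsg.Agent.Lib.Helper3.CharValues
import Cfsg.Agent.Lib.Helper80.CharOps
import Cfsg.Agent.Lib.Helper75.CharDecomp
import Cfsg.Agent.Lib.Helper75.CharInd
import Cfsg.Agent.Lib.Helper75.Clifford
import Cfsg.Agent.Lib.Helper75.CliffordAct
import Cfsg.Agent.Lib.Helper75.CliffordCorr

set_option autoImplicit false
set_option linter.unusedSectionVars false
set_option linter.style.haveILetI false

namespace Cfsg.Agent.Lib.Helper75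

open Representation Module
open Cfsg.Agent.Lib.Helper3
open scoped ComplexConjugate

universe u

variable {G : Type u} [Group G]

/-- a function with vanishing norm is zero -/
theorem eq_zero_of_classInner_self [Fintype G] {f : G → ℂ} (h : Cfsg.classInner f f = 0) :
    f = 0 := by
  unfold Cfsg.classInner at h
  have hG : (Nat.card G : ℂ) ≠ 0 := card_ne_zero'
  have h1 : ∑ g : G, f g * conj (f g) = 0 := by
    rcases mul_eq_zero.1 h with h | h
    · exact absurd (inv_eq_zero.1 h) hG
    · exact h
  have h2 : ∀ g, f g * conj (f g) = ((‖f g‖ ^ 2 : ℝ) : ℂ) := by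
    intro g
    rw [Complex.mul_conj, Complex.normSq_eq_norm_sq]
  simp_rw [h2] at h1
  have h3 : ∑ g : G, ‖f g‖ ^ 2 = 0 := by
    have : ((∑ g : G, ‖f g‖ ^ 2 : ℝ) : ℂ) = 0 := by
      rw [Complex.ofReal_sum]
      exact h1
    exact_mod_cast this
  rw [Finset.sum_eq_zero_iff_of_nonneg (fun g _ => by positivity)] at h3
  funext g
  have := h3 g (Finset.mem_univ g)
  simpa using this

variable (N : Subgroup G)

/-- induction commutes with multiplication by a class function of the big group -/
theorem indFun_mul_res [Fintype G] {χ : G → ℂ} (hχ : Cfsg.IsClassFunction G χ) (φ : N → ℂ) :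
    Cfsg.indFun N (fun n : N => χ n * φ n) = χ * Cfsg.indFun N φ := by
  funext g
  have key : ∀ x : G, Cfsg.extendByZero N (fun n : N => χ n * φ n) (x⁻¹ * g * x) =
      χ g * Cfsg.extendByZero N φ (x⁻¹ * g * x) := by
    intro x
    by_cases hx : x⁻¹ * g * x ∈ N
    · rw [extendByZero_mem N _ hx, extendByZero_mem N _ hx]
      congr 1
      have := hχ g x⁻¹
      rw [inv_inv] at this
      exact this
    · rw [extendByZero_not_mem N _ hx, extendByZero_not_mem N _ hx, mul_zero]
  show (Nat.card N : ℂ)⁻¹ * ∑ x : G, Cfsg.extendByZero N (fun n : N => χ n * φ n) (x⁻¹ * g * x) =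
    χ g * ((Nat.card N : ℂ)⁻¹ * ∑ x : G, Cfsg.extendByZero N φ (x⁻¹ * g * x))
  rw [Finset.sum_congr rfl (fun x _ => key x), ← Finset.mul_sum]
  ring

variable [hN : N.Normal] [Fintype N] [Fintype G]

/-- the permutation character of `G` on `G ⧸ N`, restricted to `N` -/
theorem indFun_one_res : (fun n : N => Cfsg.indFun N (fun _ : N => (1 : ℂ)) n) =
    fun _ : N => (N.index : ℂ) := by
  funext n
  have h0 := congrFun (indFun_res N (fun _ : N => (1 : ℂ))) n
  rw [h0]
  have h1 : ∑ x : G, conjChar N (fun _ : N => (1 : ℂ)) x =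
      (Nat.card G : ℂ) • (fun _ : N => (1 : ℂ)) := by
    funext m
    simp [conjChar, Nat.card_eq_fintype_card]
  rw [h1]
  simp only [Pi.smul_apply, smul_eq_mul, mul_one]
  rw [← Subgroup.card_mul_index N]
  have : (Nat.card N : ℂ) ≠ 0 := card_ne_zero'
  push_cast
  field_simp

/-- **Gallagher**: if `χ ∈ Irr(G)` restricts irreducibly to the normal subgroup `N`, every
irreducible character of `G` lying over `χ_N` is `β * χ` with `β` irreducible and trivial on `N` -/
theorem gallagher_exists {χ : G → ℂ} (hχ : Cfsg.IsIrrCharacter G χ)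
    (hχN : Cfsg.IsIrrCharacter N (fun n : N => χ n)) {ψ : G → ℂ} (hψ : Cfsg.IsIrrCharacter G ψ)
    (hψN : Cfsg.classInner (fun n : N => ψ n) (fun n : N => χ n) ≠ 0) :
    ∃ β : G → ℂ, Cfsg.IsIrrCharacter G β ∧ (∀ n : N, β n = β 1) ∧ ψ = β * χ := by
  classical
  haveI : Fintype (Cfsg.IrrCharacter G) := Fintype.ofFinite _
  have hχc := isCharacter_of_irr hχ
  have hχcf := isClassFunction_of_isCharacter hχc
  have h1N : Cfsg.IsIrrCharacter N (fun _ : N => (1 : ℂ)) := Helper80.isIrrCharacter_one
  set R : G → ℂ := Cfsg.indFun N (fun _ : N => (1 : ℂ)) with hRdef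
  have hRc : Cfsg.IsCharacter G R := isCharacter_indFun N (isCharacter_of_irr h1N)
  obtain ⟨b, hb, hR⟩ := char_eq_sum_irr hRc
  -- the induced character of `χ_N`
  have hind : Cfsg.indFun N (fun n : N => χ n) = χ * R := by
    have := indFun_mul_res N hχcf (fun _ : N => (1 : ℂ))
    simp only [mul_one] at this
    exact this
  have hind' : Cfsg.indFun N (fun n : N => χ n) =
      ∑ β : Cfsg.IrrCharacter G, (b β : ℂ) • ((β : G → ℂ) * χ) := by
    rw [hind]
    conv_lhs => rw [hR]
    rw [Finset.mul_sum]
    refine Finset.sum_congr rfl (fun β _ => ?_)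
    funext g
    simp only [Pi.mul_apply, Pi.smul_apply, smul_eq_mul]
    ring
  have hβχ : ∀ β : Cfsg.IrrCharacter G, Cfsg.IsCharacter G ((β : G → ℂ) * χ) :=
    fun β => Helper80.isCharacter_mul (isCharacter_of_irr β.2) hχc
  have hc : ∀ β β' : Cfsg.IrrCharacter G, ∃ c : ℕ,
      Cfsg.classInner ((β : G → ℂ) * χ) ((β' : G → ℂ) * χ) = c :=
    fun β β' => classInner_char_nat (hβχ β) (hβχ β')
  choose c hc using hc
  -- norm of the induced character, first computation
  have hnorm1 : Cfsg.classInner (Cfsg.indFun N (fun n : N => χ n))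
      (Cfsg.indFun N (fun n : N => χ n)) = (N.index : ℂ) := by
    rw [frobenius_reciprocity N _ (indFun_isClassFunction N _)]
    have : (fun n : N => Cfsg.indFun N (fun n : N => χ n) n) = (N.index : ℂ) • fun n : N => χ n := by
      funext n
      have h2 := congrFun hind n
      have h3 := congrFun (indFun_one_res N) n
      simp only [Pi.mul_apply, Pi.smul_apply, smul_eq_mul] at h2 h3 ⊢
      rw [h2, hRdef, h3, mul_comm]
    rw [this, Helper80.classInner_smul_right, classInner_irr_self hχN]
    simp
  -- second computation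
  have hnorm2 : Cfsg.classInner (Cfsg.indFun N (fun n : N => χ n))
      (Cfsg.indFun N (fun n : N => χ n)) =
      ((∑ β : Cfsg.IrrCharacter G, ∑ β' : Cfsg.IrrCharacter G, b β * b β' * c β β' : ℕ) : ℂ) := by
    conv_lhs => rw [hind']
    rw [classInner_sum_left]
    push_cast
    refine Finset.sum_congr rfl (fun β _ => ?_)
    rw [classInner_smul_left, Helper80.classInner_sum_right, Finset.mul_sum]
    refine Finset.sum_congr rfl (fun β' _ => ?_)
    rw [Helper80.classInner_smul_right, hc β β']
    simp only [Complex.conj_natCast]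
    ring
  -- norm of the permutation character
  have hnormR : ((∑ β : Cfsg.IrrCharacter G, b β * b β : ℕ) : ℂ) = (N.index : ℂ) := by
    have h2 : Cfsg.classInner R R = (N.index : ℂ) := by
      rw [hRdef, frobenius_reciprocity N _ (indFun_isClassFunction N _), indFun_one_res]
      have : (fun _ : N => (N.index : ℂ)) = (N.index : ℂ) • fun _ : N => (1 : ℂ) := by
        funext n
        simp
      rw [this, Helper80.classInner_smul_right, classInner_irr_self h1N]
      simp
    rw [← h2]
    conv_rhs => rw [hR]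
    rw [classInner_sum_left]
    push_cast
    refine Finset.sum_congr rfl (fun β _ => ?_)
    rw [classInner_smul_left, ← hR, classInner_conj_symm, hb β]
    simp
  have hsum : ∑ β : Cfsg.IrrCharacter G, ∑ β' : Cfsg.IrrCharacter G, b β * b β' * c β β' =
      ∑ β : Cfsg.IrrCharacter G, b β * b β := by
    have : ((∑ β : Cfsg.IrrCharacter G, ∑ β' : Cfsg.IrrCharacter G, b β * b β' * c β β' : ℕ) : ℂ) =
        ((∑ β : Cfsg.IrrCharacter G, b β * b β : ℕ) : ℂ) := by
      rw [← hnorm2, hnorm1, hnormR]
    exact_mod_cast this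
  -- each `β * χ` has norm at least one
  have hc1 : ∀ β : Cfsg.IrrCharacter G, 1 ≤ c β β := by
    intro β
    rw [Nat.one_le_iff_ne_zero]
    intro h0
    have h2 := hc β β
    rw [h0] at h2
    simp only [Nat.cast_zero] at h2
    have h3 := congrFun (eq_zero_of_classInner_self h2) 1
    simp only [Pi.mul_apply, Pi.zero_apply] at h3
    rcases mul_eq_zero.1 h3 with h4 | h4
    · exact Helper80.char_one_ne_zero β.2 h4
    · exact Helper80.char_one_ne_zero hχ h4
  have hle : ∀ β ∈ (Finset.univ : Finset (Cfsg.IrrCharacter G)),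
      b β * b β ≤ ∑ β' : Cfsg.IrrCharacter G, b β * b β' * c β β' := by
    intro β _
    calc b β * b β ≤ b β * b β * c β β := Nat.le_mul_of_pos_right _ (hc1 β)
      _ ≤ ∑ β' : Cfsg.IrrCharacter G, b β * b β' * c β β' :=
        Finset.single_le_sum (f := fun β' => b β * b β' * c β β') (fun _ _ => Nat.zero_le _)
          (Finset.mem_univ β)
  have heq := (Finset.sum_eq_sum_iff_of_le hle).1 hsum.symm
  -- find the constituent
  have hψ0 : Cfsg.classInner (Cfsg.indFun N (fun n : N => χ n)) ψ ≠ 0 := by
    rw [frobenius_reciprocity N _ (isClassFunction_of_isCharacter (isCharacter_of_irr hψ)),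
      classInner_conj_symm]
    simpa using hψN
  rw [hind', classInner_sum_left] at hψ0
  have hex : ∃ β : Cfsg.IrrCharacter G,
      Cfsg.classInner ((b β : ℂ) • ((β : G → ℂ) * χ)) ψ ≠ 0 := by
    by_contra hcon
    push Not at hcon
    exact hψ0 (Finset.sum_eq_zero (fun β _ => hcon β))
  obtain ⟨β, hβ⟩ := hex
  rw [classInner_smul_left] at hβ
  have hb0 : b β ≠ 0 := by
    intro h0
    apply hβ
    rw [h0]
    simp
  have hβψ : Cfsg.classInner ((β : G → ℂ) * χ) ψ ≠ 0 := fun h0 => hβ (by rw [h0, mul_zero])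
  -- `β * χ` is irreducible
  have hcβ : c β β = 1 := by
    have h2 := heq β (Finset.mem_univ β)
    have h3 : b β * b β * c β β ≤ ∑ β' : Cfsg.IrrCharacter G, b β * b β' * c β β' :=
      Finset.single_le_sum (f := fun β' => b β * b β' * c β β') (fun _ _ => Nat.zero_le _)
        (Finset.mem_univ β)
    rw [← h2] at h3
    have h4 : 0 < b β * b β := Nat.mul_pos (Nat.pos_of_ne_zero hb0) (Nat.pos_of_ne_zero hb0)
    have h5 : c β β ≤ 1 := by
      by_contra hcon
      push Not at hcon
      have : b β * b β * 2 ≤ b β * b β * c β β := Nat.mul_le_mul_left _ hcon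
      omega
    exact le_antisymm h5 (hc1 β)
  have hirr : Cfsg.IsIrrCharacter G ((β : G → ℂ) * χ) := by
    apply isIrrCharacter_of_classInner_self (hβχ β)
    rw [hc β β, hcβ]
    simp
  have hψeq : ψ = (β : G → ℂ) * χ := by
    by_contra hne
    exact hβψ (classInner_irr_ne hirr hψ (fun h => hne h.symm))
  refine ⟨β, β.2, ?_, hψeq⟩
  -- `β` is trivial on `N`
  have hb1 : Cfsg.classInner (fun n : N => (β : G → ℂ) n) (fun _ : N => (1 : ℂ)) ≠ 0 := by
    have h2 := hb β
    rw [hRdef, frobenius_reciprocity N _ (isClassFunction_of_isCharacter (isCharacter_of_irr β.2)),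
      classInner_conj_symm] at h2
    intro h0
    rw [h0] at h2
    simp only [map_zero] at h2
    exact hb0 (by exact_mod_cast h2.symm)
  have hres := res_eq_smul_of_invariant N β.2 h1N hb1 (fun g => rfl)
  intro n
  have h2 := congrFun hres n
  have h3 := congrFun hres 1
  simp only [Pi.smul_apply, smul_eq_mul, mul_one] at h2 h3
  rw [h2]
  exact h3.symm

end Cfsg.Agent.Lib.Helper75
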