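import Mathlib
import Cfsg.Prelude.Def_Characters
import Cfsg.Prelude.Def_Blocks
import Cfsg.Prelude.Def_CharExt
import Cfsg.Agent.Lib.Helper3.CharValues
import Cfsg.Agent.Lib.Helper15.DetChar
import Cfsg.Agent.Lib.Helper80.CharOps
import Cfsg.Agent.Lib.Helper80.CharKer
import Cfsg.Agent.Lib.Helper80.Schur
import Cfsg.Agent.Lib.Helper75.GaloisAut
import Cfsg.Agent.Lib.Helper75.GaloisChar

/-!
# Tools for the Glauberman correspondence: Galois-invariant sums of roots of unity are integers,
central elements act as scalars, determinants of Galois twists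
-/

set_option autoImplicit false
set_option linter.style.haveILetI false

namespace Cfsg.Agent.Lib.Helper75

open Representation Module
open Cfsg.Agent.Lib.Helper3
open scoped ComplexConjugate

universe u

/-- an integer combination of `N`-th roots of unity that is unchanged when every root is raised
to a power prime to `N` is rational -/
theorem rat_of_pow_invariant {ι : Type*} [Fintype ι] (N : ℕ) (hN : 0 < N) (a : ι → ℤ)
    (d : ι → ℂ) (hd : ∀ i, d i ^ N = 1)
    (hinv : ∀ k : ℕ, k.Coprime N → ∑ i, (a i : ℂ) * d i ^ k = ∑ i, (a i : ℂ) * d i) :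
    ∃ q : ℚ, ∑ i, (a i : ℂ) * d i = (q : ℂ) := by
  haveI : NeZero N := ⟨hN.ne'⟩
  let K := CyclotomicField N ℚ
  have hcyc : IsCyclotomicExtension {N} ℚ K := CyclotomicField.isCyclotomicExtension N ℚ
  have hgal : IsGalois ℚ K := IsCyclotomicExtension.isGalois {N} ℚ K
  have hfd : FiniteDimensional ℚ K := IsCyclotomicExtension.finiteDimensional {N} ℚ K
  let φ : K →ₐ[ℚ] ℂ := IsAlgClosed.lift
  have hz : IsPrimitiveRoot (IsCyclotomicExtension.zeta N ℚ K) N :=
    IsCyclotomicExtension.zeta_spec N ℚ K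
  set ζ := IsCyclotomicExtension.zeta N ℚ K with hζ
  have hω : IsPrimitiveRoot (φ ζ) N := hz.map_of_injective φ.injective
  have hex : ∀ i, ∃ e : ℕ, φ ζ ^ e = d i := by
    intro i
    obtain ⟨e, -, he⟩ := hω.eq_pow_of_pow_eq_one (hd i)
    exact ⟨e, he⟩
  choose e he using hex
  let x : K := ∑ i, (a i : K) * ζ ^ e i
  have hx : ∀ k : ℕ, φ (∑ i, (a i : K) * ζ ^ (e i * k)) = ∑ i, (a i : ℂ) * d i ^ k := by
    intro k
    rw [map_sum]
    refine Finset.sum_congr rfl (fun i _ => ?_)
    rw [map_mul, map_intCast, map_pow, pow_mul, he]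
  have hx1 : φ x = ∑ i, (a i : ℂ) * d i := by
    have := hx 1
    simpa [x] using this
  have hfix : ∀ f : K ≃ₐ[ℚ] K, f x = x := by
    intro f
    have hfz : IsPrimitiveRoot (f ζ) N := hz.map_of_injective f.injective
    obtain ⟨m, -, hm⟩ := hz.eq_pow_of_pow_eq_one hfz.pow_eq_one
    have hcop : m.Coprime N := by
      rw [← hm] at hfz
      exact (hz.pow_iff_coprime hN m).mp hfz
    apply φ.injective
    show φ (f x) = φ x
    have h2 : f x = ∑ i, (a i : K) * ζ ^ (e i * m) := by
      simp only [x, map_sum, map_mul, map_pow]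
      refine Finset.sum_congr rfl (fun i _ => ?_)
      have hfa : f ((a i : ℤ) : K) = (a i : K) := map_intCast f (a i)
      rw [hfa, ← hm, ← pow_mul, mul_comm m (e i)]
    rw [h2, hx m, hx1]
    exact hinv m hcop
  obtain ⟨q, hq⟩ := (IsGalois.mem_range_algebraMap_iff_fixed x).mpr hfix
  refine ⟨q, ?_⟩
  rw [← hx1, ← hq]
  simp

/-- a rational algebraic integer is an integer -/
theorem int_of_rat_of_isIntegral (q : ℚ) (h : IsIntegral ℤ (q : ℂ)) : ∃ z : ℤ, (q : ℂ) = z := by
  have h1 : IsIntegral ℤ q := by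
    have h2 : (q : ℂ) = algebraMap ℚ ℂ q := rfl
    rw [h2] at h
    exact (isIntegral_algebraMap_iff (algebraMap ℚ ℂ).injective).1 h
  obtain ⟨z, hz⟩ := IsIntegrallyClosed.isIntegral_iff.1 h1
  exact ⟨z, by rw [← hz]; simp⟩

/-- an integer combination of `N`-th roots of unity that is unchanged when every root is raised
to a power prime to `N` is an integer -/
theorem int_of_pow_invariant {ι : Type*} [Fintype ι] (N : ℕ) (hN : 0 < N) (a : ι → ℤ)
    (d : ι → ℂ) (hd : ∀ i, d i ^ N = 1)
    (hinv : ∀ k : ℕ, k.Coprime N → ∑ i, (a i : ℂ) * d i ^ k = ∑ i, (a i : ℂ) * d i) :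
    ∃ z : ℤ, ∑ i, (a i : ℂ) * d i = (z : ℂ) := by
  obtain ⟨q, hq⟩ := rat_of_pow_invariant N hN a d hd hinv
  have hint : IsIntegral ℤ (∑ i, (a i : ℂ) * d i) := by
    apply IsIntegral.sum
    intro i _
    apply IsIntegral.mul
    · exact isIntegral_algebraMap (R := ℤ) (A := ℂ) (x := a i)
    · apply IsIntegral.of_pow hN
      rw [hd i]
      exact isIntegral_one
  rw [hq] at hint
  obtain ⟨z, hz⟩ := int_of_rat_of_isIntegral q hint
  exact ⟨z, by rw [hq, hz]⟩

section Central

variable {D : Type u} [Group D]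

/-- a central element acts on an irreducible character through a root of unity -/
theorem central_scalar {ξ : D → ℂ} (hξ : Cfsg.IsIrrCharacter D ξ) (z : D)
    (hz : z ∈ Subgroup.center D) :
    ∃ ω : ℂ, ω ^ orderOf z = 1 ∧ ∀ (x : D) (j : ℕ), ξ (x * z ^ j) = ω ^ j * ξ x := by
  obtain ⟨n, ρ, hirr, rfl⟩ := hξ
  have hirr' : ρ.IsIrreducible := hirr
  obtain ⟨ω, hω⟩ := Cfsg.Agent.Lib.Helper80.schur_scalar ρ (ρ z) (fun g => by
    rw [← map_mul, ← map_mul, (Subgroup.mem_center_iff.1 hz g)])
  have hpow : ∀ j : ℕ, ρ (z ^ j) = (ω ^ j) • (1 : Module.End ℂ (Fin n → ℂ)) := by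
    intro j
    rw [map_pow, hω, smul_pow, one_pow]
  refine ⟨ω, ?_, fun x j => ?_⟩
  · have h1 := hpow (orderOf z)
    rw [pow_orderOf_eq_one, map_one] at h1
    haveI := Cfsg.Agent.Lib.Helper80.nontrivial_of_isIrreducible ρ
    obtain ⟨v, hv⟩ := exists_ne (0 : Fin n → ℂ)
    have h2 := congrArg (fun T : Module.End ℂ (Fin n → ℂ) => T v) h1
    simp only [Module.End.one_apply, LinearMap.smul_apply] at h2
    have h3 : ((1 : ℂ) - ω ^ orderOf z) • v = 0 := by
      rw [sub_smul, one_smul, ← h2, sub_self]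
    rcases smul_eq_zero.1 h3 with h4 | h4
    · exact (sub_eq_zero.1 h4).symm
    · exact absurd h4 hv
  · show LinearMap.trace ℂ _ (ρ (x * z ^ j)) = ω ^ j * LinearMap.trace ℂ _ (ρ x)
    rw [map_mul, hpow, mul_smul_comm, mul_one, map_smul, smul_eq_mul]

end Central

section DetGal

variable {G : Type u} [Group G] [Finite G]

/-- the determinantal character of a Galois twist -/
theorem detChar_galois (σ : ℂ ≃+* ℂ) {χ : G → ℂ} (hχ : Cfsg.IsCharacter G χ) :
    Cfsg.detChar (fun g => σ (χ g)) = fun g => σ (Cfsg.detChar χ g) := by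
  obtain ⟨n, ρ, rfl⟩ := hχ
  have h1 : (fun g => σ (ρ.character g)) = (galRep σ ρ).character :=
    funext (fun g => (galRep_character σ ρ g).symm)
  rw [h1]
  funext g
  rw [Cfsg.Agent.Lib.Helper15.detChar_character, Cfsg.Agent.Lib.Helper15.detChar_character]
  show LinearMap.det (Matrix.toLin' ((LinearMap.toMatrix' (ρ g)).map σ)) = _
  rw [LinearMap.det_toLin', ← LinearMap.det_toMatrix']
  exact (RingHom.map_det σ.toRingHom _).symm

/-- the determinantal order is unchanged by Galois twists -/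
theorem detOrder_galois (σ : ℂ ≃+* ℂ) {χ : G → ℂ} (hχ : Cfsg.IsCharacter G χ) :
    Cfsg.detOrder (fun g => σ (χ g)) = Cfsg.detOrder χ := by
  unfold Cfsg.detOrder
  rw [detChar_galois σ hχ]
  apply orderOf_eq_orderOf_iff.2
  intro k
  constructor
  · intro h
    funext g
    have h1 := congrFun h g
    rw [Pi.pow_apply, Pi.one_apply] at h1 ⊢
    apply σ.injective
    rw [map_pow, h1, map_one]
  · intro h
    funext g
    have h1 := congrFun h g
    rw [Pi.pow_apply, Pi.one_apply] at h1 ⊢
    rw [← map_pow, h1, map_one]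

/-- the determinantal order of a character divides the group order -/
theorem detOrder_dvd_card (χ : G → ℂ) : Cfsg.detOrder χ ∣ Nat.card G := by
  unfold Cfsg.detOrder
  apply orderOf_dvd_of_pow_eq_one
  funext g
  rw [Pi.pow_apply, Pi.one_apply, ← Cfsg.Agent.Lib.Helper15.detCharHom_apply,
    ← Units.val_pow_eq_pow_val, ← map_pow, pow_card_eq_one', map_one, Units.val_one]

end DetGal

end Cfsg.Agent.Lib.Helper75
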