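import Mathlib
import Cfsg.Prelude.Def_Characters
import Cfsg.Prelude.Def_Blocks
import Cfsg.Prelude.Def_CharExt
import Cfsg.Agent.Lib.Helper3.CharValues
import Cfsg.Agent.Lib.Helper15.DetChar
import Cfsg.Agent.Lib.Helper15.LinChar
import Cfsg.Agent.Lib.Helper15.LinIrr
import Cfsg.Agent.Lib.Helper80.CharKer
import Cfsg.Agent.Lib.Helper75.CharDecomp
import Cfsg.Agent.Lib.Helper75.CharInd
import Cfsg.Agent.Lib.Helper75.CliffordCorr
import Cfsg.Agent.Lib.Helper75.Gallagher
import Cfsg.Agent.Lib.Helper75.CentExt7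
import Cfsg.Agent.Lib.Helper75.ItoSolv
import Cfsg.Agent.Lib.Helper75.Glaub2
import Cfsg.Agent.Lib.Helper1.SZInternal

/-!
# Irreducible characters of degree prime to the index of a normal Hall subgroup

`K` normal in `G` with `|K|` prime to `|G : K|`: the irreducible characters of `G` of degree prime
to `|G : K|` are exactly the extensions of the `G`-invariant irreducible characters of `K`, and
each invariant character has exactly `|Hom(G/K, ℂˣ)|` extensions.
-/

set_option autoImplicit false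
set_option linter.style.haveILetI false

namespace Cfsg.Agent.Lib.Helper75

open Representation Module
open Cfsg.Agent.Lib.Helper3
open scoped ComplexConjugate
open scoped Pointwise

universe u

section CoprimeDeg

variable {G : Type u} [Group G] [Finite G] (K : Subgroup G) [hK : K.Normal]

omit hK in
/-- the restriction of an irreducible character has an irreducible constituent -/
theorem exists_constituent_res [Fintype K] {χ : G → ℂ} (hχ : Cfsg.IsIrrCharacter G χ) :
    ∃ θ : K → ℂ, Cfsg.IsIrrCharacter K θ ∧ Cfsg.classInner (fun n : K => χ n) θ ≠ 0 := by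
  classical
  haveI : Fintype (Cfsg.IrrCharacter K) := Fintype.ofFinite _
  obtain ⟨m, hm, hsum⟩ := char_eq_sum_irr (isCharacter_res K (isCharacter_of_irr hχ))
  by_contra hcon
  have hz : ∀ ψ : Cfsg.IrrCharacter K, m ψ = 0 := by
    intro ψ
    by_contra h
    apply hcon
    refine ⟨ψ.1, ψ.2, ?_⟩
    rw [hm ψ]
    exact_mod_cast h
  have h1 := congrFun hsum 1
  simp only [hz, Nat.cast_zero, zero_smul, Finset.sum_const_zero, Pi.zero_apply] at h1
  exact Cfsg.Agent.Lib.Helper80.char_one_ne_zero hχ h1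

/-- an irreducible character of degree prime to `|G : K|` restricts irreducibly to the normal
Hall subgroup `K` -/
theorem res_irr_of_coprime_degree (hcop : (Nat.card K).Coprime K.index) {χ : G → ℂ}
    (hχ : Cfsg.IsIrrCharacter G χ) (hdeg : (Cfsg.charDegree χ).Coprime K.index) :
    Cfsg.IsIrrCharacter K (fun n : K => χ n) := by
  classical
  haveI := Fintype.ofFinite G
  haveI := Fintype.ofFinite K
  obtain ⟨θ, hθ, hne⟩ := exists_constituent_res K hχ
  obtain ⟨e, he⟩ := charDegree_eq_mul_of_over K hχ hθ hne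
  have hcf := isClassFunction_of_isCharacter (isCharacter_of_irr hθ)
  have h1 : (inertia K θ).index ∣ K.index := Subgroup.index_dvd_of_le (le_inertia K hcf)
  have h2 : (inertia K θ).index ∣ Cfsg.charDegree χ := by
    rw [he]
    exact Dvd.dvd.mul_right (Dvd.intro_left e rfl) _
  have h3 : (inertia K θ).index = 1 := Nat.eq_one_of_dvd_coprimes hdeg h2 h1
  have h4 : inertia K θ = ⊤ := Subgroup.index_eq_one.1 h3
  have hinv : ∀ (g : G) (n : K), θ ⟨g * n * g⁻¹, hK.conj_mem n n.2 g⟩ = θ n := fun g =>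
    (mem_inertia_iff' K θ g).1 (h4 ▸ Subgroup.mem_top g)
  obtain ⟨d, Y, hY, rfl⟩ := hθ
  haveI hY' : Y.IsIrreducible := hY
  have hinv' : ∀ (g : G) (n : K), Y.character (MulAut.conjNormal g n) = Y.character n :=
    fun g n => hinv g n
  have hdd : d ∣ Nat.card K := by
    have := Cfsg.Agent.Lib.Helper80.charDegree_dvd_card
      (⟨d, Y, hY, rfl⟩ : Cfsg.IsIrrCharacter K Y.character)
    rwa [Cfsg.Agent.Lib.Helper80.charDegree_char] at this
  have hc : Nat.Coprime K.index (Cfsg.detOrder Y.character * d) :=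
    Nat.Coprime.mul_right (Nat.Coprime.coprime_dvd_left (detOrder_dvd_card _) hcop).symm
      (Nat.Coprime.coprime_dvd_left hdd hcop).symm
  obtain ⟨θh, ⟨hθh, hθhK, -⟩, -⟩ := exists_unique_extension_of_coprime K Y hinv' hc
  have hθhK' : (fun n : K => θh n) = Y.character := funext hθhK
  have hres : Cfsg.IsIrrCharacter K (fun n : K => θh n) := hθhK' ▸ ⟨d, Y, hY, rfl⟩
  obtain ⟨β, hβ, hβK, hχβ⟩ := gallagher_exists K hθh hres hχ (by rw [hθhK']; exact hne)
  obtain ⟨βbar, hβbar, hβeq⟩ := Cfsg.Agent.Lib.Helper80.exists_isIrrCharacter_deflate K hβ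
    (fun x hx => hβK ⟨x, hx⟩)
  have hb1 : Cfsg.charDegree β ∣ K.index := by
    have h5 := Cfsg.Agent.Lib.Helper80.charDegree_dvd_card hβbar
    have h6 : Cfsg.charDegree βbar = Cfsg.charDegree β := by
      unfold Cfsg.charDegree
      have h7 : βbar 1 = β 1 := hβeq 1
      rw [h7]
    rw [h6] at h5
    rw [Subgroup.index_eq_card]
    exact h5
  have hb2 : Cfsg.charDegree β ∣ Cfsg.charDegree χ := by
    have h5 := congrFun hχβ 1
    rw [Pi.mul_apply, Cfsg.Agent.Lib.Helper80.char_one_eq_charDegree (isCharacter_of_irr hχ),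
      Cfsg.Agent.Lib.Helper80.char_one_eq_charDegree (isCharacter_of_irr hβ),
      Cfsg.Agent.Lib.Helper80.char_one_eq_charDegree (isCharacter_of_irr hθh)] at h5
    have h6 : Cfsg.charDegree χ = Cfsg.charDegree β * Cfsg.charDegree θh := by exact_mod_cast h5
    exact Dvd.intro _ h6.symm
  have hb3 : Cfsg.charDegree β = 1 := Nat.eq_one_of_dvd_coprimes hdeg hb2 hb1
  have hβ1 : β 1 = 1 := by
    rw [Cfsg.Agent.Lib.Helper80.char_one_eq_charDegree (isCharacter_of_irr hβ), hb3]
    simp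
  have hfin : (fun n : K => χ n) = Y.character := by
    funext n
    rw [hχβ]
    show β n * θh n = _
    rw [hβK n, hβ1, one_mul, hθhK n]
  rw [hfin]
  exact ⟨d, Y, hY, rfl⟩

omit hK in
/-- conversely, an irreducible character restricting irreducibly to `K` has degree prime to
`|G : K|` -/
theorem coprime_degree_of_res_irr (hcop : (Nat.card K).Coprime K.index) {χ : G → ℂ}
    (hres : Cfsg.IsIrrCharacter K (fun n : K => χ n)) : (Cfsg.charDegree χ).Coprime K.index := by
  have h1 := Cfsg.Agent.Lib.Helper80.charDegree_dvd_card hres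
  have h2 : Cfsg.charDegree (fun n : K => χ n) = Cfsg.charDegree χ := rfl
  rw [h2] at h1
  exact Nat.Coprime.coprime_dvd_left h1 hcop

end CoprimeDeg

section CoprimeCount

variable {G : Type u} [Group G] [Finite G] (K H : Subgroup G) [hK : K.Normal]

omit [Finite G] in
/-- the projection `G → H` with kernel `K`, for a complement `H` of the normal subgroup `K` -/
theorem exists_proj (hKH : K ⊔ H = ⊤) (hcop : (Nat.card K).Coprime (Nat.card H)) :
    ∃ π : G →* H, (∀ h : H, π h = h) ∧ (∀ k ∈ K, π k = 1) := by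
  have hinj : Function.Injective ((QuotientGroup.mk' K).comp H.subtype) := by
    rw [injective_iff_map_eq_one]
    intro h hh
    have h1 : (h : G) ∈ K := (QuotientGroup.eq_one_iff _).1 hh
    have h2 : (h : G) = 1 := Cfsg.Agent.Lib.Helper1.eq_one_of_mem_of_coprime hcop h1 h.2
    exact Subtype.ext h2
  have hsurj : Function.Surjective ((QuotientGroup.mk' K).comp H.subtype) := by
    intro q
    obtain ⟨g, rfl⟩ := QuotientGroup.mk_surjective q
    have hg : g ∈ K ⊔ H := hKH ▸ Subgroup.mem_top g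
    have hg2 : g ∈ ((K : Set G) * (H : Set G)) := by
      rw [← Subgroup.normal_mul]
      exact hg
    obtain ⟨k, hk, h, hh, rfl⟩ := Set.mem_mul.1 hg2
    refine ⟨⟨h, hh⟩, ?_⟩
    show (QuotientGroup.mk h : G ⧸ K) = QuotientGroup.mk (k * h)
    rw [QuotientGroup.mk_mul, (QuotientGroup.eq_one_iff k).2 hk, one_mul]
  let e : H ≃* G ⧸ K := MulEquiv.ofBijective _ ⟨hinj, hsurj⟩
  refine ⟨e.symm.toMonoidHom.comp (QuotientGroup.mk' K), ?_, ?_⟩
  · intro h
    show e.symm (QuotientGroup.mk (h : G)) = h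
    have h1 : (QuotientGroup.mk (h : G) : G ⧸ K) = e h := rfl
    rw [h1, MulEquiv.symm_apply_apply]
  · intro k hk
    show e.symm (QuotientGroup.mk k) = 1
    rw [(QuotientGroup.eq_one_iff k).2 hk, map_one]

/-- **counting characters of degree prime to `|H|`** in `G = K ⋊ H` with `(|K|, |H|) = 1`:
they are the `θ̂ λ` with `θ ∈ Irr(K)` invariant and `λ` a linear character of `H` -/
theorem card_irr_coprime_degree (hKH : K ⊔ H = ⊤) (hcop : (Nat.card K).Coprime (Nat.card H)) :
    Nat.card {χ : Cfsg.IrrCharacter G // (Cfsg.charDegree (χ : G → ℂ)).Coprime (Nat.card H)} =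
      Nat.card {θ : Cfsg.IrrCharacter K //
        ∀ (g : G) (k : K), (θ : K → ℂ) (MulAut.conjNormal g k) = (θ : K → ℂ) k} *
      Nat.card (H →* ℂˣ) := by
  classical
  haveI := Fintype.ofFinite G
  haveI := Fintype.ofFinite K
  have hidx : K.index = Nat.card H := by
    have h1 := Cfsg.Agent.Lib.Helper1.card_sup_of_normalizer_coprime K H
      (by rw [Subgroup.normalizer_eq_top]; exact le_top) hcop.symm
    rw [hKH, Subgroup.card_top] at h1
    have h2 := Subgroup.card_mul_index K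
    rw [h1] at h2
    exact Nat.eq_of_mul_eq_mul_left Nat.card_pos h2
  have hcop' : (Nat.card K).Coprime K.index := by rw [hidx]; exact hcop
  obtain ⟨π, hπH, hπK⟩ := exists_proj K H hKH hcop
  have hext : ∀ θ : {θ : Cfsg.IrrCharacter K //
      ∀ (g : G) (k : K), (θ : K → ℂ) (MulAut.conjNormal g k) = (θ : K → ℂ) k},
      ∃ θh : G → ℂ, Cfsg.IsIrrCharacter G θh ∧ (∀ n : K, θh n = (θ.1 : K → ℂ) n) := by
    intro θ
    obtain ⟨d, Y, hY, hYθ⟩ := θ.1.2
    haveI hY' : Y.IsIrreducible := hY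
    have hinv' : ∀ (g : G) (n : K), Y.character (MulAut.conjNormal g n) = Y.character n := by
      rw [hYθ]
      exact θ.2
    have hdd : d ∣ Nat.card K := by
      have := Cfsg.Agent.Lib.Helper80.charDegree_dvd_card
        (⟨d, Y, hY, rfl⟩ : Cfsg.IsIrrCharacter K Y.character)
      rwa [Cfsg.Agent.Lib.Helper80.charDegree_char] at this
    have hc : Nat.Coprime K.index (Cfsg.detOrder Y.character * d) :=
      Nat.Coprime.mul_right (Nat.Coprime.coprime_dvd_left (detOrder_dvd_card _) hcop').symm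
        (Nat.Coprime.coprime_dvd_left hdd hcop').symm
    obtain ⟨θh, ⟨h1, h2, -⟩, -⟩ := exists_unique_extension_of_coprime K Y hinv' hc
    exact ⟨θh, h1, fun n => by rw [h2 n, hYθ]⟩
  choose ext hext1 hext2 using hext
  have hlin1 : ∀ μ : H →* ℂˣ, (fun g => ((μ (π g) : ℂˣ) : ℂ)) 1 = 1 := by
    intro μ
    simp
  have hlinc : ∀ μ : H →* ℂˣ, Cfsg.IsCharacter G (fun g => ((μ (π g) : ℂˣ) : ℂ)) := fun μ =>
    Cfsg.Agent.Lib.Helper15.isCharacter_of_hom (μ.comp π)
  have hΦirr : ∀ θ (μ : H →* ℂˣ),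
      Cfsg.IsIrrCharacter G ((fun g => ((μ (π g) : ℂˣ) : ℂ)) * ext θ) := fun θ μ =>
    Cfsg.Agent.Lib.Helper15.isIrrCharacter_lin_mul (hlinc μ) (hlin1 μ) (hext1 θ)
  have hΦres : ∀ θ (μ : H →* ℂˣ),
      (fun n : K => ((fun g => ((μ (π g) : ℂˣ) : ℂ)) * ext θ) n) = (θ.1 : K → ℂ) := by
    intro θ μ
    funext n
    show ((μ (π n) : ℂˣ) : ℂ) * ext θ n = _
    rw [hπK n n.2, map_one, Units.val_one, one_mul, hext2 θ n]
  have hΦdeg : ∀ θ (μ : H →* ℂˣ),
      (Cfsg.charDegree ((fun g => ((μ (π g) : ℂˣ) : ℂ)) * ext θ)).Coprime (Nat.card H) := by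
    intro θ μ
    rw [← hidx]
    apply coprime_degree_of_res_irr K hcop'
    rw [hΦres θ μ]
    exact θ.1.2
  rw [← Nat.card_prod]
  symm
  apply Nat.card_eq_of_bijective
    (fun p : {θ : Cfsg.IrrCharacter K //
      ∀ (g : G) (k : K), (θ : K → ℂ) (MulAut.conjNormal g k) = (θ : K → ℂ) k} × (H →* ℂˣ) =>
      (⟨⟨_, hΦirr p.1 p.2⟩, hΦdeg p.1 p.2⟩ :
        {χ : Cfsg.IrrCharacter G // (Cfsg.charDegree (χ : G → ℂ)).Coprime (Nat.card H)}))
  constructor
  · rintro ⟨θ, μ⟩ ⟨θ', μ'⟩ h
    have h1 : (fun g => ((μ (π g) : ℂˣ) : ℂ)) * ext θ = (fun g => ((μ' (π g) : ℂˣ) : ℂ)) * ext θ' :=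
      congrArg (fun x => x.1.1) h
    have hθ : θ = θ' := by
      apply Subtype.ext
      apply Subtype.ext
      rw [← hΦres θ μ, ← hΦres θ' μ', h1]
    subst hθ
    have hd : ext θ 1 = (Cfsg.charDegree (ext θ) : ℂ) :=
      Cfsg.Agent.Lib.Helper80.char_one_eq_charDegree (isCharacter_of_irr (hext1 θ))
    have hdet := Cfsg.Agent.Lib.Helper15.detChar_lin_mul (hlinc μ) (hlin1 μ)
      (isCharacter_of_irr (hext1 θ)) _ hd
    have hdet' := Cfsg.Agent.Lib.Helper15.detChar_lin_mul (hlinc μ') (hlin1 μ')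
      (isCharacter_of_irr (hext1 θ)) _ hd
    rw [h1, hdet'] at hdet
    have hdK : Cfsg.charDegree (ext θ) ∣ Nat.card K := by
      have h5 := Cfsg.Agent.Lib.Helper80.charDegree_dvd_card θ.1.2
      have h6 : Cfsg.charDegree (θ.1 : K → ℂ) = Cfsg.charDegree (ext θ) := by
        unfold Cfsg.charDegree
        have h7 := hext2 θ 1
        rw [← h7]
        rfl
      rwa [h6] at h5
    have hgcd : Nat.gcd (Cfsg.charDegree (ext θ)) K.index = 1 :=
      Nat.Coprime.coprime_dvd_left hdK hcop'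
    have hμ : μ = μ' := by
      ext h
      have h2 := congrFun hdet h
      simp only [hπH] at h2
      have h3 : ((μ' h : ℂˣ) : ℂ) ^ Cfsg.charDegree (ext θ) =
          ((μ h : ℂˣ) : ℂ) ^ Cfsg.charDegree (ext θ) :=
        mul_right_cancel₀ (Cfsg.Agent.Lib.Helper15.detChar_ne_zero _ _) h2
      have h4 : (μ' h) ^ Cfsg.charDegree (ext θ) = (μ h) ^ Cfsg.charDegree (ext θ) := by
        apply Units.ext
        rw [Units.val_pow_eq_pow_val, Units.val_pow_eq_pow_val]
        exact h3
      have h5 : (μ h) ^ K.index = 1 := by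
        have h6 := hom_pow_index_eq_one K (μ.comp π) (fun n => by
          show μ (π n) = 1
          rw [hπK n n.2, map_one]) (h : G)
        have h7 : (μ.comp π) (h : G) = μ h := by
          show μ (π h) = μ h
          rw [hπH]
        rwa [h7] at h6
      have h5' : (μ' h) ^ K.index = 1 := by
        have h6 := hom_pow_index_eq_one K (μ'.comp π) (fun n => by
          show μ' (π n) = 1
          rw [hπK n n.2, map_one]) (h : G)
        have h7 : (μ'.comp π) (h : G) = μ' h := by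
          show μ' (π h) = μ' h
          rw [hπH]
        rwa [h7] at h6
      have h8 : (μ h * (μ' h)⁻¹) ^ Cfsg.charDegree (ext θ) = 1 := by
        rw [mul_pow, inv_pow, h4, mul_inv_cancel]
      have h9 : (μ h * (μ' h)⁻¹) ^ K.index = 1 := by
        rw [mul_pow, inv_pow, h5, h5', inv_one, mul_one]
      have h10 := pow_gcd_eq_one.2 ⟨h8, h9⟩
      rw [hgcd, pow_one] at h10
      have h11 : μ h = μ' h := by
        rw [← mul_inv_eq_one]
        exact h10
      rw [h11]
    rw [hμ]
  · rintro ⟨⟨χ, hχ⟩, hdeg⟩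
    have hres : Cfsg.IsIrrCharacter K (fun n : K => χ n) :=
      res_irr_of_coprime_degree K hcop' hχ (hidx ▸ hdeg)
    have hχcf := isClassFunction_of_isCharacter (isCharacter_of_irr hχ)
    have hθinv : ∀ (g : G) (k : K), (fun n : K => χ n) (MulAut.conjNormal g k) =
        (fun n : K => χ n) k := by
      intro g k
      show χ ((MulAut.conjNormal g k : K) : G) = χ k
      rw [MulAut.conjNormal_apply]
      exact hχcf _ _
    have hresext : Cfsg.IsIrrCharacter K (fun n : K => ext ⟨⟨fun n : K => χ n, hres⟩, hθinv⟩ n) := by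
      have h1 : (fun n : K => ext ⟨⟨fun n : K => χ n, hres⟩, hθinv⟩ n) = fun n : K => χ n :=
        funext (hext2 ⟨⟨fun n : K => χ n, hres⟩, hθinv⟩)
      rw [h1]
      exact hres
    have hover : Cfsg.classInner (fun n : K => χ n)
        (fun n : K => ext ⟨⟨fun n : K => χ n, hres⟩, hθinv⟩ n) ≠ 0 := by
      have h1 : (fun n : K => ext ⟨⟨fun n : K => χ n, hres⟩, hθinv⟩ n) = fun n : K => χ n :=
        funext (hext2 ⟨⟨fun n : K => χ n, hres⟩, hθinv⟩)
      rw [h1, classInner_irr_self hres]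
      exact one_ne_zero
    obtain ⟨β, hβ, hβK, hχβ⟩ := gallagher_exists K (hext1 ⟨⟨fun n : K => χ n, hres⟩, hθinv⟩)
      hresext hχ hover
    have hβ1 : β 1 = 1 := by
      have h5 := congrFun hχβ 1
      rw [Pi.mul_apply] at h5
      have h6 : ext ⟨⟨fun n : K => χ n, hres⟩, hθinv⟩ 1 = χ 1 :=
        hext2 ⟨⟨fun n : K => χ n, hres⟩, hθinv⟩ 1
      rw [h6] at h5
      have h7 : χ 1 ≠ 0 := Cfsg.Agent.Lib.Helper80.char_one_ne_zero hχ
      have h8 : (1 : ℂ) * χ 1 = β 1 * χ 1 := by rw [one_mul]; exact h5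
      exact (mul_right_cancel₀ h7 h8).symm
    have hlam : ∀ g : G, ((Cfsg.Agent.Lib.Helper15.linCharHom (isCharacter_of_irr hβ) hβ1 g : ℂˣ) : ℂ)
        = β g := fun g => Cfsg.Agent.Lib.Helper15.linCharHom_apply _ _ g
    have hKE : K ≤ MonoidHom.eqLocus (Cfsg.Agent.Lib.Helper15.linCharHom (isCharacter_of_irr hβ) hβ1)
        (((Cfsg.Agent.Lib.Helper15.linCharHom (isCharacter_of_irr hβ) hβ1).comp H.subtype).comp π) := by
      intro k hk
      show Cfsg.Agent.Lib.Helper15.linCharHom (isCharacter_of_irr hβ) hβ1 k =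
        Cfsg.Agent.Lib.Helper15.linCharHom (isCharacter_of_irr hβ) hβ1 ((π k : H) : G)
      rw [hπK k hk]
      apply Units.ext
      rw [hlam, hlam]
      show β k = β 1
      exact hβK ⟨k, hk⟩
    have hHE : H ≤ MonoidHom.eqLocus (Cfsg.Agent.Lib.Helper15.linCharHom (isCharacter_of_irr hβ) hβ1)
        (((Cfsg.Agent.Lib.Helper15.linCharHom (isCharacter_of_irr hβ) hβ1).comp H.subtype).comp π) := by
      intro h hh
      show Cfsg.Agent.Lib.Helper15.linCharHom (isCharacter_of_irr hβ) hβ1 h =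
        Cfsg.Agent.Lib.Helper15.linCharHom (isCharacter_of_irr hβ) hβ1 ((π h : H) : G)
      have h1 := hπH ⟨h, hh⟩
      rw [h1]
    have hall : ∀ g : G, Cfsg.Agent.Lib.Helper15.linCharHom (isCharacter_of_irr hβ) hβ1 g =
        Cfsg.Agent.Lib.Helper15.linCharHom (isCharacter_of_irr hβ) hβ1 ((π g : H) : G) := by
      intro g
      have hg : g ∈ K ⊔ H := hKH ▸ Subgroup.mem_top g
      exact (sup_le hKE hHE) hg
    refine ⟨(⟨⟨fun n : K => χ n, hres⟩, hθinv⟩,
      (Cfsg.Agent.Lib.Helper15.linCharHom (isCharacter_of_irr hβ) hβ1).comp H.subtype), ?_⟩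
    apply Subtype.ext
    apply Subtype.ext
    show (fun g => ((Cfsg.Agent.Lib.Helper15.linCharHom (isCharacter_of_irr hβ) hβ1 ((π g : H) : G)
      : ℂˣ) : ℂ)) * ext ⟨⟨fun n : K => χ n, hres⟩, hθinv⟩ = χ
    refine Eq.trans ?_ hχβ.symm
    congr 1
    funext g
    rw [← hall g, hlam]

end CoprimeCount

end Cfsg.Agent.Lib.Helper75
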