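import Mathlib
import Cfsg.Agent.Lib.Helper1.Basic
import Cfsg.Agent.Lib.Helper1.SZInternal

/-!
# Group theory behind the Glauberman correspondence (cyclic case)

`G` normal in `Γ`, `s ∈ Γ` of order prime to `|G|`, `C = C_G(s)`: every element of the coset
`G s` is `G`-conjugate to an element of `C s`, and the conjugation map `G × C → G s` has all
fibres of size `|C|`.
-/

set_option autoImplicit false
set_option linter.style.haveILetI false

namespace Cfsg.Agent.Lib.Helper75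

open Pointwise

universe u

section GlaubGroup

variable {Γ : Type u} [Group Γ] (G : Subgroup Γ) [hG : G.Normal] (s : Γ)

/-- `(n s)^j ∈ G s^j` -/
theorem mul_pow_mem_coset (n : Γ) (hn : n ∈ G) (j : ℕ) :
    ∃ n' ∈ G, (n * s) ^ j = n' * s ^ j := by
  induction j with
  | zero => exact ⟨1, G.one_mem, by simp⟩
  | succ j ih =>
    obtain ⟨n', hn', h⟩ := ih
    refine ⟨n' * (s ^ j * n * (s ^ j)⁻¹), G.mul_mem hn' (hG.conj_mem n hn _), ?_⟩
    rw [pow_succ, h, pow_succ]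
    group

omit hG in
/-- an exponent `k ≡ 1 (mod |s|)`, `k ≡ 0 (mod |G|)` -/
theorem exists_crt_exp (hcop : (Nat.card G).Coprime (orderOf s)) :
    ∃ k : ℕ, k ≡ 0 [MOD Nat.card G] ∧ k ≡ 1 [MOD orderOf s] :=
  ⟨(Nat.chineseRemainder hcop 0 1 : ℕ), (Nat.chineseRemainder hcop 0 1).2.1,
    (Nat.chineseRemainder hcop 0 1).2.2⟩

omit hG in
theorem pow_crt_of_mem {k : ℕ} (hk0 : k ≡ 0 [MOD Nat.card G]) {c : Γ} (hc : c ∈ G) :
    c ^ k = 1 := by
  have h1 : orderOf c ∣ Nat.card G := by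
    have := orderOf_dvd_natCard (⟨c, hc⟩ : G)
    rwa [← Subgroup.orderOf_coe] at this
  have h2 : k ≡ 0 [MOD orderOf c] := hk0.of_dvd h1
  rw [← pow_zero c]
  exact pow_eq_pow_iff_modEq.2 h2

omit hG in
theorem pow_crt_self {k : ℕ} (hk1 : k ≡ 1 [MOD orderOf s]) : s ^ k = s := by
  conv_rhs => rw [← pow_one s]
  exact pow_eq_pow_iff_modEq.2 hk1

omit hG in
theorem mul_pow_crt {k : ℕ} (hk0 : k ≡ 0 [MOD Nat.card G]) (hk1 : k ≡ 1 [MOD orderOf s])
    {c : Γ} (hc : c ∈ G) (hcs : c * s = s * c) : (c * s) ^ k = s := by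
  have h : Commute c s := hcs
  rw [h.mul_pow, pow_crt_of_mem G hk0 hc, pow_crt_self s hk1, one_mul]

omit hG in
theorem eq_one_of_mem_zpowers_of_mem (hcop : (Nat.card G).Coprime (orderOf s)) {x : Γ}
    (hx : x ∈ Subgroup.zpowers s) (hxG : x ∈ G) : x = 1 :=
  Cfsg.Agent.Lib.Helper1.eq_one_of_mem_of_coprime (A := Subgroup.zpowers s) (N := G)
    (by rw [Nat.card_zpowers]; exact hcop.symm) hx hxG

/-- every element of `G s` is `G`-conjugate to an element `c s` with `c ∈ C_G(s)` -/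
theorem exists_conj_centralizer [Finite Γ] (hcop : (Nat.card G).Coprime (orderOf s)) (n : Γ) (hn : n ∈ G) :
    ∃ g ∈ G, ∃ c ∈ G, c * s = s * c ∧ g * (c * s) * g⁻¹ = n * s := by
  obtain ⟨k, hk0, hk1⟩ := exists_crt_exp G s hcop
  obtain ⟨n', hn', hnk⟩ := mul_pow_mem_coset G s n hn k
  rw [pow_crt_self s hk1] at hnk
  have hto : orderOf ((n * s) ^ k) = orderOf s := by
    apply Nat.dvd_antisymm
    · apply orderOf_dvd_of_pow_eq_one
      obtain ⟨n₂, hn₂, h2⟩ := mul_pow_mem_coset G s n hn (orderOf s)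
      rw [pow_orderOf_eq_one, mul_one] at h2
      rw [← pow_mul, mul_comm, pow_mul, h2]
      exact pow_crt_of_mem G hk0 hn₂
    · apply orderOf_dvd_of_pow_eq_one
      obtain ⟨n₃, hn₃, h3⟩ := mul_pow_mem_coset G s n' hn' (orderOf ((n * s) ^ k))
      rw [← hnk, pow_orderOf_eq_one] at h3
      have h4 : s ^ orderOf ((n * s) ^ k) = n₃⁻¹ := eq_inv_of_mul_eq_one_right h3.symm
      exact eq_one_of_mem_zpowers_of_mem G s hcop
        ((Subgroup.zpowers s).pow_mem (Subgroup.mem_zpowers s) _)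
        (by rw [h4]; exact G.inv_mem hn₃)
  letI : CommGroup (Subgroup.zpowers s) := IsCyclic.commGroup
  haveI : Group.IsSolvable (Subgroup.zpowers s) := inferInstance
  obtain ⟨m, hm, hconj⟩ := Cfsg.Agent.Lib.Helper1.sz_conj_internal G (Subgroup.zpowers s)
    (Subgroup.zpowers ((n * s) ^ k))
    (by rw [Subgroup.normalizer_eq_top]; exact le_top)
    (by rw [Nat.card_zpowers]; exact hcop.symm)
    (Or.inl inferInstance)
    (by
      rw [Subgroup.zpowers_le, hnk]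
      exact Subgroup.mul_mem_sup hn' (Subgroup.mem_zpowers s))
    (by rw [Nat.card_zpowers, Nat.card_zpowers, hto])
  have h4 : m * (n * s) ^ k * m⁻¹ ∈ Subgroup.zpowers s := by
    rw [← hconj, Cfsg.Agent.Lib.Helper1.mem_conj_smul]
    have : m⁻¹ * (m * (n * s) ^ k * m⁻¹) * m = (n * s) ^ k := by group
    rw [this]
    exact Subgroup.mem_zpowers _
  have h5 : m * (n * s) ^ k * m⁻¹ * s⁻¹ ∈ G := by
    rw [hnk]
    have : m * (n' * s) * m⁻¹ * s⁻¹ = m * n' * (s * m⁻¹ * s⁻¹) := by group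
    rw [this]
    exact G.mul_mem (G.mul_mem hm hn') (hG.conj_mem _ (G.inv_mem hm) _)
  have h6 : m * (n * s) ^ k * m⁻¹ = s := by
    have := eq_one_of_mem_zpowers_of_mem G s hcop
      (Subgroup.mul_mem _ h4 (Subgroup.inv_mem _ (Subgroup.mem_zpowers s))) h5
    exact mul_inv_eq_one.1 this
  refine ⟨m⁻¹, G.inv_mem hm, m * (n * s) * m⁻¹ * s⁻¹, ?_, ?_, ?_⟩
  · have : m * (n * s) * m⁻¹ * s⁻¹ = m * n * (s * m⁻¹ * s⁻¹) := by group
    rw [this]
    exact G.mul_mem (G.mul_mem hm hn) (hG.conj_mem _ (G.inv_mem hm) _)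
  · have hy : (m * (n * s) * m⁻¹) ^ k = s := by
      rw [conj_pow]
      exact h6
    have hcomm : Commute (m * (n * s) * m⁻¹) s := by
      have h8 : Commute (m * (n * s) * m⁻¹) ((m * (n * s) * m⁻¹) ^ k) :=
        Commute.pow_right (Commute.refl _) k
      rwa [hy] at h8
    rw [inv_mul_cancel_right]
    have h9 := hcomm.eq
    rw [← mul_assoc s, ← h9, mul_inv_cancel_right]
  · rw [inv_mul_cancel_right, inv_inv]
    group

omit hG in
/-- the fibres of `(g, c) ↦ g (c s) g⁻¹` are cosets of `C_G(s)` -/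
theorem conj_fiber (hcop : (Nat.card G).Coprime (orderOf s)) {g g₀ c c₀ : Γ} (hc : c ∈ G) (hcs : c * s = s * c) (hc₀ : c₀ ∈ G) (hc₀s : c₀ * s = s * c₀)
    (h : g * (c * s) * g⁻¹ = g₀ * (c₀ * s) * g₀⁻¹) :
    (g₀⁻¹ * g) * s = s * (g₀⁻¹ * g) ∧ c = (g₀⁻¹ * g)⁻¹ * c₀ * (g₀⁻¹ * g) := by
  obtain ⟨k, hk0, hk1⟩ := exists_crt_exp G s hcop
  have h1 : (g₀⁻¹ * g) * (c * s) * (g₀⁻¹ * g)⁻¹ = c₀ * s := by
    have : (g₀⁻¹ * g) * (c * s) * (g₀⁻¹ * g)⁻¹ = g₀⁻¹ * (g * (c * s) * g⁻¹) * g₀ := by group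
    rw [this, h]
    group
  have h2 : (g₀⁻¹ * g) * s * (g₀⁻¹ * g)⁻¹ = s := by
    have h3 := congrArg (fun x => x ^ k) h1
    simp only [conj_pow] at h3
    rwa [mul_pow_crt G s hk0 hk1 hc hcs, mul_pow_crt G s hk0 hk1 hc₀ hc₀s] at h3
  have h4 : (g₀⁻¹ * g) * s = s * (g₀⁻¹ * g) := mul_inv_eq_iff_eq_mul.1 h2
  refine ⟨h4, ?_⟩
  have h5 : (g₀⁻¹ * g) * c * (g₀⁻¹ * g)⁻¹ = c₀ := by
    have h6 : (g₀⁻¹ * g) * (c * s) * (g₀⁻¹ * g)⁻¹ =
        ((g₀⁻¹ * g) * c * (g₀⁻¹ * g)⁻¹) * ((g₀⁻¹ * g) * s * (g₀⁻¹ * g)⁻¹) := by group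
    rw [h6, h2] at h1
    exact mul_right_cancel h1
  rw [← h5]
  group

end GlaubGroup

section CosetSum

variable {Γ : Type u} [Group Γ] [Finite Γ] (G : Subgroup Γ) [hG : G.Normal] (s : Γ)
  (C : Subgroup Γ) (hC : ∀ c : Γ, c ∈ C ↔ c ∈ G ∧ c * s = s * c)

include hC in
/-- **coset sums**: for a function `f` invariant under `G`-conjugation, the sum of `f` over the
coset `G s` is `|G| / |C|` times its sum over `C s` -/
theorem coset_sum_eq [Fintype G] [Fintype C] (hcop : (Nat.card G).Coprime (orderOf s))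
    (f : Γ → ℂ) (hf : ∀ g ∈ G, ∀ x : Γ, f (g * x * g⁻¹) = f x) :
    (Fintype.card C : ℂ) * ∑ n : G, f ((n : Γ) * s) =
      (Fintype.card G : ℂ) * ∑ c : C, f ((c : Γ) * s) := by
  classical
  have hmem : ∀ (g : G) (c : C), (g : Γ) * c * s * (g : Γ)⁻¹ * s⁻¹ ∈ G := by
    intro g c
    have : (g : Γ) * c * s * (g : Γ)⁻¹ * s⁻¹ = g * c * (s * (g : Γ)⁻¹ * s⁻¹) := by group
    rw [this]
    exact G.mul_mem (G.mul_mem g.2 ((hC c).1 c.2).1) (hG.conj_mem _ (G.inv_mem g.2) _)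
  let ν : G × C → G := fun p => ⟨(p.1 : Γ) * p.2 * s * (p.1 : Γ)⁻¹ * s⁻¹, hmem p.1 p.2⟩
  have hν : ∀ p : G × C, ((ν p : G) : Γ) * s = (p.1 : Γ) * ((p.2 : Γ) * s) * (p.1 : Γ)⁻¹ := by
    intro p
    show (p.1 : Γ) * p.2 * s * (p.1 : Γ)⁻¹ * s⁻¹ * s = _
    group
  have hT1 : ∑ p : G × C, f ((ν p : Γ) * s) =
      (Fintype.card G : ℂ) * ∑ c : C, f ((c : Γ) * s) := by
    rw [Fintype.sum_prod_type]
    have h1 : ∀ g : G, ∑ c : C, f (((ν (g, c) : G) : Γ) * s) = ∑ c : C, f ((c : Γ) * s) := by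
      intro g
      refine Finset.sum_congr rfl (fun c _ => ?_)
      rw [hν]
      exact hf g g.2 _
    rw [Finset.sum_congr rfl (fun g _ => h1 g), Finset.sum_const, Finset.card_univ,
      nsmul_eq_mul]
  have hfib : ∀ n : G, (Finset.univ.filter (fun p : G × C => ν p = n)).card =
      Fintype.card C := by
    intro n
    obtain ⟨g₀, hg₀, c₀, hc₀, hc₀s, h0⟩ := exists_conj_centralizer G s hcop n n.2
    have hc₀C : c₀ ∈ C := (hC c₀).2 ⟨hc₀, hc₀s⟩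
    rw [← Finset.card_univ (α := C)]
    symm
    apply Finset.card_bij (fun (u : C) _ =>
      ((⟨g₀ * u, G.mul_mem hg₀ ((hC u).1 u.2).1⟩ : G),
        (⟨(u : Γ)⁻¹ * c₀ * u, C.mul_mem (C.mul_mem (C.inv_mem u.2) hc₀C) u.2⟩ : C)))
    · intro u _
      rw [Finset.mem_filter]
      refine ⟨Finset.mem_univ _, ?_⟩
      apply Subtype.ext
      apply mul_right_cancel (b := s)
      rw [hν, ← h0]
      show g₀ * (u : Γ) * ((u : Γ)⁻¹ * c₀ * u * s) * (g₀ * (u : Γ))⁻¹ = g₀ * (c₀ * s) * g₀⁻¹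
      have hus : (u : Γ) * s = s * u := ((hC u).1 u.2).2
      have h2 : g₀ * (u : Γ) * ((u : Γ)⁻¹ * c₀ * u * s) * (g₀ * (u : Γ))⁻¹ =
          g₀ * (c₀ * ((u : Γ) * s * (u : Γ)⁻¹)) * g₀⁻¹ := by group
      rw [h2, hus, mul_inv_cancel_right]
    · intro u _ u' _ h
      have h1 := congrArg (fun p : G × C => (p.1 : Γ)) h
      exact Subtype.ext (mul_left_cancel h1)
    · intro p hp
      rw [Finset.mem_filter] at hp
      have h1 : (p.1 : Γ) * ((p.2 : Γ) * s) * (p.1 : Γ)⁻¹ = g₀ * (c₀ * s) * g₀⁻¹ := by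
        rw [← hν, hp.2, h0]
      obtain ⟨h2, h3⟩ := conj_fiber G s hcop ((hC p.2).1 p.2.2).1 ((hC p.2).1 p.2.2).2 hc₀
        hc₀s h1
      have huC : g₀⁻¹ * (p.1 : Γ) ∈ C := (hC _).2 ⟨G.mul_mem (G.inv_mem hg₀) p.1.2, h2⟩
      refine ⟨⟨g₀⁻¹ * (p.1 : Γ), huC⟩, Finset.mem_univ _, ?_⟩
      apply Prod.ext
      · apply Subtype.ext
        show g₀ * (g₀⁻¹ * (p.1 : Γ)) = p.1
        group
      · apply Subtype.ext
        show (g₀⁻¹ * (p.1 : Γ))⁻¹ * c₀ * (g₀⁻¹ * (p.1 : Γ)) = p.2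
        exact h3.symm
  have hT2 : ∑ p : G × C, f ((ν p : Γ) * s) =
      (Fintype.card C : ℂ) * ∑ n : G, f ((n : Γ) * s) := by
    rw [← Finset.sum_fiberwise Finset.univ ν (fun p => f ((ν p : Γ) * s)), Finset.mul_sum]
    refine Finset.sum_congr rfl (fun n _ => ?_)
    have h1 : ∀ p ∈ Finset.univ.filter (fun p : G × C => ν p = n),
        f ((ν p : Γ) * s) = f ((n : Γ) * s) := by
      intro p hp
      rw [(Finset.mem_filter.1 hp).2]
    rw [Finset.sum_congr rfl h1, Finset.sum_const, hfib n, nsmul_eq_mul]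
  rw [← hT2, hT1]

end CosetSum

end Cfsg.Agent.Lib.Helper75
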