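import Mathlib
import Cfsg.Prelude.Def_Characters
import Cfsg.Prelude.Def_Blocks
import Cfsg.Prelude.Def_CharExt
import Cfsg.Agent.S0868
import Cfsg.Agent.Lib.Helper1.SZInternal
import Cfsg.Agent.Lib.Helper3.CharValues
import Cfsg.Agent.Lib.Helper15.DetChar
import Cfsg.Agent.Lib.Helper80.CharOps
import Cfsg.Agent.Lib.Helper80.CharKer
import Cfsg.Agent.Lib.Helper75.CharDecomp
import Cfsg.Agent.Lib.Helper75.CharInd
import Cfsg.Agent.Lib.Helper75.GaloisChar
import Cfsg.Agent.Lib.Helper75.CentExt7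
import Cfsg.Agent.Lib.Helper75.Glaub1
import Cfsg.Agent.Lib.Helper75.Glaub2

/-!
# The Glauberman correspondence, cyclic case

`G` normal in `Γ = G ⟨s⟩`, `|s|` prime to `|G|`, `C = C_G(s)`.  For the canonical extension `χh`
of an `s`-invariant `χ ∈ Irr(G)`, the function `c ↦ χh (c s)` on `C` is `±β` for a unique
`β ∈ Irr(C)`.
-/

set_option autoImplicit false
set_option linter.style.haveILetI false

namespace Cfsg.Agent.Lib.Helper75

open Representation Module
open Cfsg.Agent.Lib.Helper3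
open scoped ComplexConjugate

universe u

section GlaubChar

variable {Γ : Type u} [Group Γ] [Fintype Γ] (G : Subgroup Γ) [hG : G.Normal] (s : Γ)
  (hcop : (Nat.card G).Coprime (orderOf s)) (htop : G ⊔ Subgroup.zpowers s = ⊤)

include hcop htop in
theorem card_eq_mul_orderOf : Nat.card Γ = Nat.card G * orderOf s := by
  have h1 := Cfsg.Agent.Lib.Helper1.card_sup_of_normalizer_coprime G (Subgroup.zpowers s)
    (by rw [Subgroup.normalizer_eq_top]; exact le_top)
    (by rw [Nat.card_zpowers]; exact hcop.symm)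
  rw [htop, Subgroup.card_top, Nat.card_zpowers] at h1
  exact h1

include hcop htop in
theorem index_eq_orderOf : G.index = orderOf s := by
  have h1 := card_eq_mul_orderOf G s hcop htop
  have h2 := Subgroup.card_mul_index G
  rw [h1] at h2
  exact Nat.eq_of_mul_eq_mul_left Nat.card_pos h2

include hcop htop in
/-- two extensions of `χ ∈ Irr(G)` with determinantal order prime to `|s|` coincide -/
theorem canonical_ext_unique {χh χh' : Γ → ℂ} (h1 : Cfsg.IsIrrCharacter Γ χh)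
    (h2 : Cfsg.IsIrrCharacter Γ χh') (hres : Cfsg.IsIrrCharacter G (fun g : G => χh g))
    (heq : ∀ g : G, χh' g = χh g) (hd1 : (Cfsg.detOrder χh).Coprime (orderOf s))
    (hd2 : (Cfsg.detOrder χh').Coprime (orderOf s)) : χh' = χh := by
  obtain ⟨d, Y, hY, hYχ⟩ := hres
  have hY' : Y.IsIrreducible := hY
  have hcf := isClassFunction_of_isCharacter (isCharacter_of_irr h1)
  have hinv : ∀ (g : Γ) (n : G), Y.character (MulAut.conjNormal g n) = Y.character n := by
    intro g n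
    rw [hYχ]
    exact hcf n g
  have hidx := index_eq_orderOf G s hcop htop
  have hdd : d ∣ Nat.card G := by
    have := Cfsg.Agent.Lib.Helper80.charDegree_dvd_card
      (⟨d, Y, hY, rfl⟩ : Cfsg.IsIrrCharacter G Y.character)
    rwa [Cfsg.Agent.Lib.Helper80.charDegree_char] at this
  have hc : Nat.Coprime G.index (Cfsg.detOrder Y.character * d) := by
    rw [hidx]
    exact Nat.Coprime.mul_right
      (Nat.Coprime.coprime_dvd_right (detOrder_dvd_card Y.character) hcop.symm)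
      (Nat.Coprime.coprime_dvd_right hdd hcop.symm)
  obtain ⟨χ₀, -, huniq⟩ := exists_unique_extension_of_coprime G Y hinv hc
  have e1 : χh = χ₀ := huniq χh h1 (fun n => by rw [hYχ]) (by rw [hidx]; exact hd1.symm)
  have e2 : χh' = χ₀ := huniq χh' h2 (fun n => by rw [hYχ, heq]) (by rw [hidx]; exact hd2.symm)
  rw [e1, e2]

include hcop htop in
/-- the canonical extension is fixed by the Galois automorphisms fixing `|G|`-th roots of unity -/
theorem canonical_ext_pow {χh : Γ → ℂ} (h1 : Cfsg.IsIrrCharacter Γ χh)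
    (hres : Cfsg.IsIrrCharacter G (fun g : G => χh g))
    (hd1 : (Cfsg.detOrder χh).Coprime (orderOf s)) (k : ℕ) (hk : k.Coprime (Nat.card Γ))
    (hk1 : k ≡ 1 [MOD Nat.card G]) (y : Γ) : χh (y ^ k) = χh y := by
  obtain ⟨σ, hσ⟩ := exists_galois_pow (G := Γ) k hk
  have hc := isCharacter_of_irr h1
  have h2 : Cfsg.IsIrrCharacter Γ (fun y => σ (χh y)) := isIrrCharacter_galois σ h1
  have heq : ∀ g : G, (fun y => σ (χh y)) g = χh g := by
    intro g
    show σ (χh g) = χh g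
    rw [hσ χh hc]
    have h3 : orderOf (g : Γ) ∣ Nat.card G := by
      have := orderOf_dvd_natCard g
      rwa [← Subgroup.orderOf_coe] at this
    have h4 : (g : Γ) ^ k = (g : Γ) ^ 1 := pow_eq_pow_iff_modEq.2 (hk1.of_dvd h3)
    rw [h4, pow_one]
  have hd2 : (Cfsg.detOrder (fun y => σ (χh y))).Coprime (orderOf s) := by
    rw [detOrder_galois σ hc]
    exact hd1
  have h5 := canonical_ext_unique G s hcop htop h1 h2 hres heq hd1 hd2
  have h6 := congrFun h5 y
  rw [← h6]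
  exact (hσ χh hc y).symm

include hcop htop in
/-- the canonical extension takes the same value on `c s` and `c s^j` for `c ∈ C_G(s)`,
`j` prime to `|s|` -/
theorem canonical_ext_gen {χh : Γ → ℂ} (h1 : Cfsg.IsIrrCharacter Γ χh)
    (hres : Cfsg.IsIrrCharacter G (fun g : G => χh g))
    (hd1 : (Cfsg.detOrder χh).Coprime (orderOf s)) (c : Γ) (hc : c ∈ G) (hcs : c * s = s * c)
    (j : ℕ) (hj : j.Coprime (orderOf s)) : χh (c * s ^ j) = χh (c * s) := by
  have hk1 : (Nat.chineseRemainder hcop 1 j : ℕ) ≡ 1 [MOD Nat.card G] :=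
    (Nat.chineseRemainder hcop 1 j).2.1
  have hkj : (Nat.chineseRemainder hcop 1 j : ℕ) ≡ j [MOD orderOf s] :=
    (Nat.chineseRemainder hcop 1 j).2.2
  have hkc : (Nat.chineseRemainder hcop 1 j : ℕ).Coprime (Nat.card Γ) := by
    rw [card_eq_mul_orderOf G s hcop htop]
    apply Nat.Coprime.mul_right
    · have := hk1.gcd_eq
      rw [Nat.Coprime, this]
      exact Nat.gcd_one_left _
    · have := hkj.gcd_eq
      rw [Nat.Coprime, this]
      exact hj
  have h2 := canonical_ext_pow G s hcop htop h1 hres hd1 _ hkc hk1 (c * s)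
  have hcomm : Commute c s := hcs
  have h3 : orderOf c ∣ Nat.card G := by
    have := orderOf_dvd_natCard (⟨c, hc⟩ : G)
    rwa [← Subgroup.orderOf_coe] at this
  have h4 : c ^ (Nat.chineseRemainder hcop 1 j : ℕ) = c ^ 1 :=
    pow_eq_pow_iff_modEq.2 (hk1.of_dvd h3)
  have h5 : s ^ (Nat.chineseRemainder hcop 1 j : ℕ) = s ^ j := pow_eq_pow_iff_modEq.2 hkj
  rw [hcomm.mul_pow, h4, h5, pow_one] at h2
  exact h2

variable (C : Subgroup Γ) (hC : ∀ c : Γ, c ∈ C ↔ c ∈ G ∧ c * s = s * c) [Fintype G] [Fintype C]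

include hC hcop in
/-- coset orthogonality transported to `C s` -/
theorem sum_centralizer_coset {χh ψh : Γ → ℂ} (h1 : Cfsg.IsIrrCharacter Γ χh)
    (h2 : Cfsg.IsIrrCharacter Γ ψh) (hres : Cfsg.IsIrrCharacter G (fun g : G => χh g)) :
    (ψh = χh → ∑ c : C, ψh ((c : Γ) * s) * conj (χh ((c : Γ) * s)) = (Nat.card C : ℂ)) ∧
    (Cfsg.classInner (fun g : G => ψh g) (fun g : G => χh g) = 0 →
      ∑ c : C, ψh ((c : Γ) * s) * conj (χh ((c : Γ) * s)) = 0) := by
  have hcf1 := isClassFunction_of_isCharacter (isCharacter_of_irr h1)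
  have hcf2 := isClassFunction_of_isCharacter (isCharacter_of_irr h2)
  have hsum := coset_sum_eq G s C hC hcop (fun x => ψh x * conj (χh x))
    (fun g _ x => by
      show ψh (g * x * g⁻¹) * conj (χh (g * x * g⁻¹)) = ψh x * conj (χh x)
      rw [hcf1 x g, hcf2 x g])
  obtain ⟨-, hb, ha⟩ := Cfsg.Agent.S0868.result G χh h1 hres ψh h2 _ rfl
  have hG0 : (Nat.card G : ℂ) ≠ 0 := by
    exact_mod_cast (Nat.card_pos (α := G)).ne'
  have hGc : (Fintype.card G : ℂ) = (Nat.card G : ℂ) := by rw [Nat.card_eq_fintype_card]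
  have hCc : (Fintype.card C : ℂ) = (Nat.card C : ℂ) := by rw [Nat.card_eq_fintype_card]
  rw [hGc, hCc] at hsum
  have key : ∑ c : C, ψh ((c : Γ) * s) * conj (χh ((c : Γ) * s)) =
      (Nat.card C : ℂ) * ((Nat.card G : ℂ)⁻¹ * ∑ n : G, ψh ((n : Γ) * s) * conj (χh ((n : Γ) * s)))
      := by
    have h3 : (Nat.card G : ℂ) * ∑ c : C, ψh ((c : Γ) * s) * conj (χh ((c : Γ) * s)) =
        (Nat.card G : ℂ) * ((Nat.card C : ℂ) * ((Nat.card G : ℂ)⁻¹ *
          ∑ n : G, ψh ((n : Γ) * s) * conj (χh ((n : Γ) * s)))) := by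
      rw [← hsum]
      field_simp
    exact mul_left_cancel₀ hG0 h3
  constructor
  · intro h
    have h4 := congrFun (ha h) s
    rw [key, h4, mul_one]
  · intro h
    have h4 := congrFun (hb h) s
    rw [key, h4]
    simp

omit hG [Fintype ↥G] in
include hC in
/-- the restriction of a character of `Γ` to the cosets `C s^j`, decomposed along the
irreducible characters of the centralizer of `s` -/
theorem exists_decomp_centralizer {χh : Γ → ℂ} (hχh : Cfsg.IsCharacter Γ χh) {ψ : C → ℂ}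
    (hψ : Cfsg.IsCharacter C ψ) :
    ∃ (ι : Type u) (_ : Fintype ι) (a : ι → ℕ) (ω : ι → ℂ), (∀ i, ω i ^ orderOf s = 1) ∧
      ∀ j : ℕ, Cfsg.classInner (fun c : C => χh ((c : Γ) * s ^ j)) ψ =
        ∑ i, (a i : ℂ) * ω i ^ j := by
  classical
  haveI : Fintype (Subgroup.centralizer ({s} : Set Γ)) := Fintype.ofFinite _
  haveI : Fintype (Cfsg.IrrCharacter (Subgroup.centralizer ({s} : Set Γ))) := Fintype.ofFinite _
  have hsD : s ∈ Subgroup.centralizer ({s} : Set Γ) := by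
    rw [Subgroup.mem_centralizer_iff]
    intro h hh
    rw [Set.mem_singleton_iff] at hh
    rw [hh]
  have hz : (⟨s, hsD⟩ : Subgroup.centralizer ({s} : Set Γ)) ∈
      Subgroup.center (Subgroup.centralizer ({s} : Set Γ)) := by
    rw [Subgroup.mem_center_iff]
    intro x
    apply Subtype.ext
    have h1 := Subgroup.mem_centralizer_iff.1 x.2 s (Set.mem_singleton s)
    exact h1.symm
  have hCD : C ≤ Subgroup.centralizer ({s} : Set Γ) := by
    intro c hc
    rw [Subgroup.mem_centralizer_iff]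
    intro h hh
    rw [Set.mem_singleton_iff] at hh
    rw [hh]
    exact ((hC c).1 hc).2.symm
  obtain ⟨n, -, hsum⟩ := char_eq_sum_irr
    (isCharacter_res (Subgroup.centralizer ({s} : Set Γ)) hχh)
  have hcen : ∀ ξ : Cfsg.IrrCharacter (Subgroup.centralizer ({s} : Set Γ)),
      ∃ ω : ℂ, ω ^ orderOf s = 1 ∧ ∀ (x : Subgroup.centralizer ({s} : Set Γ)) (j : ℕ),
        (ξ : Subgroup.centralizer ({s} : Set Γ) → ℂ) (x * ⟨s, hsD⟩ ^ j) =
          ω ^ j * (ξ : Subgroup.centralizer ({s} : Set Γ) → ℂ) x := by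
    intro ξ
    obtain ⟨ω, h1, h2⟩ := central_scalar ξ.2 ⟨s, hsD⟩ hz
    refine ⟨ω, ?_, h2⟩
    have h3 : orderOf (⟨s, hsD⟩ : Subgroup.centralizer ({s} : Set Γ)) = orderOf s := by
      rw [← Subgroup.orderOf_coe]
    rw [← h3]
    exact h1
  choose ω hω1 hω2 using hcen
  have hres : ∀ ξ : Cfsg.IrrCharacter (Subgroup.centralizer ({s} : Set Γ)),
      Cfsg.IsCharacter C (fun c : C =>
        (ξ : Subgroup.centralizer ({s} : Set Γ) → ℂ) ⟨c, hCD c.2⟩) := by
    intro ξ
    obtain ⟨d, ρ, hρ⟩ := isCharacter_of_irr ξ.2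
    exact ⟨d, ρ.comp (Subgroup.inclusion hCD), by rw [← hρ]; rfl⟩
  have hm : ∀ ξ : Cfsg.IrrCharacter (Subgroup.centralizer ({s} : Set Γ)), ∃ m : ℕ,
      Cfsg.classInner (fun c : C =>
        (ξ : Subgroup.centralizer ({s} : Set Γ) → ℂ) ⟨c, hCD c.2⟩) ψ = (m : ℂ) :=
    fun ξ => classInner_char_nat (hres ξ) hψ
  choose m hm using hm
  refine ⟨Cfsg.IrrCharacter (Subgroup.centralizer ({s} : Set Γ)), inferInstance,
    fun ξ => n ξ * m ξ, ω, hω1, fun j => ?_⟩
  have h1 : (fun c : C => χh ((c : Γ) * s ^ j)) =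
      ∑ ξ : Cfsg.IrrCharacter (Subgroup.centralizer ({s} : Set Γ)), ((n ξ : ℂ) * ω ξ ^ j) •
        (fun c : C => (ξ : Subgroup.centralizer ({s} : Set Γ) → ℂ) ⟨c, hCD c.2⟩) := by
    funext c
    have h2 := congrFun hsum ((⟨c, hCD c.2⟩ : Subgroup.centralizer ({s} : Set Γ)) *
      ⟨s, hsD⟩ ^ j)
    simp only [Finset.sum_apply, Pi.smul_apply, smul_eq_mul] at h2 ⊢
    have h3 : χh ((c : Γ) * s ^ j) = χh (((⟨c, hCD c.2⟩ : Subgroup.centralizer ({s} : Set Γ)) *
        ⟨s, hsD⟩ ^ j : Subgroup.centralizer ({s} : Set Γ)) : Γ) := rfl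
    rw [h3, h2]
    refine Finset.sum_congr rfl (fun ξ _ => ?_)
    rw [hω2 ξ]
    ring
  rw [h1, classInner_sum_left]
  refine Finset.sum_congr rfl (fun ξ _ => ?_)
  rw [classInner_smul_left, hm ξ]
  push_cast
  ring

omit [Fintype ↥G] in
include hC hcop htop in
/-- the coefficients of `c ↦ χh (c s)` are integers -/
theorem classInner_coset_int {χh : Γ → ℂ} (h1 : Cfsg.IsIrrCharacter Γ χh)
    (hres : Cfsg.IsIrrCharacter G (fun g : G => χh g))
    (hd1 : (Cfsg.detOrder χh).Coprime (orderOf s)) {ψ : C → ℂ} (hψ : Cfsg.IsCharacter C ψ) :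
    ∃ (z : ℤ) (A : ℕ), Cfsg.classInner (fun c : C => χh ((c : Γ) * s)) ψ = (z : ℂ) ∧
      Cfsg.classInner (fun c : C => χh (c : Γ)) ψ = (A : ℂ) ∧ (A = 0 → z = 0) := by
  obtain ⟨ι, hι, a, ω, hω, hform⟩ := exists_decomp_centralizer G s C hC (isCharacter_of_irr h1) hψ
  have hinv : ∀ k : ℕ, k.Coprime (orderOf s) →
      ∑ i, (((a i : ℕ) : ℤ) : ℂ) * ω i ^ k = ∑ i, (((a i : ℕ) : ℤ) : ℂ) * ω i := by
    intro k hk
    have h2 : (fun c : C => χh ((c : Γ) * s ^ k)) = (fun c : C => χh ((c : Γ) * s ^ 1)) := by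
      funext c
      rw [pow_one]
      exact canonical_ext_gen G s hcop htop h1 hres hd1 c ((hC c).1 c.2).1 ((hC c).1 c.2).2 k hk
    have h3 := hform k
    rw [h2, hform 1] at h3
    simp only [pow_one] at h3
    push_cast
    exact h3.symm
  obtain ⟨z, hz⟩ := int_of_pow_invariant (orderOf s) (orderOf_pos s) (fun i => ((a i : ℕ) : ℤ)) ω
    hω hinv
  refine ⟨z, ∑ i, a i, ?_, ?_, ?_⟩
  · have h3 := hform 1
    simp only [pow_one] at h3
    rw [h3, ← hz]
    push_cast
    rfl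
  · have h3 := hform 0
    simp only [pow_zero, mul_one] at h3
    rw [h3]
    push_cast
    rfl
  · intro hA
    have h4 : ∀ i, a i = 0 := by
      intro i
      exact (Finset.sum_eq_zero_iff.1 hA) i (Finset.mem_univ i)
    have h5 : ∑ i, (((a i : ℕ) : ℤ) : ℂ) * ω i = 0 := by
      apply Finset.sum_eq_zero
      intro i _
      rw [h4 i]
      simp
    rw [h5] at hz
    exact_mod_cast hz.symm

include hC hcop htop in
/-- **Glauberman correspondence, cyclic case (existence)**: for the canonical extension `χh` of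
an `s`-invariant `χ ∈ Irr(G)` there are `β ∈ Irr(C)` and a sign `ε` with `χh (c s) = ε β(c)`;
moreover `β` is a constituent of `χ_C` -/
theorem exists_glauberman_cyclic {χh : Γ → ℂ} (h1 : Cfsg.IsIrrCharacter Γ χh)
    (hres : Cfsg.IsIrrCharacter G (fun g : G => χh g))
    (hd1 : (Cfsg.detOrder χh).Coprime (orderOf s)) :
    ∃ (β : C → ℂ) (ε : ℤ), Cfsg.IsIrrCharacter C β ∧ (ε = 1 ∨ ε = -1) ∧
      (∀ (c : C) (j : ℕ), j.Coprime (orderOf s) → χh ((c : Γ) * s ^ j) = (ε : ℂ) * β c) ∧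
      Cfsg.classInner (fun c : C => χh (c : Γ)) β ≠ 0 := by
  classical
  haveI : Fintype (Cfsg.IrrCharacter C) := Fintype.ofFinite _
  have hcf := isClassFunction_of_isCharacter (isCharacter_of_irr h1)
  have hfcf : Cfsg.IsClassFunction C (fun c : C => χh ((c : Γ) * s)) := by
    intro g h
    show χh (((h * g * h⁻¹ : C) : Γ) * s) = χh ((g : Γ) * s)
    have hhs : (h : Γ) * s = s * h := ((hC h).1 h.2).2
    have h2 : ((h * g * h⁻¹ : C) : Γ) * s = (h : Γ) * ((g : Γ) * s) * (h : Γ)⁻¹ := by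
      show (h : Γ) * g * (h : Γ)⁻¹ * s = (h : Γ) * ((g : Γ) * s) * (h : Γ)⁻¹
      have h3 : (h : Γ)⁻¹ * s = s * (h : Γ)⁻¹ := by
        rw [eq_mul_inv_iff_mul_eq, mul_assoc, ← hhs, ← mul_assoc, inv_mul_cancel, one_mul]
      rw [mul_assoc ((h : Γ) * g), h3]
      group
    rw [h2]
    exact hcf _ _
  have hint : ∀ ψ : Cfsg.IrrCharacter C, ∃ (z : ℤ) (A : ℕ),
      Cfsg.classInner (fun c : C => χh ((c : Γ) * s)) (ψ : C → ℂ) = (z : ℂ) ∧
      Cfsg.classInner (fun c : C => χh (c : Γ)) (ψ : C → ℂ) = (A : ℂ) ∧ (A = 0 → z = 0) :=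
    fun ψ => classInner_coset_int G s hcop htop C hC h1 hres hd1 (isCharacter_of_irr ψ.2)
  choose z A hz hA hAz using hint
  have hexp : (fun c : C => χh ((c : Γ) * s)) =
      ∑ ψ : Cfsg.IrrCharacter C, (z ψ : ℂ) • (ψ : C → ℂ) := by
    conv_lhs => rw [classFunction_expansion' hfcf]
    refine Finset.sum_congr rfl (fun ψ _ => ?_)
    rw [hz ψ]
  have hnorm1 : Cfsg.classInner (fun c : C => χh ((c : Γ) * s)) (fun c : C => χh ((c : Γ) * s))
      = 1 := by
    have h2 := (sum_centralizer_coset G s hcop C hC h1 h1 hres).1 rfl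
    unfold Cfsg.classInner
    rw [h2]
    have hC0 : (Nat.card C : ℂ) ≠ 0 := by
      exact_mod_cast (Nat.card_pos (α := C)).ne'
    exact inv_mul_cancel₀ hC0
  have hnorm2 : Cfsg.classInner (fun c : C => χh ((c : Γ) * s)) (fun c : C => χh ((c : Γ) * s))
      = ∑ ψ : Cfsg.IrrCharacter C, (z ψ : ℂ) * (z ψ : ℂ) := by
    nth_rewrite 1 [hexp]
    rw [classInner_sum_left]
    refine Finset.sum_congr rfl (fun ψ _ => ?_)
    rw [classInner_smul_left, classInner_conj_symm, hz ψ, map_intCast]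
  have hsq : ∑ ψ : Cfsg.IrrCharacter C, z ψ * z ψ = 1 := by
    have h3 : ((∑ ψ : Cfsg.IrrCharacter C, z ψ * z ψ : ℤ) : ℂ) = ((1 : ℤ) : ℂ) := by
      push_cast
      rw [← hnorm2, hnorm1]
    exact_mod_cast h3
  obtain ⟨β, hβ⟩ : ∃ β : Cfsg.IrrCharacter C, z β ≠ 0 := by
    by_contra hcon
    have hall : ∀ ψ, z ψ = 0 := fun ψ => by
      by_contra h
      exact hcon ⟨ψ, h⟩
    simp [hall] at hsq
  have hsplit := Finset.add_sum_erase Finset.univ (fun ψ : Cfsg.IrrCharacter C => z ψ * z ψ)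
    (Finset.mem_univ β)
  rw [hsq] at hsplit
  have hnn : 0 ≤ ∑ ψ ∈ Finset.univ.erase β, z ψ * z ψ :=
    Finset.sum_nonneg (fun ψ _ => mul_self_nonneg (z ψ))
  have hβ1 : 1 ≤ z β * z β := by
    have : 0 < z β * z β := mul_self_pos.2 hβ
    omega
  have hβsq : z β * z β = 1 := by omega
  have hrest : ∑ ψ ∈ Finset.univ.erase β, z ψ * z ψ = 0 := by omega
  have hzero : ∀ ψ : Cfsg.IrrCharacter C, ψ ≠ β → z ψ = 0 := by
    intro ψ hψ
    have h4 := (Finset.sum_eq_zero_iff_of_nonneg (fun ψ _ => mul_self_nonneg (z ψ))).1 hrest ψ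
      (Finset.mem_erase.2 ⟨hψ, Finset.mem_univ ψ⟩)
    exact mul_self_eq_zero.1 h4
  have hval : ∀ c : C, χh ((c : Γ) * s) = (z β : ℂ) * (β : C → ℂ) c := by
    intro c
    have h5 := congrFun hexp c
    simp only [Finset.sum_apply, Pi.smul_apply, smul_eq_mul] at h5
    rw [h5, Finset.sum_eq_single β]
    · intro ψ _ hψ
      rw [hzero ψ hψ]
      simp
    · intro h
      exact absurd (Finset.mem_univ β) h
  refine ⟨β.1, z β, β.2, ?_, ?_, ?_⟩
  · rcases mul_self_eq_one_iff.1 hβsq with h | h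
    · exact Or.inl h
    · exact Or.inr h
  · intro c j hj
    rw [canonical_ext_gen G s hcop htop h1 hres hd1 c ((hC c).1 c.2).1 ((hC c).1 c.2).2 j hj]
    exact hval c
  · rw [hA β]
    intro h
    have h6 : A β = 0 := by exact_mod_cast h
    exact hβ (hAz β h6)

include hC hcop in
/-- **Glauberman correspondence, cyclic case (injectivity)** -/
theorem glauberman_cyclic_inj {χh χh' : Γ → ℂ} (h1 : Cfsg.IsIrrCharacter Γ χh)
    (h1' : Cfsg.IsIrrCharacter Γ χh') (hres : Cfsg.IsIrrCharacter G (fun g : G => χh g))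
    (hres' : Cfsg.IsIrrCharacter G (fun g : G => χh' g)) {β : C → ℂ}
    (hβ : Cfsg.IsIrrCharacter C β) {ε ε' : ℤ} (hε : ε = 1 ∨ ε = -1) (hε' : ε' = 1 ∨ ε' = -1)
    (h : ∀ c : C, χh ((c : Γ) * s) = (ε : ℂ) * β c)
    (h' : ∀ c : C, χh' ((c : Γ) * s) = (ε' : ℂ) * β c) :
    (fun g : G => χh' g) = (fun g : G => χh g) := by
  by_contra hne
  have h0 := classInner_irr_ne hres' hres hne
  have h2 := (sum_centralizer_coset G s hcop C hC h1 h1' hres).2 h0
  have h3 : ∑ c : C, χh' ((c : Γ) * s) * conj (χh ((c : Γ) * s)) =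
      (ε' : ℂ) * (ε : ℂ) * ((Nat.card C : ℂ) * Cfsg.classInner β β) := by
    unfold Cfsg.classInner
    have hC0 : (Nat.card C : ℂ) ≠ 0 := by
      exact_mod_cast (Nat.card_pos (α := C)).ne'
    rw [← mul_assoc (Nat.card C : ℂ), mul_inv_cancel₀ hC0, one_mul, Finset.mul_sum]
    refine Finset.sum_congr rfl (fun c _ => ?_)
    rw [h c, h' c, map_mul, map_intCast]
    ring
  rw [h3, classInner_irr_self hβ, mul_one] at h2
  have hC0 : (Nat.card C : ℂ) ≠ 0 := by
    exact_mod_cast (Nat.card_pos (α := C)).ne'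
  have hε0 : (ε : ℂ) ≠ 0 := by
    rcases hε with h | h <;> rw [h] <;> norm_num
  have hε'0 : (ε' : ℂ) ≠ 0 := by
    rcases hε' with h | h <;> rw [h] <;> norm_num
  exact mul_ne_zero (mul_ne_zero hε'0 hε0) hC0 h2

end GlaubChar

end Cfsg.Agent.Lib.Helper75
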