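import Mathlib
import Cfsg.Prelude.Def_Characters
import Cfsg.Prelude.Def_Blocks
import Cfsg.Prelude.Def_CharExt
import Cfsg.Agent.Lib.Helper3.CharValues
import Cfsg.Agent.Lib.Helper15.DetChar
import Cfsg.Agent.Lib.Helper15.LinChar
import Cfsg.Agent.Lib.Helper80.CharOps
import Cfsg.Agent.Lib.Helper80.CharKer
import Cfsg.Agent.Lib.Helper75.CentExt
import Cfsg.Agent.Lib.Helper75.CentExt3
import Cfsg.Agent.Lib.Helper75.CentExt4

/-!
# Extension of invariant characters: the determinant criterion
-/

set_option autoImplicit false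

namespace Cfsg.Agent.Lib.Helper75

open Representation Module
open Cfsg.Agent.Lib.Helper3
open scoped ComplexConjugate

universe u

variable {G : Type u} [Group G] [Finite G] (N : Subgroup G) [hN : N.Normal] {d : ℕ}
  (Y : Representation ℂ N (Fin d → ℂ))

/-- the determinant of the tautological representation of `Ĝ` -/
noncomputable def centExtDet : centExt N Y →* ℂˣ :=
  (Units.map (LinearMap.det : Module.End ℂ (Fin d → ℂ) →* ℂ)).comp
    ((MonoidHom.snd G _).comp (centExt N Y).subtype)

omit [Finite G] in
theorem centExtDet_val (x : centExt N Y) :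
    ((centExtDet N Y x : ℂˣ) : ℂ) = LinearMap.det (centExtRep N Y x) := rfl

variable [hY : Y.IsIrreducible]

/-- if the determinant of `Y` extends to a linear character of `G`, the degree of `Y` lies in the
exponent group -/
theorem degree_mem_extExp (μ : G →* ℂˣ) (hμ : ∀ n : N, ((μ n : ℂˣ) : ℂ) = LinearMap.det (Y n)) :
    (d : ℤ) ∈ extExp N Y := by
  refine ⟨centExtDet N Y * (μ.comp (centExtProj N Y))⁻¹, fun n => ?_, fun z => ?_⟩
  · rw [MonoidHom.mul_apply, MonoidHom.inv_apply, MonoidHom.comp_apply, centExtProj_incl]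
    have h1 : centExtDet N Y (centExtIncl N Y n) = μ n := by
      apply Units.ext
      rw [centExtDet_val, centExtRep_incl, hμ]
    rw [h1, mul_inv_cancel]
  · rw [MonoidHom.mul_apply, MonoidHom.inv_apply, MonoidHom.comp_apply]
    have hz : centExtProj N Y z.1 = 1 := z.2
    rw [hz, map_one, inv_one, mul_one, zpow_natCast]
    apply Units.ext
    rw [centExtDet_val, centExtLam_spec, det_smul_one, Units.val_pow_eq_pow_val]

/-- **determinant criterion**: an invariant irreducible `Y` of degree prime to `|G : N|` extends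
to `G` as soon as its determinant does -/
theorem exists_extension_of_det
    (hinv : ∀ (g : G) (n : N), Y.character (MulAut.conjNormal g n) = Y.character n)
    (μ : G →* ℂˣ) (hμ : ∀ n : N, ((μ n : ℂˣ) : ℂ) = LinearMap.det (Y n))
    (hcop : Nat.Coprime N.index d) :
    ∃ X : Representation ℂ G (Fin d → ℂ), X.IsIrreducible ∧ ∀ n : N, X n = Y n := by
  apply exists_extension_of_one_mem N Y hinv
  have h1 : (N.index : ℤ) ∈ extExp N Y := index_mem_extExp N Y hinv N le_rfl Y (fun n => rfl)
  have h2 : (d : ℤ) ∈ extExp N Y := degree_mem_extExp N Y μ hμ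
  have h3 : IsCoprime (N.index : ℤ) (d : ℤ) := Nat.isCoprime_iff_coprime.2 hcop
  obtain ⟨a, b, hab⟩ := h3
  rw [← hab]
  exact (extExp N Y).add_mem ((extExp N Y).zsmul_mem h1 a |> fun h => by simpa using h)
    ((extExp N Y).zsmul_mem h2 b |> fun h => by simpa using h)

end Cfsg.Agent.Lib.Helper75
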