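import Mathlib
import Cfsg.Prelude.Def_Characters
import Cfsg.Prelude.Def_Blocks
import Cfsg.Prelude.Def_CharExt
import Cfsg.Agent.Lib.Helper3.CharValues
import Cfsg.Agent.Lib.Helper15.DetChar
import Cfsg.Agent.Lib.Helper15.LinChar
import Cfsg.Agent.Lib.Helper15.LinIrr
import Cfsg.Agent.Lib.Helper15.TransferInv
import Cfsg.Agent.Lib.Helper80.CharOps
import Cfsg.Agent.Lib.Helper80.CharKer
import Cfsg.Agent.Lib.Helper75.Gallagher
import Cfsg.Agent.Lib.Helper75.CentExt
import Cfsg.Agent.Lib.Helper75.CentExt3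
import Cfsg.Agent.Lib.Helper75.CentExt4
import Cfsg.Agent.Lib.Helper75.CentExt6

/-!
# Extension of invariant characters: the canonical extension in the coprime case
-/

set_option autoImplicit false
set_option linter.style.haveILetI false

namespace Cfsg.Agent.Lib.Helper75

open Representation Module
open Cfsg.Agent.Lib.Helper3
open scoped ComplexConjugate

universe u

variable {G : Type u} [Group G] [Finite G] (N : Subgroup G) [hN : N.Normal]

omit [Finite G] in
/-- a linear character trivial on `N` has order dividing `|G : N|` -/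
theorem hom_pow_index_eq_one (f : G →* ℂˣ) (hf : ∀ n : N, f n = 1) (g : G) :
    f g ^ N.index = 1 := by
  rw [← map_pow]
  exact hf ⟨g ^ N.index, Subgroup.pow_index_mem N g⟩

/-- an invariant linear character `lam` of `N` with `lam ^ e = 1`, `e` prime to `|G : N|`,
extends to a linear character `μ` of `G` with `μ ^ e = 1` -/
theorem exists_lin_extension_of_coprime (lam : N →* ℂˣ)
    (hinv : ∀ (g : G) (n : N), lam (MulAut.conjNormal g n) = lam n) (e : ℕ)
    (he : ∀ n : N, lam n ^ e = 1) (hcop : Nat.Coprime N.index e) :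
    ∃ μ : G →* ℂˣ, (∀ n : N, μ n = lam n) ∧ ∀ g : G, μ g ^ e = 1 := by
  set T : G →* ℂˣ := MonoidHom.transfer lam with hT
  have hTN : ∀ n : N, T n = lam n ^ N.index := by
    intro n
    exact Cfsg.Agent.Lib.Helper15.transfer_of_invariant (H := N) (N := N) le_rfl lam
      (fun g n hn => hinv g ⟨n, hn⟩) n.1 n.2
  have hTe : ∀ g : G, T g ^ (e * N.index) = 1 := by
    intro g
    rw [pow_mul]
    have := hom_pow_index_eq_one N (T ^ e)
      (fun n => by rw [MonoidHom.pow_apply, hTN, ← pow_mul, mul_comm, pow_mul, he, one_pow]) g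
    rwa [MonoidHom.pow_apply] at this
  have h3 : IsCoprime ((N.index : ℤ) * (N.index : ℤ)) (e : ℤ) := by
    have h := Nat.isCoprime_iff_coprime.2 hcop
    exact IsCoprime.mul_left h h
  obtain ⟨a, b, hab⟩ := h3
  refine ⟨(zpowGroupHom ((N.index : ℤ) * a)).comp T, fun n => ?_, fun g => ?_⟩
  · rw [MonoidHom.comp_apply, zpowGroupHom_apply, hTN, ← zpow_natCast, ← zpow_mul]
    have h4 : (N.index : ℤ) * ((N.index : ℤ) * a) = 1 + (e : ℤ) * (-b) := by linarith
    rw [h4, zpow_add, zpow_one, zpow_mul, zpow_natCast, he, one_zpow, mul_one]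
  · rw [MonoidHom.comp_apply, zpowGroupHom_apply, ← zpow_natCast, ← zpow_mul]
    have h4 : (N.index : ℤ) * a * (e : ℤ) = ((e * N.index : ℕ) : ℤ) * a := by push_cast; ring
    rw [h4, zpow_mul, zpow_natCast, hTe, one_zpow]

/-- **canonical extension**: an invariant irreducible `Y` whose degree and determinantal order
are prime to `|G : N|` has an extension with the same determinantal order, and it is the only
extension whose determinantal order is prime to `|G : N|` -/
theorem exists_unique_extension_of_coprime {d : ℕ} (Y : Representation ℂ N (Fin d → ℂ))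
    [hY : Y.IsIrreducible]
    (hinv : ∀ (g : G) (n : N), Y.character (MulAut.conjNormal g n) = Y.character n)
    (hcop : Nat.Coprime N.index (Cfsg.detOrder Y.character * d)) :
    ∃ χ : G → ℂ, (Cfsg.IsIrrCharacter G χ ∧ (∀ n : N, χ n = Y.character n) ∧
        Cfsg.detOrder χ = Cfsg.detOrder Y.character) ∧
      ∀ χ' : G → ℂ, Cfsg.IsIrrCharacter G χ' → (∀ n : N, χ' n = Y.character n) →
        Nat.Coprime N.index (Cfsg.detOrder χ') → χ' = χ := by
  set e := Cfsg.detOrder Y.character with he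
  have hje : Nat.Coprime N.index e := Nat.Coprime.coprime_mul_right_right hcop
  have hjd : Nat.Coprime N.index d := Nat.Coprime.coprime_mul_left_right hcop
  set lam : N →* ℂˣ := Helper15.detCharHom Y.character with hlam
  have hlam_val : ∀ n : N, ((lam n : ℂˣ) : ℂ) = LinearMap.det (Y n) := fun n => by
    rw [hlam, Helper15.detCharHom_apply, Helper15.detChar_character]
  have hlam_inv : ∀ (g : G) (n : N), lam (MulAut.conjNormal g n) = lam n := by
    intro g n
    apply Units.ext
    rw [hlam_val, hlam_val]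
    exact Helper15.det_eq_of_character_eq (Y.comp (MulAut.conjNormal g : MulAut N).toMonoidHom) Y
      (funext (hinv g)) n
  have hlam_e : ∀ n : N, lam n ^ e = 1 := by
    intro n
    apply Units.ext
    rw [Units.val_pow_eq_pow_val, Units.val_one, hlam, Helper15.detCharHom_apply]
    have h : Cfsg.detChar Y.character ^ e = 1 := pow_orderOf_eq_one _
    have h2 := congrFun h n
    rwa [Pi.pow_apply, Pi.one_apply] at h2
  obtain ⟨μ, hμN, hμe⟩ := exists_lin_extension_of_coprime N lam hlam_inv e hlam_e hje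
  obtain ⟨X₀, hX₀irr, hX₀⟩ := exists_extension_of_det N Y hinv μ
    (fun n => by rw [hμN, hlam_val]) hjd
  set χ₀ : G → ℂ := X₀.character with hχ₀
  have hχ₀irr : Cfsg.IsIrrCharacter G χ₀ := ⟨d, X₀, hX₀irr, rfl⟩
  have hχ₀c := isCharacter_of_irr hχ₀irr
  have hχ₀1 : χ₀ 1 = d := Helper80.char_one_fin X₀
  have hχ₀N : ∀ n : N, χ₀ n = Y.character n := fun n => by
    show LinearMap.trace ℂ _ (X₀ n) = LinearMap.trace ℂ _ (Y n)
    rw [hX₀]
  set δ : G →* ℂˣ := Helper15.detCharHom χ₀ * μ⁻¹ with hδ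
  have hδN : ∀ n : N, δ n = 1 := by
    intro n
    rw [hδ, MonoidHom.mul_apply, MonoidHom.inv_apply, hμN]
    have : Helper15.detCharHom χ₀ n = lam n := by
      apply Units.ext
      rw [Helper15.detCharHom_apply, hχ₀, Helper15.detChar_character, hX₀, hlam_val]
    rw [this, mul_inv_cancel]
  have hδj : ∀ g : G, δ g ^ N.index = 1 := hom_pow_index_eq_one N δ hδN
  obtain ⟨u, v, huv⟩ := Nat.isCoprime_iff_coprime.2 hjd
  set β : G →* ℂˣ := (zpowGroupHom (-v)).comp δ with hβ
  have hβN : ∀ n : N, β n = 1 := fun n => by rw [hβ, MonoidHom.comp_apply, hδN, map_one]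
  set βf : G → ℂ := fun g => ((β g : ℂˣ) : ℂ) with hβf
  have hβc : Cfsg.IsCharacter G βf := Helper15.isCharacter_of_hom β
  have hβ1 : βf 1 = 1 := by
    show ((β 1 : ℂˣ) : ℂ) = 1
    rw [map_one, Units.val_one]
  set χ : G → ℂ := βf * χ₀ with hχ
  have hχirr : Cfsg.IsIrrCharacter G χ := Helper15.isIrrCharacter_lin_mul hβc hβ1 hχ₀irr
  have hχN : ∀ n : N, χ n = Y.character n := fun n => by
    rw [hχ, Pi.mul_apply]
    show ((β n : ℂˣ) : ℂ) * χ₀ n = _
    rw [hβN, Units.val_one, one_mul, hχ₀N]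
  have hdet : Cfsg.detChar χ = fun g => ((μ g : ℂˣ) : ℂ) := by
    rw [hχ, Helper15.detChar_lin_mul hβc hβ1 hχ₀c d hχ₀1]
    funext g
    have h1 : Helper15.detCharHom χ₀ g = δ g * μ g := by
      rw [hδ, MonoidHom.mul_apply, MonoidHom.inv_apply, inv_mul_cancel_right]
    have h3 : δ g ^ ((-v) * (d : ℤ) + 1) = 1 := by
      have : (-v) * (d : ℤ) + 1 = (N.index : ℤ) * u := by linarith
      rw [this, zpow_mul, zpow_natCast, hδj, one_zpow]
    have h2 : β g ^ d * (δ g * μ g) = μ g := by
      calc β g ^ d * (δ g * μ g) = δ g ^ ((-v) * (d : ℤ) + 1) * μ g := by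
            rw [hβ, MonoidHom.comp_apply, zpowGroupHom_apply, ← zpow_natCast, ← zpow_mul,
              zpow_add_one, mul_assoc]
        _ = μ g := by rw [h3, one_mul]
    show ((β g : ℂˣ) : ℂ) ^ d * Cfsg.detChar χ₀ g = _
    rw [← Helper15.detCharHom_apply, h1, ← Units.val_pow_eq_pow_val, ← Units.val_mul, h2]
  have hμe' : (fun g => ((μ g : ℂˣ) : ℂ)) ^ e = 1 := by
    funext g
    rw [Pi.pow_apply, Pi.one_apply, ← Units.val_pow_eq_pow_val, hμe, Units.val_one]
  have hord : Cfsg.detOrder χ = e := by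
    show orderOf (Cfsg.detChar χ) = orderOf (Cfsg.detChar Y.character)
    rw [hdet]
    apply orderOf_eq_orderOf_iff.2
    intro k
    constructor
    · intro h
      funext n
      have h2 := congrFun h (n : G)
      rw [Pi.pow_apply, Pi.one_apply] at h2 ⊢
      have h5 : Cfsg.detChar Y.character n = ((μ (n : G) : ℂˣ) : ℂ) := by
        rw [hμN]
        rfl
      rw [h5]
      exact h2
    · intro h
      have hdvd : e ∣ k := orderOf_dvd_of_pow_eq_one h
      obtain ⟨c, rfl⟩ := hdvd
      rw [pow_mul, hμe', one_pow]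
  refine ⟨χ, ⟨hχirr, hχN, hord⟩, ?_⟩
  intro χ' hχ' hχ'N hcop'
  classical
  haveI : Fintype G := Fintype.ofFinite G
  haveI : Fintype N := Fintype.ofFinite N
  have hresχ : (fun n : N => χ n) = Y.character := funext hχN
  have hresχ' : (fun n : N => χ' n) = Y.character := funext hχ'N
  have hYirr : Cfsg.IsIrrCharacter N Y.character := ⟨d, Y, hY, rfl⟩
  obtain ⟨β', hβ'irr, hβ'N, hβ'χ⟩ := gallagher_exists N hχirr (by rw [hresχ]; exact hYirr) hχ'
    (by rw [hresχ, hresχ', classInner_irr_self hYirr]; exact one_ne_zero)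
  have hβ'c := isCharacter_of_irr hβ'irr
  have hχ1 : χ 1 = d := by
    have h := hχN 1
    rw [OneMemClass.coe_one, Helper80.char_one_fin] at h
    exact h
  have hχ'1 : χ' 1 = d := by
    have h := hχ'N 1
    rw [OneMemClass.coe_one, Helper80.char_one_fin] at h
    exact h
  have hd0 : (d : ℂ) ≠ 0 := by exact_mod_cast (centExt_d_pos Y).ne'
  have hβ'1 : β' 1 = 1 := by
    have h := congrFun hβ'χ 1
    rw [Pi.mul_apply, hχ1, hχ'1] at h
    exact (mul_right_cancel₀ hd0 (by rw [one_mul]; exact h)).symm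
  set b : G →* ℂˣ := Helper15.linCharHom hβ'c hβ'1 with hb
  have hbN : ∀ n : N, b n = 1 := fun n => by
    apply Units.ext
    rw [hb, Helper15.linCharHom_apply, hβ'N, hβ'1, Units.val_one]
  have hbj : ∀ g, b g ^ N.index = 1 := hom_pow_index_eq_one N b hbN
  have hdet' : Cfsg.detChar χ' = fun g => β' g ^ d * ((μ g : ℂˣ) : ℂ) := by
    rw [hβ'χ, Helper15.detChar_lin_mul hβ'c hβ'1 (isCharacter_of_irr hχirr) d hχ1, hdet]
  have hpow : ∀ g, b g ^ (d * Cfsg.detOrder χ' * e) = 1 := by
    intro g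
    have h : Cfsg.detChar χ' ^ Cfsg.detOrder χ' = 1 := pow_orderOf_eq_one _
    have h2 := congrFun h g
    rw [Pi.pow_apply, Pi.one_apply, hdet'] at h2
    have h3 : (b g ^ d * μ g) ^ Cfsg.detOrder χ' = 1 := by
      apply Units.ext
      rw [Units.val_pow_eq_pow_val, Units.val_mul, Units.val_pow_eq_pow_val, Units.val_one]
      exact h2
    have h4 : b g ^ (d * Cfsg.detOrder χ') = (μ g ^ Cfsg.detOrder χ')⁻¹ := by
      rw [mul_pow, ← pow_mul] at h3
      exact eq_inv_of_mul_eq_one_left h3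
    rw [pow_mul, h4, inv_pow, ← pow_mul, mul_comm (Cfsg.detOrder χ') e, pow_mul, hμe, one_pow,
      inv_one]
  have hb1 : ∀ g, b g = 1 := by
    intro g
    have hc : Nat.Coprime N.index (d * Cfsg.detOrder χ' * e) :=
      Nat.Coprime.mul_right (Nat.Coprime.mul_right hjd hcop') hje
    have h := pow_gcd_eq_one.2 ⟨hbj g, hpow g⟩
    rw [Nat.Coprime] at hc
    rwa [hc, pow_one] at h
  rw [hβ'χ]
  funext g
  have h6 : β' g = ((b g : ℂˣ) : ℂ) := rfl
  rw [Pi.mul_apply, h6, hb1, Units.val_one, one_mul]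

end Cfsg.Agent.Lib.Helper75
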