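import Mathlib
import Cfsg.Prelude.Def_Characters
import Cfsg.Prelude.Def_Blocks
import Cfsg.Prelude.Def_CharExt
import Cfsg.Agent.Lib.Helper1.SZInternal
import Cfsg.Agent.Lib.Helper3.CharValues
import Cfsg.Agent.Lib.Helper74.BrauerPerm
import Cfsg.Agent.Lib.Helper82.CharCount
import Cfsg.Agent.Lib.Helper80.CharKer
import Cfsg.Agent.Lib.Helper75.CentExt7
import Cfsg.Agent.Lib.Helper75.Glaub1
import Cfsg.Agent.Lib.Helper75.Glaub2
import Cfsg.Agent.Lib.Helper75.Glaub3

/-!
# The Glauberman correspondence, cyclic case: counting and surjectivity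
-/

set_option autoImplicit false
set_option linter.style.haveILetI false

namespace Cfsg.Agent.Lib.Helper75

open Representation Module
open Cfsg.Agent.Lib.Helper3
open scoped ComplexConjugate

universe u

section GlaubCount

variable {Γ : Type u} [Group Γ] [Finite Γ] (G : Subgroup Γ) [hG : G.Normal] (s : Γ)

/-- an element of `G` whose `G`-class is `s`-invariant is `G`-conjugate into `C_G(s)` -/
theorem exists_conj_comm_of_conj_inv (hcop : (Nat.card G).Coprime (orderOf s)) {g h : Γ}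
    (hh : h ∈ G) (hconj : s * g * s⁻¹ = h * g * h⁻¹) :
    ∃ x ∈ G, (x * g * x⁻¹) * s = s * (x * g * x⁻¹) := by
  obtain ⟨x, hx, c, hc, hcs, hxc⟩ := exists_conj_centralizer G s hcop h⁻¹ (G.inv_mem hh)
  obtain ⟨k, hk0, hk1⟩ := exists_crt_exp G s hcop
  have h1 : (h⁻¹ * s) * g = g * (h⁻¹ * s) := by
    have h2 : s * g = h * g * h⁻¹ * s := by rw [← hconj]; group
    rw [mul_assoc, h2]; group
  have h2 : (c * s) * (x⁻¹ * g * x) = (x⁻¹ * g * x) * (c * s) := by
    have e1 : c * s = x⁻¹ * (h⁻¹ * s) * x := by rw [← hxc]; group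
    rw [e1]
    have h3 : x⁻¹ * (h⁻¹ * s) * x * (x⁻¹ * g * x) = x⁻¹ * ((h⁻¹ * s) * g) * x := by group
    rw [h3, h1]; group
  have h3 : Commute ((c * s) ^ k) (x⁻¹ * g * x) := Commute.pow_left h2 k
  rw [mul_pow_crt G s hk0 hk1 hc hcs] at h3
  exact ⟨x⁻¹, G.inv_mem hx, by rw [inv_inv]; exact h3.eq.symm⟩

/-- elements of `C_G(s)` that are conjugate in `G` are conjugate in `C_G(s)` -/
theorem exists_conj_of_conj_centralizer (hcop : (Nat.card G).Coprime (orderOf s)) {c₁ c₂ x : Γ}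
    (hc₁ : c₁ * s = s * c₁) (hc₂ : c₂ * s = s * c₂) (hx : x ∈ G) (hconj : x * c₁ * x⁻¹ = c₂) :
    ∃ y ∈ G, y * s = s * y ∧ y * c₁ * y⁻¹ = c₂ := by
  set D : Subgroup Γ := G ⊓ Subgroup.centralizer {c₁} with hD
  letI : CommGroup (Subgroup.zpowers s) := IsCyclic.commGroup
  haveI : Group.IsSolvable (Subgroup.zpowers s) := inferInstance
  have hsK : s ∈ Subgroup.centralizer ({c₁} : Set Γ) := by
    rw [Subgroup.mem_centralizer_singleton_iff]
    exact hc₁.symm
  have hzK : Subgroup.zpowers s ≤ Subgroup.centralizer ({c₁} : Set Γ) :=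
    (Subgroup.zpowers_le).2 hsK
  have hsK2 : s ∈ Subgroup.centralizer ({c₂} : Set Γ) := by
    rw [Subgroup.mem_centralizer_singleton_iff]
    exact hc₂.symm
  have hzK2 : Subgroup.zpowers s ≤ Subgroup.centralizer ({c₂} : Set Γ) :=
    (Subgroup.zpowers_le).2 hsK2
  have hAN : Subgroup.zpowers s ≤ Subgroup.normalizer (D : Set Γ) := by
    intro a ha
    rw [Subgroup.mem_normalizer_iff]
    intro y
    have haK := hzK ha
    rw [hD, Subgroup.mem_inf, Subgroup.mem_inf]
    have e1 : a * y * a⁻¹ ∈ G ↔ y ∈ G := by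
      constructor
      · intro h
        have h2 := hG.conj_mem _ h a⁻¹
        have h3 : a⁻¹ * (a * y * a⁻¹) * a⁻¹⁻¹ = y := by group
        rwa [h3] at h2
      · intro h
        exact hG.conj_mem _ h a
    have e2 : a * y * a⁻¹ ∈ Subgroup.centralizer ({c₁} : Set Γ) ↔
        y ∈ Subgroup.centralizer ({c₁} : Set Γ) := by
      rw [Subgroup.mul_mem_cancel_right _ (Subgroup.inv_mem _ haK),
        Subgroup.mul_mem_cancel_left _ haK]
    rw [e1, e2]
  have hcop' : (Nat.card (Subgroup.zpowers s)).Coprime (Nat.card D) := by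
    rw [Nat.card_zpowers]
    exact (Nat.Coprime.coprime_dvd_left (Subgroup.card_dvd_of_le inf_le_left) hcop).symm
  have hk : ∀ a ∈ Subgroup.zpowers s, x⁻¹ * a * x * a⁻¹ ∈ D := by
    intro a ha
    rw [hD, Subgroup.mem_inf]
    constructor
    · have e1 : x⁻¹ * a * x * a⁻¹ = x⁻¹ * (a * x * a⁻¹) := by group
      rw [e1]
      exact G.mul_mem (G.inv_mem hx) (hG.conj_mem _ hx a)
    · rw [Subgroup.mem_centralizer_singleton_iff]
      have ha1 : c₁ * a = a * c₁ := (Subgroup.mem_centralizer_singleton_iff.1 (hzK ha)).symm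
      have ha2 : c₂ * a = a * c₂ := (Subgroup.mem_centralizer_singleton_iff.1 (hzK2 ha)).symm
      have ha1' : c₁ * a⁻¹ = a⁻¹ * c₁ := by
        rw [eq_inv_mul_iff_mul_eq, ← mul_assoc, ← ha1, mul_inv_cancel_right]
      have hx1 : x * c₁ = c₂ * x := by rw [← hconj]; group
      have hx2 : c₁ * x⁻¹ = x⁻¹ * c₂ := by rw [← hconj]; group
      symm
      calc c₁ * (x⁻¹ * a * x * a⁻¹) = (c₁ * x⁻¹) * a * x * a⁻¹ := by group
        _ = x⁻¹ * (c₂ * a) * x * a⁻¹ := by rw [hx2]; group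
        _ = x⁻¹ * a * (c₂ * x) * a⁻¹ := by rw [ha2]; group
        _ = x⁻¹ * a * x * (c₁ * a⁻¹) := by rw [← hx1]; group
        _ = x⁻¹ * a * x * a⁻¹ * c₁ := by rw [ha1']; group
  obtain ⟨n, hn, hcent⟩ := Cfsg.Agent.Lib.Helper1.exists_mul_mem_centralizer (Subgroup.zpowers s) D
    hAN hcop' (Or.inl inferInstance) x hk
  rw [hD, Subgroup.mem_inf] at hn
  refine ⟨x * n, G.mul_mem hx hn.1, ?_, ?_⟩
  · exact ((Subgroup.mem_centralizer_iff.1 hcent) s (Subgroup.mem_zpowers s)).symm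
  · have hn2 : c₁ * n = n * c₁ := (Subgroup.mem_centralizer_singleton_iff.1 hn.2).symm
    have e1 : x * n * c₁ * (x * n)⁻¹ = x * (n * c₁) * n⁻¹ * x⁻¹ := by group
    rw [e1, ← hn2, ← hconj]
    group

end GlaubCount

section GlaubCount2

variable {Γ : Type u} [Group Γ] [Finite Γ] (G : Subgroup Γ) [hG : G.Normal] (s : Γ)
  (hcop : (Nat.card G).Coprime (orderOf s))
  (C : Subgroup Γ) (hC : ∀ c : Γ, c ∈ C ↔ c ∈ G ∧ c * s = s * c)

include hcop hC in
/-- the number of `s`-invariant irreducible characters of `G` is the number of irreducible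
characters of `C_G(s)` -/
theorem card_inv_irr_eq :
    Nat.card {χ : Cfsg.IrrCharacter G //
      ∀ g : G, (χ : G → ℂ) (MulAut.conjNormal s g) = (χ : G → ℂ) g} =
    Nat.card (Cfsg.IrrCharacter C) := by
  classical
  haveI : Fintype G := Fintype.ofFinite G
  let Φ : G ≃* G := MulAut.conjNormal s
  have hΦ : ∀ g : G, ((Φ g : G) : Γ) = s * g * s⁻¹ := fun g => MulAut.conjNormal_apply s g
  let σ : Cfsg.IrrCharacter G → Cfsg.IrrCharacter G := fun χ =>
    ⟨fun g => (χ : G → ℂ) (Φ g), Cfsg.Agent.Lib.Helper80.isIrrCharacter_comp_mulEquiv Φ χ.2⟩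
  let P : ConjClasses G → Prop := fun K => ∃ g : G, ConjClasses.mk g = K ∧ IsConj (Φ g) g
  have hP : ∀ g : G, P (ConjClasses.mk g) ↔ IsConj (Φ g) g := by
    intro g
    constructor
    · rintro ⟨g', hg', hc⟩
      have h1 : IsConj g' g := ConjClasses.mk_eq_mk_iff_isConj.1 hg'
      have h2 : IsConj (Φ g') (Φ g) := Φ.toMonoidHom.map_isConj h1
      exact (h2.symm.trans hc).trans h1
    · intro h
      exact ⟨g, rfl, h⟩
  have h1 := Cfsg.Agent.Lib.Helper74.brauer_perm_count σ Φ (fun χ g => rfl) P hP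
  have hCG : C ≤ G := fun c hc => ((hC c).1 hc).1
  let f₀ : ConjClasses C → ConjClasses G := ConjClasses.map (Subgroup.inclusion hCG)
  have hf₀ : ∀ K : ConjClasses C, P (f₀ K) := by
    intro K
    obtain ⟨c, rfl⟩ := ConjClasses.mk_surjective K
    refine ⟨Subgroup.inclusion hCG c, rfl, ?_⟩
    have h2 : Φ (Subgroup.inclusion hCG c) = Subgroup.inclusion hCG c := by
      apply Subtype.ext
      rw [hΦ]
      show s * (c : Γ) * s⁻¹ = c
      rw [← ((hC c).1 c.2).2, mul_inv_cancel_right]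
    rw [h2]
  let f : ConjClasses C → {K : ConjClasses G // P K} := fun K => ⟨f₀ K, hf₀ K⟩
  have hbij : Function.Bijective f := by
    constructor
    · intro K₁ K₂ h
      obtain ⟨c₁, rfl⟩ := ConjClasses.mk_surjective K₁
      obtain ⟨c₂, rfl⟩ := ConjClasses.mk_surjective K₂
      have h2 : ConjClasses.mk (Subgroup.inclusion hCG c₁) =
          ConjClasses.mk (Subgroup.inclusion hCG c₂) := congrArg Subtype.val h
      have h3 : IsConj (Subgroup.inclusion hCG c₁) (Subgroup.inclusion hCG c₂) :=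
        ConjClasses.mk_eq_mk_iff_isConj.1 h2
      obtain ⟨x, hx⟩ := isConj_iff.1 h3
      have hx' : (x : Γ) * c₁ * (x : Γ)⁻¹ = c₂ := congrArg Subtype.val hx
      obtain ⟨y, hy, hys, hyc⟩ := exists_conj_of_conj_centralizer G s hcop
        ((hC c₁).1 c₁.2).2 ((hC c₂).1 c₂.2).2 x.2 hx'
      apply ConjClasses.mk_eq_mk_iff_isConj.2
      apply isConj_iff.2
      exact ⟨⟨y, (hC y).2 ⟨hy, hys⟩⟩, Subtype.ext hyc⟩
    · rintro ⟨K, hK⟩
      obtain ⟨g, rfl⟩ := ConjClasses.mk_surjective K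
      have h2 : IsConj (Φ g) g := (hP g).1 hK
      obtain ⟨h, hh⟩ := isConj_iff.1 h2
      have hh' : (h : Γ) * (s * g * s⁻¹) * (h : Γ)⁻¹ = g := by
        rw [← hΦ]
        exact congrArg Subtype.val hh
      have h3 : s * (g : Γ) * s⁻¹ = (h : Γ)⁻¹ * g * (h : Γ)⁻¹⁻¹ := by
        conv_rhs => rw [← hh']
        group
      obtain ⟨x, hx, hxs⟩ := exists_conj_comm_of_conj_inv G s hcop (G.inv_mem h.2) h3
      have hxg : x * (g : Γ) * x⁻¹ ∈ G := G.mul_mem (G.mul_mem hx g.2) (G.inv_mem hx)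
      refine ⟨ConjClasses.mk ⟨x * (g : Γ) * x⁻¹, (hC _).2 ⟨hxg, hxs⟩⟩, ?_⟩
      apply Subtype.ext
      show ConjClasses.mk (Subgroup.inclusion hCG ⟨x * (g : Γ) * x⁻¹, (hC _).2 ⟨hxg, hxs⟩⟩) =
        ConjClasses.mk g
      apply ConjClasses.mk_eq_mk_iff_isConj.2
      apply IsConj.symm
      apply isConj_iff.2
      exact ⟨⟨x, hx⟩, Subtype.ext rfl⟩
  have h2 : Nat.card (ConjClasses C) = Nat.card {K : ConjClasses G // P K} :=
    Nat.card_eq_of_bijective f hbij
  have h3 : Nat.card (Cfsg.IrrCharacter C) = Nat.card (ConjClasses C) :=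
    Cfsg.Agent.Lib.Helper82.card_irr_eq_card_conjClasses
  rw [h3, h2, ← h1]
  apply Nat.card_congr
  apply Equiv.subtypeEquivRight
  intro χ
  constructor
  · intro h
    apply Subtype.ext
    funext g
    exact h g
  · intro h g
    exact congrFun (congrArg Subtype.val h) g

end GlaubCount2

section GlaubSurj

variable {Γ : Type u} [Group Γ] [Fintype Γ] (G : Subgroup Γ) [hG : G.Normal] (s : Γ)
  (hcop : (Nat.card G).Coprime (orderOf s)) (htop : G ⊔ Subgroup.zpowers s = ⊤)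

include hcop htop in
/-- existence of the canonical extension of an `s`-invariant irreducible character -/
theorem exists_canonical_ext {χ : G → ℂ} (hχ : Cfsg.IsIrrCharacter G χ)
    (hinv : ∀ g : G, χ (MulAut.conjNormal s g) = χ g) :
    ∃ χh : Γ → ℂ, Cfsg.IsIrrCharacter Γ χh ∧ (∀ g : G, χh g = χ g) ∧
      (Cfsg.detOrder χh).Coprime (orderOf s) := by
  have hcf := isClassFunction_of_isCharacter (isCharacter_of_irr hχ)
  obtain ⟨d, Y, hY, rfl⟩ := hχ
  haveI hY' : Y.IsIrreducible := hY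
  have hinv' : ∀ (γ : Γ) (n : G), Y.character (MulAut.conjNormal γ n) = Y.character n := by
    let T : Subgroup Γ :=
      { carrier := {γ | ∀ n : G, Y.character (MulAut.conjNormal γ n) = Y.character n}
        mul_mem' := by
          intro a b ha hb n
          rw [map_mul, MulAut.mul_apply, ha, hb]
        one_mem' := by
          intro n
          rw [map_one, MulAut.one_apply]
        inv_mem' := by
          intro a ha n
          have h1 := ha (MulAut.conjNormal a⁻¹ n)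
          rw [← MulAut.mul_apply, ← map_mul, mul_inv_cancel, map_one, MulAut.one_apply] at h1
          exact h1.symm }
    have hGT : G ≤ T := by
      intro g hg n
      have h1 : MulAut.conjNormal g n = (⟨g, hg⟩ : G) * n * (⟨g, hg⟩ : G)⁻¹ :=
        Subtype.ext (MulAut.conjNormal_apply g n)
      rw [h1]
      exact hcf n ⟨g, hg⟩
    have hsT : s ∈ T := hinv
    have h2 : (⊤ : Subgroup Γ) ≤ T := by
      rw [← htop]
      exact sup_le hGT ((Subgroup.zpowers_le).2 hsT)
    exact fun γ n => h2 (Subgroup.mem_top γ) n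
  have hidx := index_eq_orderOf G s hcop htop
  have hdd : d ∣ Nat.card G := by
    have := Cfsg.Agent.Lib.Helper80.charDegree_dvd_card
      (⟨d, Y, hY, rfl⟩ : Cfsg.IsIrrCharacter G Y.character)
    rwa [Cfsg.Agent.Lib.Helper80.charDegree_char] at this
  have hc : Nat.Coprime G.index (Cfsg.detOrder Y.character * d) := by
    rw [hidx]
    exact Nat.Coprime.mul_right
      (Nat.Coprime.coprime_dvd_left (detOrder_dvd_card _) hcop).symm
      (Nat.Coprime.coprime_dvd_left hdd hcop).symm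
  obtain ⟨χh, ⟨h1, h2, h3⟩, -⟩ := exists_unique_extension_of_coprime G Y hinv' hc
  refine ⟨χh, h1, h2, ?_⟩
  rw [h3]
  exact Nat.Coprime.coprime_dvd_left (detOrder_dvd_card _) hcop

variable (C : Subgroup Γ) (hC : ∀ c : Γ, c ∈ C ↔ c ∈ G ∧ c * s = s * c) [Fintype G] [Fintype C]

include hcop htop hC in
/-- **Glauberman correspondence, cyclic case (surjectivity)** -/
theorem glauberman_cyclic_surj {β : C → ℂ} (hβ : Cfsg.IsIrrCharacter C β) :
    ∃ (χh : Γ → ℂ) (ε : ℤ), Cfsg.IsIrrCharacter Γ χh ∧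
      Cfsg.IsIrrCharacter G (fun g : G => χh g) ∧ (Cfsg.detOrder χh).Coprime (orderOf s) ∧
      (ε = 1 ∨ ε = -1) ∧
      ∀ (c : C) (j : ℕ), j.Coprime (orderOf s) → χh ((c : Γ) * s ^ j) = (ε : ℂ) * β c := by
  classical
  have key : ∀ χ : {χ : Cfsg.IrrCharacter G //
      ∀ g : G, (χ : G → ℂ) (MulAut.conjNormal s g) = (χ : G → ℂ) g},
      ∃ (β : Cfsg.IrrCharacter C) (χh : Γ → ℂ) (ε : ℤ), Cfsg.IsIrrCharacter Γ χh ∧
        (∀ g : G, χh g = (χ.1 : G → ℂ) g) ∧ (Cfsg.detOrder χh).Coprime (orderOf s) ∧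
        (ε = 1 ∨ ε = -1) ∧
        ∀ (c : C) (j : ℕ), j.Coprime (orderOf s) →
          χh ((c : Γ) * s ^ j) = (ε : ℂ) * (β : C → ℂ) c := by
    intro χ
    obtain ⟨χh, h1, h2, h3⟩ := exists_canonical_ext G s hcop htop χ.1.2 χ.2
    have hres : Cfsg.IsIrrCharacter G (fun g : G => χh g) := by
      have : (fun g : G => χh g) = (χ.1 : G → ℂ) := funext h2
      rw [this]
      exact χ.1.2
    obtain ⟨β, ε, hβ, hε, hval, -⟩ := exists_glauberman_cyclic G s hcop htop C hC h1 hres h3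
    exact ⟨⟨β, hβ⟩, χh, ε, h1, h2, h3, hε, hval⟩
  choose F hF using key
  have hinj : Function.Injective F := by
    intro χ χ' h
    obtain ⟨χh, ε, h1, h2, h3, h4, h5⟩ := hF χ
    obtain ⟨χh', ε', h1', h2', h3', h4', h5'⟩ := hF χ'
    rw [← h] at h5'
    have hres : Cfsg.IsIrrCharacter G (fun g : G => χh g) := by
      have : (fun g : G => χh g) = (χ.1 : G → ℂ) := funext h2
      rw [this]
      exact χ.1.2
    have hres' : Cfsg.IsIrrCharacter G (fun g : G => χh' g) := by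
      have : (fun g : G => χh' g) = (χ'.1 : G → ℂ) := funext h2'
      rw [this]
      exact χ'.1.2
    have h6 := glauberman_cyclic_inj G s hcop C hC h1 h1' hres hres' (F χ).2 h4 h4'
      (fun c => by
        have := h5 c 1 (Nat.coprime_one_left _)
        rwa [pow_one] at this)
      (fun c => by
        have := h5' c 1 (Nat.coprime_one_left _)
        rwa [pow_one] at this)
    apply Subtype.ext
    apply Subtype.ext
    funext g
    rw [← h2 g, ← h2' g]
    exact (congrFun h6 g).symm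
  have hsurj := (hinj.bijective_of_nat_card_le (card_inv_irr_eq G s hcop C hC).ge).2
  obtain ⟨χ, hχ⟩ := hsurj ⟨β, hβ⟩
  obtain ⟨χh, ε, h1, h2, h3, h4, h5⟩ := hF χ
  refine ⟨χh, ε, h1, ?_, h3, h4, ?_⟩
  · have : (fun g : G => χh g) = (χ.1 : G → ℂ) := funext h2
    rw [this]
    exact χ.1.2
  · intro c j hj
    have := h5 c j hj
    rw [hχ] at this
    exact this

end GlaubSurj

section GlaubAsm

/-- a subgroup normalised by a complementary subgroup is normal -/
theorem normal_of_sup_eq_top {Γ : Type u} [Group Γ] (G S : Subgroup Γ)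
    (hnorm : ∀ s ∈ S, ∀ g ∈ G, s * g * s⁻¹ ∈ G) (htop : G ⊔ S = ⊤) : G.Normal := by
  have h1 : S ≤ Subgroup.normalizer (G : Set Γ) := by
    intro s hs
    rw [Subgroup.mem_normalizer_iff]
    intro g
    constructor
    · exact hnorm s hs g
    · intro h
      have h2 := hnorm s⁻¹ (S.inv_mem hs) _ h
      have e : s⁻¹ * (s * g * s⁻¹) * s⁻¹⁻¹ = g := by group
      rwa [e] at h2
  have h2 : Subgroup.normalizer (G : Set Γ) = ⊤ := by
    apply top_le_iff.1
    rw [← htop]
    exact sup_le Subgroup.le_normalizer h1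
  exact Subgroup.normalizer_eq_top_iff.1 h2

theorem exists_generator_zpowers {Γ : Type u} [Group Γ] (S : Subgroup Γ) (hcyc : IsCyclic S) :
    ∃ s₀ : Γ, Subgroup.zpowers s₀ = S := by
  obtain ⟨g, hg⟩ := hcyc.exists_generator
  refine ⟨g, le_antisymm ((Subgroup.zpowers_le).2 g.2) ?_⟩
  intro x hx
  obtain ⟨k, hk⟩ := Subgroup.mem_zpowers_iff.1 (hg ⟨x, hx⟩)
  refine Subgroup.mem_zpowers_iff.2 ⟨k, ?_⟩
  have h2 := congrArg Subtype.val hk
  rwa [Subgroup.coe_zpow] at h2

theorem exists_pow_coprime_of_zpowers_eq {Γ : Type u} [Group Γ] [Finite Γ] {s₀ s : Γ}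
    (h : Subgroup.zpowers s = Subgroup.zpowers s₀) :
    ∃ j : ℕ, j.Coprime (orderOf s₀) ∧ s = s₀ ^ j := by
  have hs : s ∈ Subgroup.zpowers s₀ := h ▸ Subgroup.mem_zpowers s
  obtain ⟨j, hj⟩ := (Submonoid.mem_powers_iff _ _).1 (mem_powers_iff_mem_zpowers.2 hs)
  refine ⟨j, ?_, hj.symm⟩
  have ho : orderOf s = orderOf s₀ := by rw [← Nat.card_zpowers, ← Nat.card_zpowers, h]
  rw [← hj, orderOf_pow] at ho
  have hpos : 0 < orderOf s₀ := orderOf_pos s₀
  have hdvd : Nat.gcd (orderOf s₀) j ∣ orderOf s₀ := Nat.gcd_dvd_left _ _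
  have h3 := Nat.div_mul_cancel hdvd
  rw [ho] at h3
  have h4 : Nat.gcd (orderOf s₀) j = 1 := by
    have h5 : orderOf s₀ * Nat.gcd (orderOf s₀) j = orderOf s₀ * 1 := by rw [h3, mul_one]
    exact Nat.eq_of_mul_eq_mul_left hpos h5
  rw [Nat.coprime_iff_gcd_eq_one, Nat.gcd_comm]
  exact h4

/-- a signed irreducible character determines the sign and the character -/
theorem sign_irr_unique {C : Type u} [Group C] [Finite C] {β β' : C → ℂ}
    (hβ : Cfsg.IsIrrCharacter C β) (hβ' : Cfsg.IsIrrCharacter C β') {ε ε' : ℤ}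
    (hε : ε = 1 ∨ ε = -1) (hε' : ε' = 1 ∨ ε' = -1)
    (h : ∀ c : C, (ε' : ℂ) * β' c = (ε : ℂ) * β c) : β' = β ∧ ε' = ε := by
  have h1 := h 1
  rw [Cfsg.Agent.Lib.Helper80.char_one_eq_charDegree (isCharacter_of_irr hβ),
    Cfsg.Agent.Lib.Helper80.char_one_eq_charDegree (isCharacter_of_irr hβ')] at h1
  have hd := Cfsg.Agent.Lib.Helper80.charDegree_pos hβ
  have hd' := Cfsg.Agent.Lib.Helper80.charDegree_pos hβ'
  have h2 : ε' * (Cfsg.charDegree β' : ℤ) = ε * (Cfsg.charDegree β : ℤ) := by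
    exact_mod_cast h1
  have hεε : ε' = ε := by
    rcases hε with h3 | h3 <;> rcases hε' with h4 | h4 <;> subst h3 <;> subst h4 <;> omega
  refine ⟨?_, hεε⟩
  funext c
  have h3 := h c
  rw [hεε] at h3
  have hε0 : (ε : ℂ) ≠ 0 := by
    rcases hε with h | h <;> rw [h] <;> norm_num
  exact mul_left_cancel₀ hε0 h3

end GlaubAsm

end Cfsg.Agent.Lib.Helper75
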