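import Mathlib
import Cfsg.Prelude.Def_Characters
import Cfsg.Prelude.Def_Blocks
import Cfsg.Prelude.Def_CharExt
import Cfsg.Agent.Lib.Helper3.CharValues
import Cfsg.Agent.Lib.Helper80.CharKer
import Cfsg.Agent.Lib.Helper75.CharDecomp
import Cfsg.Agent.Lib.Helper75.CharInd
import Cfsg.Agent.Lib.Helper75.Glaub1
import Cfsg.Agent.Lib.Helper75.Glaub2
import Cfsg.Agent.Lib.Helper75.Glaub3
import Cfsg.Agent.Lib.Helper75.Glaub4

/-!
# The Glauberman correspondence: cyclic `p`-group case, congruence form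
-/

set_option autoImplicit false
set_option linter.style.haveILetI false

namespace Cfsg.Agent.Lib.Helper75

open Representation Module
open Cfsg.Agent.Lib.Helper3
open scoped ComplexConjugate

universe u v

/-- an integer which is a non-negative combination of `p`-power roots of unity is congruent
modulo `p` to the sum of the coefficients -/
theorem sum_roots_modEq (p : ℕ) (hp : p.Prime) (k : ℕ) {ι : Type*} [Fintype ι] (a : ι → ℕ)
    (ω : ι → ℂ) (hω : ∀ i, ω i ^ (p ^ k) = 1) (z : ℤ) (hz : ∑ i, (a i : ℂ) * ω i = z) :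
    z ≡ ∑ i, (a i : ℤ) [ZMOD p] := by
  classical
  haveI : Fact p.Prime := ⟨hp⟩
  let R := integralClosure ℤ ℂ
  have hωR : ∀ i, ω i ∈ R := fun i =>
    IsIntegral.of_pow (pow_pos hp.pos k) (by rw [hω i]; exact isIntegral_one)
  let I : Ideal R := Ideal.span {(p : R)}
  have hI : I ≠ ⊤ := by
    intro h
    have h1 : (1 : R) ∈ I := by rw [h]; trivial
    obtain ⟨r, hr⟩ := Ideal.mem_span_singleton'.1 h1
    have h2 : (r : ℂ) * (p : ℂ) = 1 := by
      have := congrArg Subtype.val hr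
      simpa using this
    have hp0 : (p : ℂ) ≠ 0 := by exact_mod_cast hp.ne_zero
    have h3 : (r : ℂ) = (((1 : ℚ) / (p : ℚ) : ℚ) : ℂ) := by
      push_cast
      field_simp
      exact h2
    have h4 : IsIntegral ℤ ((((1 : ℚ) / (p : ℚ) : ℚ) : ℂ)) := h3 ▸ r.2
    obtain ⟨n, hn⟩ := int_of_rat_of_isIntegral _ h4
    rw [← h3] at hn
    rw [hn] at h2
    have h5 : n * (p : ℤ) = 1 := by exact_mod_cast h2
    have h6 : IsUnit (p : ℤ) := IsUnit.of_mul_eq_one _ (by rw [mul_comm]; exact h5)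
    have h7 := Int.isUnit_iff.1 h6
    have := hp.one_lt
    omega
  obtain ⟨M, hM, hIM⟩ := Ideal.exists_le_maximal I hI
  letI := Ideal.Quotient.field M
  let π : R →+* R ⧸ M := Ideal.Quotient.mk M
  have hp0 : ((p : ℕ) : R ⧸ M) = 0 := by
    have h1 : π (p : R) = 0 :=
      Ideal.Quotient.eq_zero_iff_mem.2 (hIM (Ideal.mem_span_singleton_self _))
    simpa using h1
  haveI : CharP (R ⧸ M) p := by
    obtain ⟨q, hq⟩ := CharP.exists (R ⧸ M)
    have h1 : q ∣ p := (CharP.cast_eq_zero_iff (R ⧸ M) q p).1 hp0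
    rcases (Nat.dvd_prime hp).1 h1 with h2 | h2
    · exact absurd h2 (CharP.char_ne_one (R ⧸ M) q)
    · rw [← h2]; exact hq
  have hω1 : ∀ i, π ⟨ω i, hωR i⟩ = 1 := by
    intro i
    have h1 : (π ⟨ω i, hωR i⟩ - 1) ^ (p ^ k) = 0 := by
      rw [sub_pow_char_pow, one_pow, ← map_pow]
      have h2 : (⟨ω i, hωR i⟩ : R) ^ (p ^ k) = 1 := Subtype.ext (by simpa using hω i)
      rw [h2, map_one, sub_self]
    exact sub_eq_zero.1 ((pow_eq_zero_iff (pow_pos hp.pos k).ne').1 h1)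
  have hR : ∑ i, (a i : R) * ⟨ω i, hωR i⟩ = (z : R) := by
    apply Subtype.ext
    push_cast
    exact hz
  have hF := congrArg π hR
  rw [map_sum] at hF
  simp only [map_mul, map_natCast, hω1, mul_one, map_intCast] at hF
  have h8 : (((∑ i, (a i : ℤ)) - z : ℤ) : R ⧸ M) = 0 := by
    push_cast
    rw [← hF]
    simp
  have h9 := (CharP.intCast_eq_zero_iff (R ⧸ M) p _).1 h8
  exact Int.modEq_iff_dvd.2 h9


theorem not_dvd_of_modEq_sign {p : ℕ} (hp : p.Prime) {ε : ℤ} (hε : ε = 1 ∨ ε = -1) {m : ℕ}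
    (h : (m : ℤ) ≡ ε [ZMOD p]) : ¬ p ∣ m := by
  intro hd
  have h1 : (p : ℤ) ∣ (m : ℤ) := Int.natCast_dvd_natCast.2 hd
  have h2 : (p : ℤ) ∣ ε := by
    have h3 := Int.modEq_iff_dvd.1 h
    have h4 := dvd_add h3 h1
    simpa using h4
  have h3 : (p : ℤ) ∣ 1 := by
    rcases hε with h | h
    · rwa [h] at h2
    · rw [h] at h2
      exact (dvd_neg.1 h2)
  have h4 := Int.eq_one_of_dvd_one (by positivity) h3
  have h5 := hp.one_lt
  omega

/-- reindexing the inner product along an isomorphism -/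
theorem classInner_comp_equiv {C : Type u} {C' : Type v} [Group C] [Group C'] [Fintype C]
    [Fintype C'] (e : C' ≃* C) (f h : C → ℂ) :
    Cfsg.classInner (fun c => f (e c)) (fun c => h (e c)) = Cfsg.classInner f h := by
  unfold Cfsg.classInner
  rw [Nat.card_congr e.toEquiv]
  congr 1
  exact Equiv.sum_comp e.toEquiv (fun c => f c * conj (h c))

/-- **Glauberman data modulo `p`** for a homomorphism `ι : C →* G` (thought of as an inclusion)
and a set `Inv` of ("invariant") irreducible characters of `G`: every invariant `χ` has exactly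
one irreducible constituent `β` of `χ ∘ ι` of multiplicity prime to `p`, this multiplicity is
`≡ ±1`, and `χ ↦ β` is a bijection onto the irreducible characters of `C`. -/
def GlaubCorr (p : ℕ) {G : Type u} {C : Type v} [Group G] [Group C] [Fintype C] (ι : C →* G)
    (Inv : (G → ℂ) → Prop) : Prop :=
  (∀ χ : G → ℂ, Cfsg.IsIrrCharacter G χ → Inv χ →
    ∃ (β : C → ℂ) (ε : ℤ), Cfsg.IsIrrCharacter C β ∧ (ε = 1 ∨ ε = -1) ∧
      ∀ β₁ : C → ℂ, Cfsg.IsIrrCharacter C β₁ →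
        ∃ m : ℕ, Cfsg.classInner (fun c => χ (ι c)) β₁ = (m : ℂ) ∧
          (β₁ = β → (m : ℤ) ≡ ε [ZMOD p]) ∧ (β₁ ≠ β → (p : ℤ) ∣ m)) ∧
  (∀ χ χ' : G → ℂ, Cfsg.IsIrrCharacter G χ → Cfsg.IsIrrCharacter G χ' → Inv χ → Inv χ' →
    ∀ β : C → ℂ, Cfsg.IsIrrCharacter C β → ∀ m m' : ℕ,
      Cfsg.classInner (fun c => χ (ι c)) β = (m : ℂ) → ¬ p ∣ m →
      Cfsg.classInner (fun c => χ' (ι c)) β = (m' : ℂ) → ¬ p ∣ m' → χ = χ') ∧
  (∀ β : C → ℂ, Cfsg.IsIrrCharacter C β →
    ∃ χ : G → ℂ, Cfsg.IsIrrCharacter G χ ∧ Inv χ ∧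
      ∃ m : ℕ, Cfsg.classInner (fun c => χ (ι c)) β = (m : ℂ) ∧ ¬ p ∣ m)

section GlaubCycP

variable {Γ : Type u} [Group Γ] [Fintype Γ] (G : Subgroup Γ) [hG : G.Normal] (s : Γ)
  (hcop : (Nat.card G).Coprime (orderOf s)) (htop : G ⊔ Subgroup.zpowers s = ⊤)
  (C : Subgroup Γ) (hC : ∀ c : Γ, c ∈ C ↔ c ∈ G ∧ c * s = s * c) [Fintype G] [Fintype C]

omit hG [Fintype ↥G] in
include hC in
/-- congruence part of the cyclic `p`-case -/
theorem cyclic_p_congr (p : ℕ) (hp : p.Prime) (k : ℕ) (hk : orderOf s = p ^ k)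
    {χh : Γ → ℂ} (h1 : Cfsg.IsIrrCharacter Γ χh) {β : C → ℂ} (hβ : Cfsg.IsIrrCharacter C β)
    {ε : ℤ} (hval : ∀ c : C, χh ((c : Γ) * s) = (ε : ℂ) * β c) {β₁ : C → ℂ}
    (hβ₁ : Cfsg.IsIrrCharacter C β₁) :
    ∃ m : ℕ, Cfsg.classInner (fun c : C => χh (c : Γ)) β₁ = (m : ℂ) ∧
      (β₁ = β → (m : ℤ) ≡ ε [ZMOD p]) ∧ (β₁ ≠ β → (p : ℤ) ∣ m) := by
  obtain ⟨ι, hι, a, ω, hω, hform⟩ := exists_decomp_centralizer G s C hC (isCharacter_of_irr h1)
    (isCharacter_of_irr hβ₁)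
  have hω' : ∀ i, ω i ^ (p ^ k) = 1 := fun i => by rw [← hk]; exact hω i
  have h0 := hform 0
  simp only [pow_zero, mul_one] at h0
  have h1' := hform 1
  simp only [pow_one] at h1'
  have h2 : (fun c : C => χh ((c : Γ) * s)) = (ε : ℂ) • β := funext hval
  rw [h2, classInner_smul_left] at h1'
  refine ⟨∑ i, a i, ?_, ?_, ?_⟩
  · rw [h0]
    push_cast
    rfl
  · intro heq
    rw [heq, classInner_irr_self hβ, mul_one] at h1'
    have h3 := sum_roots_modEq p hp k a ω hω' ε h1'.symm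
    push_cast
    exact h3.symm
  · intro hne
    rw [classInner_irr_ne hβ hβ₁ (Ne.symm hne), mul_zero] at h1'
    have h3 := sum_roots_modEq p hp k a ω hω' 0 (by rw [← h1']; simp)
    have h4 := Int.modEq_zero_iff_dvd.1 h3.symm
    push_cast
    exact h4

include hcop htop hC in
/-- **the cyclic `p`-group case of the Glauberman correspondence**, congruence form -/
theorem glaubCorr_cyclic (p : ℕ) (hp : p.Prime) (k : ℕ) (hk : orderOf s = p ^ k) (hCG : C ≤ G) :
    GlaubCorr p (Subgroup.inclusion hCG)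
      (fun ψ : G → ℂ => ∀ g : G, ψ (MulAut.conjNormal s g) = ψ g) := by
  have key : ∀ ψ : G → ℂ, Cfsg.IsIrrCharacter G ψ →
      (∀ g : G, ψ (MulAut.conjNormal s g) = ψ g) →
      ∃ (χh : Γ → ℂ) (β : C → ℂ) (ε : ℤ), Cfsg.IsIrrCharacter Γ χh ∧ (∀ g : G, χh g = ψ g) ∧
        Cfsg.IsIrrCharacter C β ∧ (ε = 1 ∨ ε = -1) ∧
        (∀ c : C, χh ((c : Γ) * s) = (ε : ℂ) * β c) := by
    intro ψ hψ hinv
    obtain ⟨χh, h1, h2, h3⟩ := exists_canonical_ext G s hcop htop hψ hinv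
    have hres : Cfsg.IsIrrCharacter G (fun g : G => χh g) := by
      have : (fun g : G => χh g) = ψ := funext h2
      rw [this]
      exact hψ
    obtain ⟨β, ε, hβ, hε, hval, -⟩ := exists_glauberman_cyclic G s hcop htop C hC h1 hres h3
    refine ⟨χh, β, ε, h1, h2, hβ, hε, fun c => ?_⟩
    have h4 := hval c 1 (Nat.coprime_one_left _)
    rwa [pow_one] at h4
  have hrestr : ∀ (ψ : G → ℂ) (χh : Γ → ℂ), (∀ g : G, χh g = ψ g) →
      (fun c : C => ψ (Subgroup.inclusion hCG c)) = (fun c : C => χh (c : Γ)) := by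
    intro ψ χh h
    funext c
    exact (h _).symm
  refine ⟨?_, ?_, ?_⟩
  · intro ψ hψ hinv
    obtain ⟨χh, β, ε, h1, h2, hβ, hε, hval⟩ := key ψ hψ hinv
    refine ⟨β, ε, hβ, hε, ?_⟩
    intro β₁ hβ₁
    rw [hrestr ψ χh h2]
    exact cyclic_p_congr G s C hC p hp k hk h1 hβ hval hβ₁
  · intro ψ ψ' hψ hψ' hinv hinv' β hβ m m' hm hpm hm' hpm'
    obtain ⟨χh, β₀, ε, h1, h2, hβ₀, hε, hval⟩ := key ψ hψ hinv
    obtain ⟨χh', β₀', ε', h1', h2', hβ₀', hε', hval'⟩ := key ψ' hψ' hinv'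
    have e1 : β = β₀ := by
      by_contra hne
      obtain ⟨m₁, hm₁, -, hdvd⟩ := cyclic_p_congr G s C hC p hp k hk h1 hβ₀ hval hβ
      rw [hrestr ψ χh h2] at hm
      have h5 : m₁ = m := by exact_mod_cast hm₁.symm.trans hm
      exact hpm (by rw [← h5]; exact Int.natCast_dvd_natCast.1 (hdvd hne))
    have e2 : β = β₀' := by
      by_contra hne
      obtain ⟨m₁, hm₁, -, hdvd⟩ := cyclic_p_congr G s C hC p hp k hk h1' hβ₀' hval' hβ
      rw [hrestr ψ' χh' h2'] at hm'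
      have h5 : m₁ = m' := by exact_mod_cast hm₁.symm.trans hm'
      exact hpm' (by rw [← h5]; exact Int.natCast_dvd_natCast.1 (hdvd hne))
    rw [← e1] at hval
    rw [← e2] at hval'
    have hres : Cfsg.IsIrrCharacter G (fun g : G => χh g) := by
      have : (fun g : G => χh g) = ψ := funext h2
      rw [this]
      exact hψ
    have hres' : Cfsg.IsIrrCharacter G (fun g : G => χh' g) := by
      have : (fun g : G => χh' g) = ψ' := funext h2'
      rw [this]
      exact hψ'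
    have h6 := glauberman_cyclic_inj G s hcop C hC h1 h1' hres hres' hβ hε hε' hval hval'
    funext g
    rw [← h2 g, ← h2' g]
    exact (congrFun h6 g).symm
  · intro β hβ
    obtain ⟨χh, ε, h1, hres, hd, hε, hval⟩ := glauberman_cyclic_surj G s hcop htop C hC hβ
    refine ⟨fun g : G => χh g, hres, ?_, ?_⟩
    · intro g
      show χh ((MulAut.conjNormal s g : G) : Γ) = χh g
      rw [MulAut.conjNormal_apply]
      exact isClassFunction_of_isCharacter (isCharacter_of_irr h1) _ _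
    · obtain ⟨m, hm, hmod, -⟩ := cyclic_p_congr G s C hC p hp k hk h1 hβ (fun c => by
        have h4 := hval c 1 (Nat.coprime_one_left _)
        rwa [pow_one] at h4) hβ
      exact ⟨m, hm, not_dvd_of_modEq_sign hp hε (hmod rfl)⟩

end GlaubCycP

end Cfsg.Agent.Lib.Helper75
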