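import Mathlib
import Cfsg.Prelude.Def_Characters
import Cfsg.Prelude.Def_Blocks
import Cfsg.Prelude.Def_CharExt
import Cfsg.Agent.Lib.Helper3.CharValues
import Cfsg.Agent.Lib.Helper80.CharKer
import Cfsg.Agent.Lib.Helper75.CharDecomp
import Cfsg.Agent.Lib.Helper75.CharInd
import Cfsg.Agent.Lib.Helper75.Glaub4
import Cfsg.Agent.Lib.Helper75.Glaub5

/-!
# The Glauberman correspondence for `p`-groups of operators

Generic manipulations of `GlaubCorr` (transport along isomorphisms, composition), and the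
induction on the order of the acting `p`-group.
-/

set_option autoImplicit false
set_option linter.style.haveILetI false

namespace Cfsg.Agent.Lib.Helper75

open Representation Module
open Cfsg.Agent.Lib.Helper3
open scoped ComplexConjugate

universe u v

section GlaubGeneric

/-- `GlaubCorr` only depends on the values of `ι` and on the extension of `Inv` -/
theorem GlaubCorr.congr {p : ℕ} {G : Type u} {C : Type v} [Group G] [Group C] [Fintype C]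
    {ι ι' : C →* G} {Inv Inv' : (G → ℂ) → Prop} (hι : ∀ c, ι c = ι' c)
    (hInv : ∀ χ, Inv χ ↔ Inv' χ) (h : GlaubCorr p ι Inv) : GlaubCorr p ι' Inv' := by
  have e1 : ι = ι' := MonoidHom.ext hι
  have e2 : Inv = Inv' := funext (fun χ => propext (hInv χ))
  rw [← e1, ← e2]
  exact h

theorem sign_mul_sign {ε₁ ε₂ : ℤ} (h1 : ε₁ = 1 ∨ ε₁ = -1) (h2 : ε₂ = 1 ∨ ε₂ = -1) :
    ε₁ * ε₂ = 1 ∨ ε₁ * ε₂ = -1 := by
  rcases h1 with h | h <;> rcases h2 with h' | h' <;> subst h <;> subst h' <;> simp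

/-- transport of `GlaubCorr` along isomorphisms -/
theorem GlaubCorr.transport {p : ℕ} {G G' : Type u} {C C' : Type v} [Group G] [Group G']
    [Group C] [Group C'] [Fintype C] [Fintype C'] {ι : C →* G} {ι' : C' →* G'} (eG : G' ≃* G)
    (eC : C' ≃* C) (hcomm : ∀ c', eG (ι' c') = ι (eC c')) {Inv' : (G' → ℂ) → Prop}
    {Inv : (G → ℂ) → Prop} (hInv : ∀ χ : G → ℂ, Inv χ → Inv' (fun g' => χ (eG g')))
    (hInv2 : ∀ χ' : G' → ℂ, Inv' χ' → Inv (fun g => χ' (eG.symm g)))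
    (h : GlaubCorr p ι' Inv') : GlaubCorr p ι Inv := by
  obtain ⟨ha, hb, hc⟩ := h
  have hinner : ∀ (χ : G → ℂ) (β : C → ℂ),
      Cfsg.classInner (fun c' => χ (eG (ι' c'))) (fun c' => β (eC c')) =
        Cfsg.classInner (fun c => χ (ι c)) β := by
    intro χ β
    rw [← classInner_comp_equiv eC (fun c => χ (ι c)) β]
    have e : (fun c' => χ (eG (ι' c'))) = (fun c' => χ (ι (eC c'))) := by
      funext c'
      rw [hcomm]
    rw [e]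
  refine ⟨?_, ?_, ?_⟩
  · intro χ hχ hI
    obtain ⟨β', ε, hβ', hε, H⟩ := ha (fun g' => χ (eG g'))
      (Cfsg.Agent.Lib.Helper80.isIrrCharacter_comp_mulEquiv eG hχ) (hInv χ hI)
    refine ⟨fun c => β' (eC.symm c), ε,
      Cfsg.Agent.Lib.Helper80.isIrrCharacter_comp_mulEquiv eC.symm hβ', hε, ?_⟩
    intro β₁ hβ₁
    obtain ⟨m, hm, h1, h2⟩ := H (fun c' => β₁ (eC c'))
      (Cfsg.Agent.Lib.Helper80.isIrrCharacter_comp_mulEquiv eC hβ₁)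
    rw [hinner] at hm
    refine ⟨m, hm, ?_, ?_⟩
    · intro heq
      apply h1
      rw [heq]
      funext c'
      simp
    · intro hne
      apply h2
      intro heq
      apply hne
      funext c
      have h3 := congrFun heq (eC.symm c)
      simpa using h3
  · intro χ χ' hχ hχ' hI hI' β hβ m m' hm hpm hm' hpm'
    have h3 := hb (fun g' => χ (eG g')) (fun g' => χ' (eG g'))
      (Cfsg.Agent.Lib.Helper80.isIrrCharacter_comp_mulEquiv eG hχ)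
      (Cfsg.Agent.Lib.Helper80.isIrrCharacter_comp_mulEquiv eG hχ') (hInv χ hI) (hInv χ' hI')
      (fun c' => β (eC c')) (Cfsg.Agent.Lib.Helper80.isIrrCharacter_comp_mulEquiv eC hβ) m m'
      (by rw [hinner]; exact hm) hpm (by rw [hinner]; exact hm') hpm'
    funext g
    have h4 := congrFun h3 (eG.symm g)
    simpa using h4
  · intro β hβ
    obtain ⟨χ', hχ', hI', m, hm, hpm⟩ := hc (fun c' => β (eC c'))
      (Cfsg.Agent.Lib.Helper80.isIrrCharacter_comp_mulEquiv eC hβ)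
    refine ⟨fun g => χ' (eG.symm g),
      Cfsg.Agent.Lib.Helper80.isIrrCharacter_comp_mulEquiv eG.symm hχ', hInv2 χ' hI', m, ?_, hpm⟩
    have h5 := hinner (fun g => χ' (eG.symm g)) β
    simp only [MulEquiv.symm_apply_apply] at h5
    rw [← h5]
    exact hm

/-- the trivial case: `ι` an isomorphism -/
theorem GlaubCorr.of_bijective {p : ℕ} (hp : p.Prime) {G : Type u} {C : Type v} [Group G]
    [Group C] [Fintype C] (ι : C →* G) (hι : Function.Bijective ι) (Inv : (G → ℂ) → Prop)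
    (hInv : ∀ χ, Cfsg.IsIrrCharacter G χ → Inv χ) : GlaubCorr p ι Inv := by
  classical
  let e : C ≃* G := MulEquiv.ofBijective ι hι
  have he : ∀ c, e c = ι c := fun c => rfl
  have hirr : ∀ χ : G → ℂ, Cfsg.IsIrrCharacter G χ → Cfsg.IsIrrCharacter C (fun c => χ (ι c)) :=
    fun χ hχ => Cfsg.Agent.Lib.Helper80.isIrrCharacter_comp_mulEquiv e hχ
  refine ⟨?_, ?_, ?_⟩
  · intro χ hχ _
    have hβ := hirr χ hχ
    refine ⟨fun c => χ (ι c), 1, hβ, Or.inl rfl, ?_⟩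
    intro β₁ hβ₁
    by_cases h : β₁ = fun c => χ (ι c)
    · refine ⟨1, ?_, fun _ => by simp, fun hne => absurd h hne⟩
      rw [h, classInner_irr_self hβ]
      simp
    · refine ⟨0, ?_, fun heq => absurd heq h, fun _ => by simp⟩
      rw [classInner_irr_ne hβ hβ₁ (Ne.symm h)]
      simp
  · intro χ χ' hχ hχ' _ _ β hβ m m' hm hpm hm' hpm'
    have h1 : (fun c => χ (ι c)) = β := by
      by_contra hne
      rw [classInner_irr_ne (hirr χ hχ) hβ hne] at hm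
      have h3 : m = 0 := by exact_mod_cast hm.symm
      exact hpm (by rw [h3]; exact dvd_zero p)
    have h2 : (fun c => χ' (ι c)) = β := by
      by_contra hne
      rw [classInner_irr_ne (hirr χ' hχ') hβ hne] at hm'
      have h3 : m' = 0 := by exact_mod_cast hm'.symm
      exact hpm' (by rw [h3]; exact dvd_zero p)
    funext g
    obtain ⟨c, rfl⟩ := hι.2 g
    exact (congrFun h1 c).trans (congrFun h2 c).symm
  · intro β hβ
    have hχ : Cfsg.IsIrrCharacter G (fun g => β (e.symm g)) :=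
      Cfsg.Agent.Lib.Helper80.isIrrCharacter_comp_mulEquiv e.symm hβ
    refine ⟨fun g => β (e.symm g), hχ, hInv _ hχ, 1, ?_, ?_⟩
    · have h1 : (fun c => β (e.symm (ι c))) = β := by
        funext c
        rw [← he, MulEquiv.symm_apply_apply]
      rw [h1, classInner_irr_self hβ]
      simp
    · exact fun h => hp.one_lt.ne' (Nat.dvd_one.1 h)

end GlaubGeneric

section GlaubComp

/-- **composition of Glauberman data**: `C → D → G`, with a twist `aG` of `G` restricting to a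
twist `aD` of `D`; data for `D → G` (with invariance condition `InvT`, stable under the twist)
and for `C → D` (with invariance under `aD`) combine to data for `C → G` (with `InvT` and
invariance under `aG`) -/
theorem GlaubCorr.comp {p : ℕ} (hp : p.Prime) {G D C : Type u} [Group G] [Group D] [Group C]
    [Fintype D] [Fintype C] {ι₁ : D →* G} {ι₂ : C →* D} {InvT : (G → ℂ) → Prop} (aG : G ≃* G)
    (aD : D ≃* D) (hcomm : ∀ d, ι₁ (aD d) = aG (ι₁ d))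
    (hT : ∀ χ, Cfsg.IsIrrCharacter G χ → InvT χ → InvT (fun g => χ (aG g)))
    (h1 : GlaubCorr p ι₁ InvT) (h2 : GlaubCorr p ι₂ (fun ψ : D → ℂ => ∀ d, ψ (aD d) = ψ d)) :
    GlaubCorr p (ι₁.comp ι₂) (fun χ : G → ℂ => InvT χ ∧ ∀ g, χ (aG g) = χ g) := by
  classical
  haveI : Fintype (Cfsg.IrrCharacter D) := Fintype.ofFinite _
  obtain ⟨h1a, h1b, h1c⟩ := h1
  obtain ⟨h2a, h2b, h2c⟩ := h2
  have htw : ∀ (χ : G → ℂ) (ψ : D → ℂ),
      Cfsg.classInner (fun d => χ (aG (ι₁ d))) (fun d => ψ (aD d)) =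
        Cfsg.classInner (fun d => χ (ι₁ d)) ψ := by
    intro χ ψ
    rw [← classInner_comp_equiv aD (fun d => χ (ι₁ d)) ψ]
    have e : (fun d => χ (aG (ι₁ d))) = (fun d => χ (ι₁ (aD d))) := by
      funext d
      rw [hcomm]
    rw [e]
  have hprod : ∀ χ : G → ℂ, Cfsg.IsCharacter G χ → ∀ β₁ : C → ℂ, Cfsg.IsIrrCharacter C β₁ →
      ∃ (n kk : Cfsg.IrrCharacter D → ℕ),
        (∀ ψ : Cfsg.IrrCharacter D, Cfsg.classInner (fun d => χ (ι₁ d)) (ψ : D → ℂ) = n ψ) ∧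
        (∀ ψ : Cfsg.IrrCharacter D,
          Cfsg.classInner (fun c => (ψ : D → ℂ) (ι₂ c)) β₁ = kk ψ) ∧
        Cfsg.classInner (fun c => χ (ι₁ (ι₂ c))) β₁ = ((∑ ψ, n ψ * kk ψ : ℕ) : ℂ) := by
    intro χ hχ β₁ hβ₁
    obtain ⟨n, hn, hsum⟩ := char_eq_sum_irr
      (Cfsg.Agent.Lib.Helper80.isCharacter_comp ι₁ hχ)
    have hkk : ∀ ψ : Cfsg.IrrCharacter D, ∃ k : ℕ,
        Cfsg.classInner (fun c => (ψ : D → ℂ) (ι₂ c)) β₁ = k := fun ψ =>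
      classInner_char_nat (Cfsg.Agent.Lib.Helper80.isCharacter_comp ι₂ (isCharacter_of_irr ψ.2))
        (isCharacter_of_irr hβ₁)
    choose kk hkk using hkk
    refine ⟨n, kk, hn, hkk, ?_⟩
    have e : (fun c => χ (ι₁ (ι₂ c))) =
        ∑ ψ : Cfsg.IrrCharacter D, (n ψ : ℂ) • (fun c => (ψ : D → ℂ) (ι₂ c)) := by
      funext c
      have h3 := congrFun hsum (ι₂ c)
      simp only [Finset.sum_apply, Pi.smul_apply, smul_eq_mul] at h3 ⊢
      exact h3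
    rw [e, classInner_sum_left]
    push_cast
    refine Finset.sum_congr rfl (fun ψ _ => ?_)
    rw [classInner_smul_left, hkk ψ]
  have key : ∀ χ : G → ℂ, Cfsg.IsIrrCharacter G χ → InvT χ → (∀ g, χ (aG g) = χ g) →
      ∃ (ψ₀ : D → ℂ) (β₀ : C → ℂ) (ε₁ ε₂ : ℤ), Cfsg.IsIrrCharacter D ψ₀ ∧
        (∀ d, ψ₀ (aD d) = ψ₀ d) ∧ Cfsg.IsIrrCharacter C β₀ ∧ (ε₁ = 1 ∨ ε₁ = -1) ∧
        (ε₂ = 1 ∨ ε₂ = -1) ∧
        (∀ ψ₁ : D → ℂ, Cfsg.IsIrrCharacter D ψ₁ →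
          ∃ n : ℕ, Cfsg.classInner (fun d => χ (ι₁ d)) ψ₁ = (n : ℂ) ∧
            (ψ₁ = ψ₀ → (n : ℤ) ≡ ε₁ [ZMOD p]) ∧ (ψ₁ ≠ ψ₀ → (p : ℤ) ∣ n)) ∧
        (∀ β₁ : C → ℂ, Cfsg.IsIrrCharacter C β₁ →
          ∃ k : ℕ, Cfsg.classInner (fun c => ψ₀ (ι₂ c)) β₁ = (k : ℂ) ∧
            (β₁ = β₀ → (k : ℤ) ≡ ε₂ [ZMOD p]) ∧ (β₁ ≠ β₀ → (p : ℤ) ∣ k)) ∧
        (∀ β₁ : C → ℂ, Cfsg.IsIrrCharacter C β₁ →
          ∃ m : ℕ, Cfsg.classInner (fun c => χ (ι₁ (ι₂ c))) β₁ = (m : ℂ) ∧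
            (β₁ = β₀ → (m : ℤ) ≡ ε₁ * ε₂ [ZMOD p]) ∧ (β₁ ≠ β₀ → (p : ℤ) ∣ m)) := by
    intro χ hχ hI hinv
    obtain ⟨ψ₀, ε₁, hψ₀, hε₁, H1⟩ := h1a χ hχ hI
    have hψ₀inv : ∀ d, ψ₀ (aD d) = ψ₀ d := by
      have hirr' : Cfsg.IsIrrCharacter D (fun d => ψ₀ (aD d)) :=
        Cfsg.Agent.Lib.Helper80.isIrrCharacter_comp_mulEquiv aD hψ₀
      by_contra hcon
      have hne : (fun d => ψ₀ (aD d)) ≠ ψ₀ := fun h => hcon (fun d => congrFun h d)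
      obtain ⟨n', hn', -, hdvd⟩ := H1 _ hirr'
      obtain ⟨n₀, hn₀, hmod, -⟩ := H1 ψ₀ hψ₀
      have e : Cfsg.classInner (fun d => χ (ι₁ d)) (fun d => ψ₀ (aD d)) =
          Cfsg.classInner (fun d => χ (ι₁ d)) ψ₀ := by
        rw [← htw χ ψ₀]
        have e2 : (fun d => χ (aG (ι₁ d))) = (fun d => χ (ι₁ d)) := by
          funext d
          rw [hinv]
        rw [e2]
      rw [e, hn₀] at hn'
      have h5 : n₀ = n' := by exact_mod_cast hn'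
      exact not_dvd_of_modEq_sign hp hε₁ (hmod rfl)
        (h5 ▸ Int.natCast_dvd_natCast.1 (hdvd hne))
    obtain ⟨β₀, ε₂, hβ₀, hε₂, H2⟩ := h2a ψ₀ hψ₀ hψ₀inv
    refine ⟨ψ₀, β₀, ε₁, ε₂, hψ₀, hψ₀inv, hβ₀, hε₁, hε₂, H1, H2, ?_⟩
    intro β₁ hβ₁
    obtain ⟨n, kk, hn, hkk, hsum⟩ := hprod χ (isCharacter_of_irr hχ) β₁ hβ₁
    have hsplit := (Finset.add_sum_erase Finset.univ (fun ψ : Cfsg.IrrCharacter D => n ψ * kk ψ)
      (Finset.mem_univ (⟨ψ₀, hψ₀⟩ : Cfsg.IrrCharacter D))).symm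
    have hrest : (p : ℤ) ∣ ((∑ ψ ∈ Finset.univ.erase (⟨ψ₀, hψ₀⟩ : Cfsg.IrrCharacter D),
        n ψ * kk ψ : ℕ) : ℤ) := by
      push_cast
      apply Finset.dvd_sum
      intro ψ hψ
      have hne : ψ ≠ ⟨ψ₀, hψ₀⟩ := (Finset.mem_erase.1 hψ).1
      obtain ⟨n', hn', -, hdvd⟩ := H1 ψ.1 ψ.2
      have h5 : n' = n ψ := by exact_mod_cast hn'.symm.trans (hn ψ)
      have h3 : (p : ℤ) ∣ (n ψ : ℤ) := h5 ▸ hdvd (fun h => hne (Subtype.ext h))
      exact Dvd.dvd.mul_right h3 _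
    have hn₀ : (n ⟨ψ₀, hψ₀⟩ : ℤ) ≡ ε₁ [ZMOD p] := by
      obtain ⟨n', hn', hmod, -⟩ := H1 ψ₀ hψ₀
      have h5 : n' = n ⟨ψ₀, hψ₀⟩ := by exact_mod_cast hn'.symm.trans (hn ⟨ψ₀, hψ₀⟩)
      exact h5 ▸ hmod rfl
    refine ⟨∑ ψ, n ψ * kk ψ, hsum, ?_, ?_⟩
    · intro heq
      obtain ⟨k', hk', hmod, -⟩ := H2 β₁ hβ₁
      have h5 : k' = kk ⟨ψ₀, hψ₀⟩ := by exact_mod_cast hk'.symm.trans (hkk ⟨ψ₀, hψ₀⟩)
      have hk₀ : (kk ⟨ψ₀, hψ₀⟩ : ℤ) ≡ ε₂ [ZMOD p] := h5 ▸ hmod heq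
      rw [hsplit]
      have h6 := (hn₀.mul hk₀).add ((Int.modEq_zero_iff_dvd).2 hrest)
      rw [add_zero] at h6
      push_cast at h6 ⊢
      exact h6
    · intro hne
      obtain ⟨k', hk', -, hdvd⟩ := H2 β₁ hβ₁
      have h5 : k' = kk ⟨ψ₀, hψ₀⟩ := by exact_mod_cast hk'.symm.trans (hkk ⟨ψ₀, hψ₀⟩)
      have hk₀ : (p : ℤ) ∣ (kk ⟨ψ₀, hψ₀⟩ : ℤ) := h5 ▸ hdvd hne
      rw [hsplit]
      push_cast at hrest ⊢
      exact dvd_add (Dvd.dvd.mul_left hk₀ _) hrest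
  refine ⟨?_, ?_, ?_⟩
  · rintro χ hχ ⟨hI, hinv⟩
    obtain ⟨ψ₀, β₀, ε₁, ε₂, hψ₀, hψ₀inv, hβ₀, hε₁, hε₂, H1, H2, H3⟩ := key χ hχ hI hinv
    exact ⟨β₀, ε₁ * ε₂, hβ₀, sign_mul_sign hε₁ hε₂, H3⟩
  · rintro χ χ' hχ hχ' ⟨hI, hinv⟩ ⟨hI', hinv'⟩ β hβ m m' hm hpm hm' hpm'
    obtain ⟨ψ₀, β₀, ε₁, ε₂, hψ₀, hψ₀inv, hβ₀, hε₁, hε₂, H1, H2, H3⟩ := key χ hχ hI hinv
    obtain ⟨ψ₀', β₀', ε₁', ε₂', hψ₀', hψ₀inv', hβ₀', hε₁', hε₂', H1', H2', H3'⟩ :=
      key χ' hχ' hI' hinv'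
    have e1 : β = β₀ := by
      by_contra hne
      obtain ⟨m₁, hm₁, -, hdvd⟩ := H3 β hβ
      have h5 : m₁ = m := by exact_mod_cast hm₁.symm.trans hm
      exact hpm (h5 ▸ Int.natCast_dvd_natCast.1 (hdvd hne))
    have e2 : β = β₀' := by
      by_contra hne
      obtain ⟨m₁, hm₁, -, hdvd⟩ := H3' β hβ
      have h5 : m₁ = m' := by exact_mod_cast hm₁.symm.trans hm'
      exact hpm' (h5 ▸ Int.natCast_dvd_natCast.1 (hdvd hne))
    obtain ⟨k, hk, hkmod, -⟩ := H2 β hβ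
    obtain ⟨k', hk', hkmod', -⟩ := H2' β hβ
    have e3 : ψ₀ = ψ₀' := h2b ψ₀ ψ₀' hψ₀ hψ₀' hψ₀inv hψ₀inv' β hβ k k' hk
      (not_dvd_of_modEq_sign hp hε₂ (hkmod e1)) hk' (not_dvd_of_modEq_sign hp hε₂' (hkmod' e2))
    obtain ⟨n, hn, hnmod, -⟩ := H1 ψ₀ hψ₀
    obtain ⟨n', hn', hnmod', -⟩ := H1' ψ₀ hψ₀
    exact h1b χ χ' hχ hχ' hI hI' ψ₀ hψ₀ n n' hn (not_dvd_of_modEq_sign hp hε₁ (hnmod rfl)) hn'
      (not_dvd_of_modEq_sign hp hε₁' (hnmod' e3))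
  · intro β hβ
    obtain ⟨ψ, hψ, hψinv, k, hk, hpk⟩ := h2c β hβ
    obtain ⟨χ, hχ, hI, n, hn, hpn⟩ := h1c ψ hψ
    have hinv : ∀ g, χ (aG g) = χ g := by
      have hχ' : Cfsg.IsIrrCharacter G (fun g => χ (aG g)) :=
        Cfsg.Agent.Lib.Helper80.isIrrCharacter_comp_mulEquiv aG hχ
      have hn' : Cfsg.classInner (fun d => χ (aG (ι₁ d))) ψ = (n : ℂ) := by
        have e : (fun d => ψ (aD d)) = ψ := funext hψinv
        have h3 := htw χ ψ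
        rw [e] at h3
        rw [h3]
        exact hn
      have h4 := h1b χ (fun g => χ (aG g)) hχ hχ' hI (hT χ hχ hI) ψ hψ n n hn hpn hn' hpn
      exact fun g => (congrFun h4 g).symm
    obtain ⟨ψ₀, β₀, ε₁, ε₂, hψ₀, hψ₀inv, hβ₀, hε₁, hε₂, H1, H2, H3⟩ := key χ hχ hI hinv
    have e1 : ψ = ψ₀ := by
      by_contra hne
      obtain ⟨n₁, hn₁, -, hdvd⟩ := H1 ψ hψ
      have h5 : n₁ = n := by exact_mod_cast hn₁.symm.trans hn
      exact hpn (h5 ▸ Int.natCast_dvd_natCast.1 (hdvd hne))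
    have e2 : β = β₀ := by
      by_contra hne
      obtain ⟨k₁, hk₁, -, hdvd⟩ := H2 β hβ
      rw [e1] at hk
      have h5 : k₁ = k := by exact_mod_cast hk₁.symm.trans hk
      exact hpk (h5 ▸ Int.natCast_dvd_natCast.1 (hdvd hne))
    obtain ⟨m, hm, hmod, -⟩ := H3 β hβ
    exact ⟨χ, hχ, ⟨hI, hinv⟩, m, hm, not_dvd_of_modEq_sign hp (sign_mul_sign hε₁ hε₂) (hmod e2)⟩

end GlaubComp

end Cfsg.Agent.Lib.Helper75
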