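import Mathlib
import Cfsg.Prelude.Def_Characters
import Cfsg.Prelude.Def_Blocks
import Cfsg.Prelude.Def_CharExt
import Cfsg.Agent.Lib.Helper3.CharValues
import Cfsg.Agent.Lib.Helper80.CharKer
import Cfsg.Agent.Lib.Helper75.Glaub4
import Cfsg.Agent.Lib.Helper75.Glaub5
import Cfsg.Agent.Lib.Helper75.Glaub6

/-!
# The Glauberman correspondence for `p`-groups of operators: the induction
-/

set_option autoImplicit false
set_option linter.style.haveILetI false

namespace Cfsg.Agent.Lib.Helper75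

open Representation Module
open Cfsg.Agent.Lib.Helper3
open scoped ComplexConjugate

universe u

section GlaubSub

variable {Γ : Type u} [Group Γ]

/-- conjugation by a normalising element, as an automorphism of the subgroup -/
def conjNormalizer (G : Subgroup Γ) (s : Γ) (hs : s ∈ Subgroup.normalizer (G : Set Γ)) :
    G ≃* G where
  toFun g := ⟨s * g * s⁻¹, (Subgroup.mem_normalizer_iff.1 hs g).1 g.2⟩
  invFun g := ⟨s⁻¹ * g * s, by
    apply (Subgroup.mem_normalizer_iff.1 hs (s⁻¹ * g * s)).2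
    have e : s * (s⁻¹ * (g : Γ) * s) * s⁻¹ = g := by group
    rw [e]
    exact g.2⟩
  left_inv g := Subtype.ext (by
    show s⁻¹ * (s * (g : Γ) * s⁻¹) * s = g
    group)
  right_inv g := Subtype.ext (by
    show s * (s⁻¹ * (g : Γ) * s) * s⁻¹ = g
    group)
  map_mul' a b := Subtype.ext (by
    show s * ((a : Γ) * b) * s⁻¹ = s * a * s⁻¹ * (s * b * s⁻¹)
    group)

theorem conjNormalizer_coe (G : Subgroup Γ) (s : Γ) (hs : s ∈ Subgroup.normalizer (G : Set Γ))
    (g : G) : ((conjNormalizer G s hs g : G) : Γ) = s * g * s⁻¹ := rfl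

/-- `S`-invariance of a function on the subgroup `G` -/
def InvS (G S : Subgroup Γ) (χ : G → ℂ) : Prop :=
  ∀ s ∈ S, ∀ g g' : G, (g' : Γ) = s * g * s⁻¹ → χ g' = χ g

theorem le_normalizer_of_conj_mem (G S : Subgroup Γ)
    (hnorm : ∀ s ∈ S, ∀ g ∈ G, s * g * s⁻¹ ∈ G) : S ≤ Subgroup.normalizer (G : Set Γ) := by
  intro s hs
  rw [Subgroup.mem_normalizer_iff]
  intro g
  constructor
  · exact hnorm s hs g
  · intro h
    have h2 := hnorm s⁻¹ (S.inv_mem hs) _ h
    have e : s⁻¹ * (s * g * s⁻¹) * s⁻¹⁻¹ = g := by group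
    rwa [e] at h2

/-- invariance under `T` and under `s` gives invariance under any `S ≤ ⟨T, s⟩` -/
theorem invS_of_sup (G S T : Subgroup Γ) (s : Γ) (hTG : T ≤ Subgroup.normalizer (G : Set Γ))
    (hs : s ∈ Subgroup.normalizer (G : Set Γ)) (hS : S ≤ T ⊔ Subgroup.zpowers s) (χ : G → ℂ)
    (h1 : InvS G T χ) (h2 : ∀ g, χ (conjNormalizer G s hs g) = χ g) : InvS G S χ := by
  let Stab : Subgroup Γ :=
    { carrier := {x | x ∈ Subgroup.normalizer (G : Set Γ) ∧
        ∀ g g' : G, (g' : Γ) = x * g * x⁻¹ → χ g' = χ g}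
      mul_mem' := by
        rintro x y ⟨hx, Hx⟩ ⟨hy, Hy⟩
        refine ⟨Subgroup.mul_mem _ hx hy, ?_⟩
        intro g g' hg'
        have h3 := Hy g ⟨y * g * y⁻¹, (Subgroup.mem_normalizer_iff.1 hy g).1 g.2⟩ rfl
        rw [← h3]
        apply Hx
        rw [hg']
        group
      one_mem' := by
        refine ⟨Subgroup.one_mem _, ?_⟩
        intro g g' hg'
        have e : g' = g := Subtype.ext (by rw [hg']; group)
        rw [e]
      inv_mem' := by
        rintro x ⟨hx, Hx⟩
        refine ⟨Subgroup.inv_mem _ hx, ?_⟩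
        intro g g' hg'
        symm
        apply Hx
        rw [hg']
        group }
  have hT : T ≤ Stab := fun t ht => ⟨hTG ht, h1 t ht⟩
  have hsS : s ∈ Stab := by
    refine ⟨hs, ?_⟩
    intro g g' hg'
    have e : g' = conjNormalizer G s hs g := Subtype.ext hg'
    rw [e]
    exact h2 g
  have hle : S ≤ Stab := hS.trans (sup_le hT ((Subgroup.zpowers_le).2 hsS))
  intro x hx
  exact (hle hx).2

end GlaubSub

section GlaubSub2

variable {Γ : Type u} [Group Γ] [Finite Γ]

/-- the cyclic `p`-case for a subgroup `D` normalised by `s` (no normality in the ambient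
group needed) -/
theorem glaubCorr_cyclic_sub (D : Subgroup Γ) (s : Γ)
    (hs : s ∈ Subgroup.normalizer (D : Set Γ)) (p : ℕ) (hp : p.Prime) (k : ℕ)
    (hk : orderOf s = p ^ k) (hcop : (Nat.card D).Coprime p) (C : Subgroup Γ)
    (hC : ∀ c, c ∈ C ↔ c ∈ D ∧ c * s = s * c) (hCD : C ≤ D) [Fintype C] :
    GlaubCorr p (Subgroup.inclusion hCD)
      (fun ψ : D → ℂ => ∀ d, ψ (conjNormalizer D s hs d) = ψ d) := by
  classical
  set K : Subgroup Γ := D ⊔ Subgroup.zpowers s with hK
  have hDK : D ≤ K := le_sup_left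
  have hsK : s ∈ K := (le_sup_right : Subgroup.zpowers s ≤ K) (Subgroup.mem_zpowers s)
  have hCK : C ≤ K := hCD.trans hDK
  have hKN : K ≤ Subgroup.normalizer (D : Set Γ) :=
    sup_le Subgroup.le_normalizer ((Subgroup.zpowers_le).2 hs)
  haveI : (D.subgroupOf K).Normal := (Subgroup.normal_subgroupOf_iff_le_normalizer hDK).2 hKN
  letI : Fintype K := Fintype.ofFinite _
  letI : Fintype (D.subgroupOf K) := Fintype.ofFinite _
  letI : Fintype (C.subgroupOf K) := Fintype.ofFinite _
  have hord : orderOf (⟨s, hsK⟩ : K) = orderOf s := Subgroup.orderOf_mk s hsK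
  have hcard : Nat.card (D.subgroupOf K) = Nat.card D :=
    Nat.card_congr (Subgroup.subgroupOfEquivOfLe hDK).toEquiv
  have hcop' : (Nat.card (D.subgroupOf K)).Coprime (orderOf (⟨s, hsK⟩ : K)) := by
    rw [hcard, hord, hk]
    exact Nat.Coprime.pow_right k hcop
  have htop' : D.subgroupOf K ⊔ Subgroup.zpowers (⟨s, hsK⟩ : K) = ⊤ := by
    apply Subgroup.map_injective K.subtype_injective
    rw [Subgroup.map_sup, Subgroup.subgroupOf_map_subtype, MonoidHom.map_zpowers,
      ← MonoidHom.range_eq_map, Subgroup.range_subtype, inf_of_le_left hDK]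
    rfl
  have hC' : ∀ c : K, c ∈ C.subgroupOf K ↔
      c ∈ D.subgroupOf K ∧ c * (⟨s, hsK⟩ : K) = (⟨s, hsK⟩ : K) * c := by
    intro c
    rw [Subgroup.mem_subgroupOf, Subgroup.mem_subgroupOf, hC]
    constructor
    · rintro ⟨h1, h2⟩
      exact ⟨h1, Subtype.ext h2⟩
    · rintro ⟨h1, h2⟩
      exact ⟨h1, congrArg Subtype.val h2⟩
  have hC'G' : C.subgroupOf K ≤ D.subgroupOf K := fun c hc => ((hC' c).1 hc).1
  have h := glaubCorr_cyclic (D.subgroupOf K) (⟨s, hsK⟩ : K) hcop' htop' (C.subgroupOf K) hC' p hp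
    k (hord.trans hk) hC'G'
  refine GlaubCorr.transport (Subgroup.subgroupOfEquivOfLe hDK) (Subgroup.subgroupOfEquivOfLe hCK)
    ?_ ?_ ?_ h
  · intro c'
    rfl
  · intro ψ hψ g
    have e : Subgroup.subgroupOfEquivOfLe hDK (MulAut.conjNormal (⟨s, hsK⟩ : K) g) =
        conjNormalizer D s hs (Subgroup.subgroupOfEquivOfLe hDK g) := Subtype.ext rfl
    show ψ (Subgroup.subgroupOfEquivOfLe hDK (MulAut.conjNormal (⟨s, hsK⟩ : K) g)) =
      ψ (Subgroup.subgroupOfEquivOfLe hDK g)
    rw [e]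
    exact hψ _
  · intro ψ' hψ' d
    have e : (Subgroup.subgroupOfEquivOfLe hDK).symm (conjNormalizer D s hs d) =
        MulAut.conjNormal (⟨s, hsK⟩ : K) ((Subgroup.subgroupOfEquivOfLe hDK).symm d) :=
      Subtype.ext (Subtype.ext rfl)
    show ψ' ((Subgroup.subgroupOfEquivOfLe hDK).symm (conjNormalizer D s hs d)) =
      ψ' ((Subgroup.subgroupOfEquivOfLe hDK).symm d)
    rw [e]
    exact hψ' _

/-- a nontrivial `p`-subgroup `S` has a proper subgroup `T`, normal in `S`, and an element `s`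
with `S = ⟨T, s⟩` -/
theorem exists_maximal_normal_of_pgroup (p : ℕ) (hp : p.Prime) (S : Subgroup Γ)
    (hS : IsPGroup p S) (hne : S ≠ ⊥) :
    ∃ (T : Subgroup Γ) (s : Γ), T ≤ S ∧ Nat.card T < Nat.card S ∧ s ∈ S ∧
      (∀ x ∈ S, ∀ t ∈ T, x * t * x⁻¹ ∈ T) ∧ S ≤ T ⊔ Subgroup.zpowers s := by
  haveI : Fact p.Prime := ⟨hp⟩
  haveI : Nontrivial S := (Subgroup.nontrivial_iff_ne_bot S).2 hne
  haveI : Group.IsNilpotent S := hS.isNilpotent
  obtain ⟨T', hT'⟩ : ∃ T' : Subgroup S, IsCoatom T' := by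
    rcases eq_top_or_exists_le_coatom (⊥ : Subgroup S) with h | ⟨T', hT', -⟩
    · exact absurd h bot_ne_top
    · exact ⟨T', hT'⟩
  have hnorm : T'.Normal :=
    Subgroup.NormalizerCondition.normal_of_coatom T' Group.normalizerCondition_of_isNilpotent hT'
  obtain ⟨s', hs'⟩ : ∃ s' : S, s' ∉ T' := by
    by_contra hcon
    exact hT'.1 (eq_top_iff.2 (fun x _ => by
      by_contra hx
      exact hcon ⟨x, hx⟩))
  have hsup : T' ⊔ Subgroup.zpowers s' = ⊤ := by
    apply hT'.2
    apply lt_of_le_of_ne le_sup_left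
    intro h
    apply hs'
    rw [h]
    exact (le_sup_right : Subgroup.zpowers s' ≤ _) (Subgroup.mem_zpowers s')
  refine ⟨T'.map S.subtype, s', Subgroup.map_subtype_le T', ?_, s'.2, ?_, ?_⟩
  · rw [Subgroup.card_map_of_injective S.subtype_injective]
    exact lt_of_le_of_ne (Subgroup.card_le_card_group T')
      (fun h => hT'.1 ((Subgroup.card_eq_iff_eq_top T').1 h))
  · rintro x hx t ⟨t', ht', rfl⟩
    exact ⟨⟨x, hx⟩ * t' * ⟨x, hx⟩⁻¹, hnorm.conj_mem t' ht' ⟨x, hx⟩, rfl⟩
  · intro x hx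
    have h1 : (⟨x, hx⟩ : S) ∈ T' ⊔ Subgroup.zpowers s' := by
      rw [hsup]
      trivial
    have h2 := Subgroup.mem_map_of_mem S.subtype h1
    rw [Subgroup.map_sup, MonoidHom.map_zpowers] at h2
    exact h2

end GlaubSub2

section GlaubInd

variable {Γ : Type u} [Group Γ] [Finite Γ]

omit [Finite Γ] in
/-- the case of a trivial group of operators -/
theorem glaubCorr_bot (G : Subgroup Γ) (p : ℕ) (hp : p.Prime) (C : Subgroup Γ)
    (hC : C = G ⊓ Subgroup.centralizer ((⊥ : Subgroup Γ) : Set Γ)) (hCG : C ≤ G) [Fintype C] :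
    GlaubCorr p (Subgroup.inclusion hCG) (InvS G ⊥) := by
  apply GlaubCorr.of_bijective hp
  · constructor
    · exact Subgroup.inclusion_injective hCG
    · intro g
      have hg : (g : Γ) ∈ C := by
        rw [hC, Subgroup.mem_inf, Subgroup.mem_centralizer_iff]
        refine ⟨g.2, ?_⟩
        intro h hh
        have h1 : h = 1 := Subgroup.mem_bot.1 hh
        rw [h1, one_mul, mul_one]
      exact ⟨⟨g, hg⟩, Subtype.ext rfl⟩
  · intro χ _ s hs g g' hg'
    have h1 : s = 1 := Subgroup.mem_bot.1 hs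
    have e : g' = g := Subtype.ext (by rw [hg', h1]; group)
    rw [e]

/-- **the Glauberman correspondence for a `p`-group of operators**, by induction on its order -/
theorem glaubCorr_pgroup (G : Subgroup Γ) (p : ℕ) (hp : p.Prime) (hcop : (Nat.card G).Coprime p) :
    ∀ (n : ℕ) (S : Subgroup Γ), Nat.card S = n → IsPGroup p S →
      (∀ s ∈ S, ∀ g ∈ G, s * g * s⁻¹ ∈ G) →
      ∀ (C : Subgroup Γ) (_ : C = G ⊓ Subgroup.centralizer (S : Set Γ)) (hCG : C ≤ G)
        [Fintype C], GlaubCorr p (Subgroup.inclusion hCG) (InvS G S) := by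
  intro n
  induction n using Nat.strong_induction_on with
  | _ n ih =>
  intro S hn hS hnorm C hC hCG _
  by_cases hbot : S = ⊥
  · subst hbot
    exact glaubCorr_bot G p hp C hC hCG
  · obtain ⟨T, s, hTS, hcard, hsS, hTnorm, hSle⟩ :=
      exists_maximal_normal_of_pgroup p hp S hS hbot
    have hSN : S ≤ Subgroup.normalizer (G : Set Γ) := le_normalizer_of_conj_mem G S hnorm
    have hsN : s ∈ Subgroup.normalizer (G : Set Γ) := hSN hsS
    have hTN : T ≤ Subgroup.normalizer (G : Set Γ) := hTS.trans hSN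
    set D : Subgroup Γ := G ⊓ Subgroup.centralizer (T : Set Γ) with hD
    have hDG : D ≤ G := inf_le_left
    have hCD : C ≤ D := by
      rw [hC, hD]
      exact inf_le_inf_left G (Subgroup.centralizer_le hTS)
    classical
    letI : Fintype D := Fintype.ofFinite _
    have ih1 := ih (Nat.card T) (hn ▸ hcard) T rfl (hS.to_le hTS)
      (fun t ht => hnorm t (hTS ht)) D rfl hDG
    have hsD : s ∈ Subgroup.normalizer (D : Set Γ) := by
      rw [Subgroup.mem_normalizer_iff]
      intro d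
      rw [hD, Subgroup.mem_inf, Subgroup.mem_inf, ← Subgroup.mem_normalizer_iff.1 hsN d]
      have e : d ∈ Subgroup.centralizer (T : Set Γ) ↔
          s * d * s⁻¹ ∈ Subgroup.centralizer (T : Set Γ) := by
        rw [Subgroup.mem_centralizer_iff, Subgroup.mem_centralizer_iff]
        constructor
        · intro h t ht
          have h1 : s⁻¹ * t * s ∈ T := by
            have h2 := hTnorm s⁻¹ (S.inv_mem hsS) t ht
            rwa [inv_inv] at h2
          have h3 := h _ h1
          calc t * (s * d * s⁻¹) = s * (s⁻¹ * t * s * d) * s⁻¹ := by group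
            _ = s * (d * (s⁻¹ * t * s)) * s⁻¹ := by rw [h3]
            _ = s * d * s⁻¹ * t := by group
        · intro h t ht
          have h1 : s * t * s⁻¹ ∈ T := hTnorm s hsS t ht
          have h3 := h _ h1
          have h4 : s * (t * d) * s⁻¹ = s * (d * t) * s⁻¹ := by
            calc s * (t * d) * s⁻¹ = s * t * s⁻¹ * (s * d * s⁻¹) := by group
              _ = s * d * s⁻¹ * (s * t * s⁻¹) := h3
              _ = s * (d * t) * s⁻¹ := by group
          exact mul_left_cancel (mul_right_cancel h4)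
      rw [e]
    obtain ⟨k, hk⟩ : ∃ k, orderOf s = p ^ k := by
      haveI : Fact p.Prime := ⟨hp⟩
      obtain ⟨k, hk⟩ := (IsPGroup.iff_orderOf.1 hS) ⟨s, hsS⟩
      exact ⟨k, by rw [← hk, Subgroup.orderOf_mk]⟩
    have hcopD : (Nat.card D).Coprime p :=
      Nat.Coprime.coprime_dvd_left (Subgroup.card_dvd_of_le hDG) hcop
    have hC' : ∀ c, c ∈ C ↔ c ∈ D ∧ c * s = s * c := by
      intro c
      rw [hC, hD, Subgroup.mem_inf, Subgroup.mem_inf]
      constructor
      · rintro ⟨h1, h2⟩
        exact ⟨⟨h1, Subgroup.centralizer_le hTS h2⟩,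
          ((Subgroup.mem_centralizer_iff.1 h2) s hsS).symm⟩
      · rintro ⟨⟨h1, h2⟩, h3⟩
        refine ⟨h1, ?_⟩
        rw [Subgroup.mem_centralizer_iff]
        have hT1 : T ≤ Subgroup.centralizer ({c} : Set Γ) := by
          intro t ht
          rw [Subgroup.mem_centralizer_singleton_iff]
          exact (Subgroup.mem_centralizer_iff.1 h2) t ht
        have hs1 : s ∈ Subgroup.centralizer ({c} : Set Γ) := by
          rw [Subgroup.mem_centralizer_singleton_iff]
          exact h3.symm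
        have hS1 : S ≤ Subgroup.centralizer ({c} : Set Γ) :=
          hSle.trans (sup_le hT1 ((Subgroup.zpowers_le).2 hs1))
        intro x hx
        exact Subgroup.mem_centralizer_singleton_iff.1 (hS1 hx)
    have h2 := glaubCorr_cyclic_sub D s hsD p hp k hk hcopD C hC' hCD
    have hTtw : ∀ χ : G → ℂ, Cfsg.IsIrrCharacter G χ → InvS G T χ →
        InvS G T (fun g => χ (conjNormalizer G s hsN g)) := by
      intro χ _ h t ht g g' hg'
      show χ (conjNormalizer G s hsN g') = χ (conjNormalizer G s hsN g)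
      apply h (s * t * s⁻¹) (hTnorm s hsS t ht)
      show s * (g' : Γ) * s⁻¹ = (s * t * s⁻¹) * (s * g * s⁻¹) * (s * t * s⁻¹)⁻¹
      rw [hg']
      group
    have h3 := GlaubCorr.comp hp (conjNormalizer G s hsN) (conjNormalizer D s hsD)
      (fun d => Subtype.ext rfl) hTtw ih1 h2
    refine GlaubCorr.congr (fun c => rfl) (fun χ => ?_) h3
    constructor
    · rintro ⟨h4, h5⟩
      exact invS_of_sup G S T s hTN hsN hSle χ h4 h5
    · intro h
      exact ⟨fun t ht => h t (hTS ht), fun g => h s hsS g _ rfl⟩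

/-- **the Glauberman correspondence for a `p`-group of operators** -/
theorem glauberman_pgroup (G S : Subgroup Γ) (hnorm : ∀ s ∈ S, ∀ g ∈ G, s * g * s⁻¹ ∈ G)
    (hcop : (Nat.card G).Coprime (Nat.card S)) (p : ℕ) (hp : p.Prime) (hS : IsPGroup p S)
    (C : Subgroup Γ) [Fintype C] (hC : C = G ⊓ Subgroup.centralizer (S : Set Γ)) (hCG : C ≤ G) :
    GlaubCorr p (Subgroup.inclusion hCG) (InvS G S) := by
  by_cases hbot : S = ⊥
  · subst hbot
    exact glaubCorr_bot G p hp C hC hCG
  · haveI : Fact p.Prime := ⟨hp⟩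
    obtain ⟨n, hn⟩ := IsPGroup.iff_card.1 hS
    have hn0 : n ≠ 0 := by
      rintro rfl
      rw [pow_zero] at hn
      exact hbot (Subgroup.card_eq_one.1 hn)
    have hdvd : p ∣ Nat.card S := by
      rw [hn]
      exact dvd_pow_self p hn0
    exact glaubCorr_pgroup G p hp (Nat.Coprime.coprime_dvd_right hdvd hcop) _ S rfl hS hnorm C hC
      hCG

end GlaubInd

end Cfsg.Agent.Lib.Helper75
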