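import Mathlib
import Cfsg.Prelude.Def_Characters
import Cfsg.Prelude.Def_Blocks
import Cfsg.Prelude.Def_CharExt
import Cfsg.Agent.Lib.Helper1.SZInternal
import Cfsg.Agent.Lib.Helper3.CharValues
import Cfsg.Agent.Lib.Helper80.CharKer
import Cfsg.Agent.Lib.Helper75.Glaub5
import Cfsg.Agent.Lib.Helper75.Glaub6
import Cfsg.Agent.Lib.Helper75.Glaub7

/-!
# The Glauberman correspondence for solvable groups of operators: counting

For `S` solvable normalising `G` with coprime orders there is a bijection, equivariant under the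
normaliser of `G` and `S`, between the `S`-invariant irreducible characters of `G` and the
irreducible characters of `C_G(S)`.
-/

set_option autoImplicit false
set_option linter.style.haveILetI false

namespace Cfsg.Agent.Lib.Helper75

open Representation Module
open Cfsg.Agent.Lib.Helper3
open scoped ComplexConjugate

universe u

section SolvStruct

variable {Γ : Type u} [Group Γ]

/-- a nontrivial solvable subgroup `S` has a proper subgroup `T`, normalised by the normaliser of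
`S`, and a `p`-subgroup `P` with `S = T P` -/
theorem exists_char_sub_pgroup [Finite Γ] (S : Subgroup Γ) (hsolv : Group.IsSolvable S)
    (hne : S ≠ ⊥) :
    ∃ (p : ℕ) (T P : Subgroup Γ), p.Prime ∧ T ≤ S ∧ Nat.card T < Nat.card S ∧ P ≤ S ∧
      IsPGroup p P ∧ S ≤ T ⊔ P ∧
      ∀ x ∈ Subgroup.normalizer (S : Set Γ), x ∈ Subgroup.normalizer (T : Set Γ) := by
  classical
  haveI : Nontrivial S := (Subgroup.nontrivial_iff_ne_bot S).2 hne
  have hlt : commutator S < ⊤ := Group.IsSolvable.commutator_lt_top_of_nontrivial S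
  have hA1 : Nat.card (Abelianization S) ≠ 1 := by
    intro h
    have h1 : (commutator S).index = 1 := h
    exact hlt.ne (Subgroup.index_eq_one.1 h1)
  obtain ⟨p, hp, hpA⟩ := Nat.exists_prime_and_dvd hA1
  haveI : Fact p.Prime := ⟨hp⟩
  set m := ordCompl[p] (Nat.card (Abelianization S)) with hm
  let ψ : S →* Abelianization S := (powMonoidHom m).comp Abelianization.of
  have hψ : ∀ x, ψ x = Abelianization.of x ^ m := fun x => rfl
  obtain ⟨a, ha⟩ := exists_prime_orderOf_dvd_card' p hpA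
  obtain ⟨s₀, hs₀a⟩ := QuotientGroup.mk_surjective a
  have hs₀ : s₀ ∉ ψ.ker := by
    intro h
    have h1 : a ^ m = 1 := by
      rw [← hs₀a]
      exact MonoidHom.mem_ker.1 h
    have h2 := orderOf_dvd_of_pow_eq_one h1
    rw [ha] at h2
    exact Nat.not_dvd_ordCompl hp (Nat.card_pos.ne') h2
  have hker : ψ.ker ≠ ⊤ := fun h => hs₀ (by rw [h]; trivial)
  have hrange : IsPGroup p ψ.range := by
    rintro ⟨y, x, rfl⟩
    refine ⟨(Nat.card (Abelianization S)).factorization p, ?_⟩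
    apply Subtype.ext
    show ψ x ^ p ^ (Nat.card (Abelianization S)).factorization p = 1
    rw [hψ, ← pow_mul, hm, mul_comm, Nat.ordProj_mul_ordCompl_eq_self]
    exact pow_card_eq_one'
  obtain ⟨k, hk⟩ := IsPGroup.iff_card.1 hrange
  have hidx : ψ.ker.index = p ^ k := by rw [Subgroup.index_ker, hk]
  obtain ⟨P'⟩ := Sylow.nonempty (p := p) (G := S)
  have hsup : ψ.ker ⊔ (P' : Subgroup S) = ⊤ := by
    apply Subgroup.index_eq_one.1
    have h1 : (ψ.ker ⊔ (P' : Subgroup S)).index ∣ ψ.ker.index :=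
      Subgroup.index_dvd_of_le le_sup_left
    have h2 : (ψ.ker ⊔ (P' : Subgroup S)).index ∣ (P' : Subgroup S).index :=
      Subgroup.index_dvd_of_le le_sup_right
    rw [hidx] at h1
    obtain ⟨j, hj, hj2⟩ := (Nat.dvd_prime_pow hp).1 h1
    by_contra hne1
    have h3 : p ∣ (ψ.ker ⊔ (P' : Subgroup S)).index := by
      rw [hj2]
      apply dvd_pow_self p
      rintro rfl
      exact hne1 (by rw [hj2, pow_zero])
    exact P'.not_dvd_index (h3.trans h2)
  have key : ∀ (x : Γ) (hx : x ∈ Subgroup.normalizer (S : Set Γ)) (t : S), t ∈ ψ.ker →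
      conjNormalizer S x hx t ∈ ψ.ker := by
    intro x hx t ht
    have h1 : Abelianization.of t ^ m = 1 := MonoidHom.mem_ker.1 ht
    apply MonoidHom.mem_ker.2
    show Abelianization.of (conjNormalizer S x hx t) ^ m = 1
    have h2 : Abelianization.of (conjNormalizer S x hx t) =
        Abelianization.map (conjNormalizer S x hx).toMonoidHom (Abelianization.of t) :=
      (Abelianization.map_of (conjNormalizer S x hx).toMonoidHom t).symm
    rw [h2, ← map_pow, h1, map_one]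
  refine ⟨p, ψ.ker.map S.subtype, (P' : Subgroup S).map S.subtype, hp,
    Subgroup.map_subtype_le _, ?_, Subgroup.map_subtype_le _, ?_, ?_, ?_⟩
  · rw [Subgroup.card_map_of_injective S.subtype_injective]
    exact lt_of_le_of_ne (Subgroup.card_le_card_group _)
      (fun h => hker ((Subgroup.card_eq_iff_eq_top _).1 h))
  · exact P'.isPGroup'.map S.subtype
  · intro x hx
    have h1 : (⟨x, hx⟩ : S) ∈ ψ.ker ⊔ (P' : Subgroup S) := by
      rw [hsup]
      trivial
    have h2 := Subgroup.mem_map_of_mem S.subtype h1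
    rw [Subgroup.map_sup] at h2
    exact h2
  · intro x hx
    rw [Subgroup.mem_normalizer_iff]
    intro y
    constructor
    · rintro ⟨t, ht, rfl⟩
      exact ⟨conjNormalizer S x hx t, key x hx t ht, rfl⟩
    · rintro ⟨t, ht, htx⟩
      have hx' : x⁻¹ ∈ Subgroup.normalizer (S : Set Γ) := Subgroup.inv_mem _ hx
      refine ⟨conjNormalizer S x⁻¹ hx' t, key x⁻¹ hx' t ht, ?_⟩
      show x⁻¹ * (t : Γ) * x⁻¹⁻¹ = y
      have htx' : (t : Γ) = x * y * x⁻¹ := htx
      rw [htx']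
      group

end SolvStruct

section SolvAux

variable {Γ : Type u} [Group Γ]

theorem mem_normalizer_inf_centralizer {G T : Subgroup Γ} {x : Γ}
    (hxG : x ∈ Subgroup.normalizer (G : Set Γ)) (hxT : x ∈ Subgroup.normalizer (T : Set Γ)) :
    x ∈ Subgroup.normalizer ((G ⊓ Subgroup.centralizer (T : Set Γ) : Subgroup Γ) : Set Γ) := by
  rw [Subgroup.mem_normalizer_iff]
  intro d
  rw [Subgroup.mem_inf, Subgroup.mem_inf, ← Subgroup.mem_normalizer_iff.1 hxG d]
  have e : d ∈ Subgroup.centralizer (T : Set Γ) ↔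
      x * d * x⁻¹ ∈ Subgroup.centralizer (T : Set Γ) := by
    rw [Subgroup.mem_centralizer_iff, Subgroup.mem_centralizer_iff]
    constructor
    · intro h t ht
      have h1 : x⁻¹ * t * x ∈ T := by
        apply (Subgroup.mem_normalizer_iff.1 hxT (x⁻¹ * t * x)).2
        have e1 : x * (x⁻¹ * t * x) * x⁻¹ = t := by group
        rw [e1]
        exact ht
      have h3 := h _ h1
      calc t * (x * d * x⁻¹) = x * (x⁻¹ * t * x * d) * x⁻¹ := by group
        _ = x * (d * (x⁻¹ * t * x)) * x⁻¹ := by rw [h3]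
        _ = x * d * x⁻¹ * t := by group
    · intro h t ht
      have h1 : x * t * x⁻¹ ∈ T := (Subgroup.mem_normalizer_iff.1 hxT t).1 ht
      have h3 := h _ h1
      have h4 : x * (t * d) * x⁻¹ = x * (d * t) * x⁻¹ := by
        calc x * (t * d) * x⁻¹ = x * t * x⁻¹ * (x * d * x⁻¹) := by group
          _ = x * d * x⁻¹ * (x * t * x⁻¹) := h3
          _ = x * (d * t) * x⁻¹ := by group
      exact mul_left_cancel (mul_right_cancel h4)
  rw [e]

theorem invS_mono {G S T : Subgroup Γ} (h : T ≤ S) {χ : G → ℂ} (hχ : InvS G S χ) :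
    InvS G T χ := fun t ht => hχ t (h ht)

/-- the stabiliser of a function on `G` in the normaliser of `G` -/
def stabSub (G : Subgroup Γ) (χ : G → ℂ) : Subgroup Γ where
  carrier := {x | x ∈ Subgroup.normalizer (G : Set Γ) ∧
    ∀ g g' : G, (g' : Γ) = x * g * x⁻¹ → χ g' = χ g}
  mul_mem' := by
    rintro x y ⟨hx, Hx⟩ ⟨hy, Hy⟩
    refine ⟨Subgroup.mul_mem _ hx hy, ?_⟩
    intro g g' hg'
    have h3 := Hy g ⟨y * g * y⁻¹, (Subgroup.mem_normalizer_iff.1 hy g).1 g.2⟩ rfl
    rw [← h3]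
    apply Hx
    rw [hg']
    group
  one_mem' := by
    refine ⟨Subgroup.one_mem _, ?_⟩
    intro g g' hg'
    have e : g' = g := Subtype.ext (by rw [hg']; group)
    rw [e]
  inv_mem' := by
    rintro x ⟨hx, Hx⟩
    refine ⟨Subgroup.inv_mem _ hx, ?_⟩
    intro g g' hg'
    symm
    apply Hx
    rw [hg']
    group

theorem invS_of_le_sup (G S T P : Subgroup Γ) (hTG : T ≤ Subgroup.normalizer (G : Set Γ))
    (hPG : P ≤ Subgroup.normalizer (G : Set Γ)) (hS : S ≤ T ⊔ P) (χ : G → ℂ)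
    (h1 : InvS G T χ) (h2 : InvS G P χ) : InvS G S χ := by
  have hT : T ≤ stabSub G χ := fun t ht => ⟨hTG ht, h1 t ht⟩
  have hP : P ≤ stabSub G χ := fun t ht => ⟨hPG ht, h2 t ht⟩
  have hle : S ≤ stabSub G χ := hS.trans (sup_le hT hP)
  intro x hx
  exact (hle hx).2

theorem invS_conj {G S : Subgroup Γ} {x : Γ} (hxG : x ∈ Subgroup.normalizer (G : Set Γ))
    (hxS : x ∈ Subgroup.normalizer (S : Set Γ)) {χ : G → ℂ} (h : InvS G S χ) :
    InvS G S (fun g => χ (conjNormalizer G x hxG g)) := by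
  intro s hs g g' hg'
  show χ (conjNormalizer G x hxG g') = χ (conjNormalizer G x hxG g)
  apply h (x * s * x⁻¹) ((Subgroup.mem_normalizer_iff.1 hxS s).1 hs)
  show x * (g' : Γ) * x⁻¹ = (x * s * x⁻¹) * (x * g * x⁻¹) * (x * s * x⁻¹)⁻¹
  rw [hg']
  group

theorem invS_iff_forall_conj {G P : Subgroup Γ} (hPG : P ≤ Subgroup.normalizer (G : Set Γ))
    {χ : G → ℂ} :
    InvS G P χ ↔ ∀ (x : Γ) (hx : x ∈ P) (g : G), χ (conjNormalizer G x (hPG hx) g) = χ g := by
  constructor
  · intro h x hx g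
    exact h x hx g _ rfl
  · intro h x hx g g' hg'
    have e : g' = conjNormalizer G x (hPG hx) g := Subtype.ext hg'
    rw [e]
    exact h x hx g

theorem invS_of_le_centralizer {D T : Subgroup Γ} (h : D ≤ Subgroup.centralizer (T : Set Γ))
    (ψ : D → ℂ) : InvS D T ψ := by
  intro t ht d d' hd'
  have e : d' = d := by
    apply Subtype.ext
    rw [hd', (Subgroup.mem_centralizer_iff.1 (h d.2)) t ht, mul_inv_cancel_right]
  rw [e]

theorem inf_centralizer_sup_eq {G S T P : Subgroup Γ} (hTS : T ≤ S) (hPS : P ≤ S)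
    (hS : S ≤ T ⊔ P) :
    G ⊓ Subgroup.centralizer (S : Set Γ) =
      (G ⊓ Subgroup.centralizer (T : Set Γ)) ⊓ Subgroup.centralizer (P : Set Γ) := by
  ext c
  simp only [Subgroup.mem_inf]
  constructor
  · rintro ⟨h1, h2⟩
    exact ⟨⟨h1, Subgroup.centralizer_le hTS h2⟩, Subgroup.centralizer_le hPS h2⟩
  · rintro ⟨⟨h1, h2⟩, h3⟩
    refine ⟨h1, ?_⟩
    rw [Subgroup.mem_centralizer_iff]
    have hT1 : T ≤ Subgroup.centralizer ({c} : Set Γ) := by
      intro t ht
      rw [Subgroup.mem_centralizer_singleton_iff]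
      exact (Subgroup.mem_centralizer_iff.1 h2) t ht
    have hP1 : P ≤ Subgroup.centralizer ({c} : Set Γ) := by
      intro t ht
      rw [Subgroup.mem_centralizer_singleton_iff]
      exact (Subgroup.mem_centralizer_iff.1 h3) t ht
    have hS1 : S ≤ Subgroup.centralizer ({c} : Set Γ) := hS.trans (sup_le hT1 hP1)
    intro x hx
    exact Subgroup.mem_centralizer_singleton_iff.1 (hS1 hx)

end SolvAux

section SolvCorrSec

variable {Γ : Type u} [Group Γ]

/-- an equivariant bijection between the `S`-invariant irreducible characters of `G` and the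
irreducible characters of `C_G(S)`, given as a relation -/
def SolvCorr (G S : Subgroup Γ) : Prop :=
  ∃ R : (G → ℂ) → ((G ⊓ Subgroup.centralizer (S : Set Γ) : Subgroup Γ) → ℂ) → Prop,
    (∀ χ β, R χ β → Cfsg.IsIrrCharacter G χ ∧ InvS G S χ ∧
      Cfsg.IsIrrCharacter (G ⊓ Subgroup.centralizer (S : Set Γ) : Subgroup Γ) β) ∧
    (∀ χ, Cfsg.IsIrrCharacter G χ → InvS G S χ → ∃ β, R χ β) ∧
    (∀ χ β β', R χ β → R χ β' → β = β') ∧
    (∀ χ χ' β, R χ β → R χ' β → χ = χ') ∧
    (∀ β, Cfsg.IsIrrCharacter (G ⊓ Subgroup.centralizer (S : Set Γ) : Subgroup Γ) β →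
      ∃ χ, R χ β) ∧
    (∀ (x : Γ) (hxG : x ∈ Subgroup.normalizer (G : Set Γ))
      (hxS : x ∈ Subgroup.normalizer (S : Set Γ)) χ β, R χ β →
      R (fun g => χ (conjNormalizer G x hxG g))
        (fun c => β (conjNormalizer _ x (mem_normalizer_inf_centralizer hxG hxS) c)))

theorem solvCorr_bot [Finite Γ] (G : Subgroup Γ) : SolvCorr G ⊥ := by
  classical
  have hbij : Function.Bijective (Subgroup.inclusion
      (inf_le_left : G ⊓ Subgroup.centralizer ((⊥ : Subgroup Γ) : Set Γ) ≤ G)) := by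
    constructor
    · exact Subgroup.inclusion_injective _
    · intro g
      have hg : (g : Γ) ∈ G ⊓ Subgroup.centralizer ((⊥ : Subgroup Γ) : Set Γ) := by
        rw [Subgroup.mem_inf, Subgroup.mem_centralizer_iff]
        refine ⟨g.2, ?_⟩
        intro h hh
        have h1 : h = 1 := Subgroup.mem_bot.1 hh
        rw [h1, one_mul, mul_one]
      exact ⟨⟨g, hg⟩, Subtype.ext rfl⟩
  let e := MulEquiv.ofBijective _ hbij
  have he : ∀ c, e c = Subgroup.inclusion inf_le_left c := fun c => rfl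
  have hinvbot : ∀ χ : G → ℂ, InvS G ⊥ χ := by
    intro χ s hs g g' hg'
    have h1 : s = 1 := Subgroup.mem_bot.1 hs
    have e1 : g' = g := Subtype.ext (by rw [hg', h1]; group)
    rw [e1]
  refine ⟨fun χ β => Cfsg.IsIrrCharacter G χ ∧ β = fun c => χ (Subgroup.inclusion inf_le_left c),
    ?_, ?_, ?_, ?_, ?_, ?_⟩
  · rintro χ β ⟨hχ, rfl⟩
    exact ⟨hχ, hinvbot χ, Cfsg.Agent.Lib.Helper80.isIrrCharacter_comp_mulEquiv e hχ⟩
  · intro χ hχ _
    exact ⟨_, hχ, rfl⟩
  · rintro χ β β' ⟨-, rfl⟩ ⟨-, rfl⟩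
    rfl
  · rintro χ χ' β ⟨-, h1⟩ ⟨-, h2⟩
    funext g
    obtain ⟨c, rfl⟩ := hbij.2 g
    exact (congrFun h1 c).symm.trans (congrFun h2 c)
  · intro β hβ
    refine ⟨fun g => β (e.symm g),
      Cfsg.Agent.Lib.Helper80.isIrrCharacter_comp_mulEquiv e.symm hβ, ?_⟩
    funext c
    show β c = β (e.symm (e c))
    rw [MulEquiv.symm_apply_apply]
  · rintro x hxG hxS χ β ⟨hχ, rfl⟩
    refine ⟨Cfsg.Agent.Lib.Helper80.isIrrCharacter_comp_mulEquiv (conjNormalizer G x hxG) hχ, ?_⟩
    funext c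
    rfl

/-- **Glauberman correspondence for solvable groups of operators** (existence of an
equivariant bijection), by induction on the order of the acting group -/
theorem solvCorr_of_solvable [Finite Γ] (G : Subgroup Γ) :
    ∀ (n : ℕ) (S : Subgroup Γ), Nat.card S = n → Group.IsSolvable S →
      S ≤ Subgroup.normalizer (G : Set Γ) → (Nat.card G).Coprime (Nat.card S) →
      SolvCorr G S := by
  intro n
  induction n using Nat.strong_induction_on with
  | _ n ih =>
  intro S hn hsolv hSN hcop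
  by_cases hbot : S = ⊥
  · subst hbot
    exact solvCorr_bot G
  · obtain ⟨p, T, P, hp, hTS, hcard, hPS, hP, hSle, hchar⟩ :=
      exists_char_sub_pgroup S hsolv hbot
    have hTN : T ≤ Subgroup.normalizer (G : Set Γ) := hTS.trans hSN
    have hPN : P ≤ Subgroup.normalizer (G : Set Γ) := hPS.trans hSN
    have hTsolv : Group.IsSolvable T := Cfsg.Agent.Lib.Helper1.isSolvable_of_le hTS hsolv
    have hcopT : (Nat.card G).Coprime (Nat.card T) :=
      Nat.Coprime.coprime_dvd_right (Subgroup.card_dvd_of_le hTS) hcop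
    obtain ⟨RT, hR0, hR1, hR2, hR3, hR4, hR5⟩ :=
      ih (Nat.card T) (hn ▸ hcard) T rfl hTsolv hTN hcopT
    have hSNT : S ≤ Subgroup.normalizer (T : Set Γ) :=
      fun x hx => hchar x (Subgroup.le_normalizer hx)
    have hSND : S ≤ Subgroup.normalizer
        ((G ⊓ Subgroup.centralizer (T : Set Γ) : Subgroup Γ) : Set Γ) :=
      fun x hx => mem_normalizer_inf_centralizer (hSN hx) (hSNT hx)
    have hPND : P ≤ Subgroup.normalizer
        ((G ⊓ Subgroup.centralizer (T : Set Γ) : Subgroup Γ) : Set Γ) := hPS.trans hSND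
    have hCeq : G ⊓ Subgroup.centralizer (S : Set Γ) =
        (G ⊓ Subgroup.centralizer (T : Set Γ)) ⊓ Subgroup.centralizer (P : Set Γ) :=
      inf_centralizer_sup_eq hTS hPS hSle
    have hCD : G ⊓ Subgroup.centralizer (S : Set Γ) ≤ G ⊓ Subgroup.centralizer (T : Set Γ) := by
      rw [hCeq]
      exact inf_le_left
    classical
    letI : Fintype (G ⊓ Subgroup.centralizer (S : Set Γ) : Subgroup Γ) := Fintype.ofFinite _
    have hnormP : ∀ s ∈ P, ∀ d ∈ G ⊓ Subgroup.centralizer (T : Set Γ),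
        s * d * s⁻¹ ∈ G ⊓ Subgroup.centralizer (T : Set Γ) :=
      fun s hs d hd => (Subgroup.mem_normalizer_iff.1 (hPND hs) d).1 hd
    have hcopP : (Nat.card (G ⊓ Subgroup.centralizer (T : Set Γ) : Subgroup Γ)).Coprime
        (Nat.card P) :=
      Nat.Coprime.coprime_dvd_left (Subgroup.card_dvd_of_le inf_le_left)
        (Nat.Coprime.coprime_dvd_right (Subgroup.card_dvd_of_le hPS) hcop)
    obtain ⟨ga, gb, gc⟩ := glauberman_pgroup (G ⊓ Subgroup.centralizer (T : Set Γ)) P hnormP hcopP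
      p hp hP (G ⊓ Subgroup.centralizer (S : Set Γ)) hCeq hCD
    have hinvDS : ∀ ψ : (G ⊓ Subgroup.centralizer (T : Set Γ) : Subgroup Γ) → ℂ,
        InvS _ S ψ ↔ InvS _ P ψ := fun ψ =>
      ⟨invS_mono hPS, fun h => invS_of_le_sup _ S T P (hTS.trans hSND) hPND hSle ψ
        (invS_of_le_centralizer inf_le_right ψ) h⟩
    refine ⟨fun χ β => ∃ ψ : (G ⊓ Subgroup.centralizer (T : Set Γ) : Subgroup Γ) → ℂ,
      RT χ ψ ∧ InvS _ S ψ ∧ Cfsg.IsIrrCharacter _ β ∧
      ∃ m : ℕ, Cfsg.classInner (fun c => ψ (Subgroup.inclusion hCD c)) β = (m : ℂ) ∧ ¬ p ∣ m,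
      ?_, ?_, ?_, ?_, ?_, ?_⟩
    · rintro χ β ⟨ψ, hRT, hψS, hβ, m, hm, hpm⟩
      obtain ⟨hχ, hχT, hψirr⟩ := hR0 χ ψ hRT
      refine ⟨hχ, ?_, hβ⟩
      have hχP : InvS G P χ := by
        rw [invS_iff_forall_conj hPN]
        intro x hx g
        have h5 := hR5 x (hPN hx) (hSNT (hPS hx)) χ ψ hRT
        have hψx : (fun d => ψ (conjNormalizer _ x
            (mem_normalizer_inf_centralizer (hPN hx) (hSNT (hPS hx))) d)) = ψ := by
          funext d
          exact hψS x (hPS hx) d _ rfl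
        rw [hψx] at h5
        exact congrFun (hR3 _ _ ψ h5 hRT) g
      exact invS_of_le_sup G S T P hTN hPN hSle χ hχT hχP
    · intro χ hχ hχS
      obtain ⟨ψ, hRT⟩ := hR1 χ hχ (invS_mono hTS hχS)
      obtain ⟨-, -, hψirr⟩ := hR0 χ ψ hRT
      have hψS : InvS _ S ψ := by
        rw [invS_iff_forall_conj hSND]
        intro x hx d
        have h5 := hR5 x (hSN hx) (hSNT hx) χ ψ hRT
        have hχx : (fun g => χ (conjNormalizer G x (hSN hx) g)) = χ := by
          funext g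
          exact hχS x hx g _ rfl
        rw [hχx] at h5
        exact congrFun (hR2 χ _ ψ h5 hRT) d
      obtain ⟨β, ε, hβ, hε, H⟩ := ga ψ hψirr ((hinvDS ψ).1 hψS)
      obtain ⟨m, hm, hmod, -⟩ := H β hβ
      exact ⟨β, ψ, hRT, hψS, hβ, m, hm, not_dvd_of_modEq_sign hp hε (hmod rfl)⟩
    · rintro χ β β' ⟨ψ, hRT, hψS, hβ, m, hm, hpm⟩ ⟨ψ', hRT', hψS', hβ', m', hm', hpm'⟩
      have e : ψ' = ψ := hR2 χ ψ' ψ hRT' hRT
      subst e
      obtain ⟨-, -, hψirr⟩ := hR0 χ ψ' hRT
      obtain ⟨β₀, ε, hβ₀, hε, H⟩ := ga ψ' hψirr ((hinvDS ψ').1 hψS)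
      have e1 : β = β₀ := by
        by_contra hne
        obtain ⟨m₁, hm₁, -, hdvd⟩ := H β hβ
        have h5 : m₁ = m := by exact_mod_cast hm₁.symm.trans hm
        exact hpm (h5 ▸ Int.natCast_dvd_natCast.1 (hdvd hne))
      have e2 : β' = β₀ := by
        by_contra hne
        obtain ⟨m₁, hm₁, -, hdvd⟩ := H β' hβ'
        have h5 : m₁ = m' := by exact_mod_cast hm₁.symm.trans hm'
        exact hpm' (h5 ▸ Int.natCast_dvd_natCast.1 (hdvd hne))
      rw [e1, e2]
    · rintro χ χ' β ⟨ψ, hRT, hψS, hβ, m, hm, hpm⟩ ⟨ψ', hRT', hψS', -, m', hm', hpm'⟩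
      obtain ⟨-, -, hψirr⟩ := hR0 χ ψ hRT
      obtain ⟨-, -, hψirr'⟩ := hR0 χ' ψ' hRT'
      have e : ψ = ψ' := gb ψ ψ' hψirr hψirr' ((hinvDS ψ).1 hψS) ((hinvDS ψ').1 hψS') β hβ m m'
        hm hpm hm' hpm'
      subst e
      exact hR3 χ χ' ψ hRT hRT'
    · intro β hβ
      obtain ⟨ψ, hψirr, hψP, m, hm, hpm⟩ := gc β hβ
      obtain ⟨χ, hRT⟩ := hR4 ψ hψirr
      exact ⟨χ, ψ, hRT, (hinvDS ψ).2 hψP, hβ, m, hm, hpm⟩
    · rintro x hxG hxS χ β ⟨ψ, hRT, hψS, hβ, m, hm, hpm⟩
      have hxT := hchar x hxS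
      refine ⟨fun d => ψ (conjNormalizer _ x (mem_normalizer_inf_centralizer hxG hxT) d),
        hR5 x hxG hxT χ ψ hRT, invS_conj (mem_normalizer_inf_centralizer hxG hxT) hxS hψS,
        Cfsg.Agent.Lib.Helper80.isIrrCharacter_comp_mulEquiv
          (conjNormalizer _ x (mem_normalizer_inf_centralizer hxG hxS)) hβ, m, ?_, hpm⟩
      rw [← hm]
      have h6 := classInner_comp_equiv
        (conjNormalizer _ x (mem_normalizer_inf_centralizer hxG hxS))
        (fun c => ψ (Subgroup.inclusion hCD c)) β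
      rw [← h6]
      rfl

/-- **the number of `S`-invariant irreducible characters of `G` is the number of irreducible
characters of `C_G(S)`**, for `S` solvable normalising `G` with coprime orders -/
theorem card_inv_irr_eq_solvable [Finite Γ] (G S : Subgroup Γ)
    (hnorm : ∀ s ∈ S, ∀ g ∈ G, s * g * s⁻¹ ∈ G) (hcop : (Nat.card G).Coprime (Nat.card S))
    (hsolv : Group.IsSolvable S) :
    Nat.card {χ : Cfsg.IrrCharacter G // InvS G S (χ : G → ℂ)} =
      Nat.card (Cfsg.IrrCharacter (G ⊓ Subgroup.centralizer (S : Set Γ) : Subgroup Γ)) := by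
  obtain ⟨R, h0, h1, h2, h3, h4, -⟩ := solvCorr_of_solvable G _ S rfl hsolv
    (le_normalizer_of_conj_mem G S hnorm) hcop
  have key : ∀ χ : {χ : Cfsg.IrrCharacter G // InvS G S (χ : G → ℂ)},
      ∃ β : Cfsg.IrrCharacter (G ⊓ Subgroup.centralizer (S : Set Γ) : Subgroup Γ),
        R χ.1.1 β.1 := by
    intro χ
    obtain ⟨β, hβ⟩ := h1 χ.1.1 χ.1.2 χ.2
    exact ⟨⟨β, (h0 _ _ hβ).2.2⟩, hβ⟩
  choose f hf using key
  apply Nat.card_eq_of_bijective f
  constructor
  · intro χ χ' h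
    have h5 := h3 χ.1.1 χ'.1.1 (f χ).1 (hf χ) (h ▸ hf χ')
    exact Subtype.ext (Subtype.ext h5)
  · intro β
    obtain ⟨χ, hχ⟩ := h4 β.1 β.2
    obtain ⟨hirr, hinv, -⟩ := h0 _ _ hχ
    refine ⟨⟨⟨χ, hirr⟩, hinv⟩, ?_⟩
    exact Subtype.ext (h2 χ _ _ (hf ⟨⟨χ, hirr⟩, hinv⟩) hχ)

end SolvCorrSec

end Cfsg.Agent.Lib.Helper75
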