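import Mathlib
import Cfsg.Prelude.Def_Characters
import Cfsg.Prelude.Def_Blocks
import Cfsg.Agent.Lib.Helper3.CharValues
import Cfsg.Agent.Lib.Helper80.CharOps
import Cfsg.Agent.Lib.Helper75.CharDecomp
import Cfsg.Agent.Lib.Helper75.CharInd
import Cfsg.Agent.Lib.Helper75.Clifford
import Cfsg.Agent.Lib.Helper75.CliffordCorr
import Cfsg.Agent.Lib.Helper75.CliffordCorr2
import Cfsg.Agent.Lib.Helper75.Gallagher
import Cfsg.Agent.Lib.Helper75.CentExt

set_option autoImplicit false
set_option linter.unusedSectionVars false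
set_option linter.style.haveILetI false

namespace Cfsg.Agent.Lib.Helper75

open Representation Module
open Cfsg.Agent.Lib.Helper3
open scoped ComplexConjugate

universe u

variable {G : Type u} [Group G] [Finite G] (N : Subgroup G) [hN : N.Normal] {d : ℕ}
  (Y : Representation ℂ N (Fin d → ℂ))

/-- inner products over the image of `N` in `Ĝ` agree with inner products over `N` -/
theorem classInner_incl_range [Fintype N] [Fintype (centExtIncl N Y).range]
    (F F' : centExt N Y → ℂ) (f f' : N → ℂ) (h : ∀ n, F (centExtIncl N Y n) = f n)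
    (h' : ∀ n, F' (centExtIncl N Y n) = f' n) :
    Cfsg.classInner (fun x : (centExtIncl N Y).range => F x)
      (fun x : (centExtIncl N Y).range => F' x) = Cfsg.classInner f f' := by
  unfold Cfsg.classInner
  rw [Nat.card_congr (MonoidHom.ofInjective (centExtIncl_injective N Y)).toEquiv]
  congr 1
  symm
  refine Fintype.sum_equiv (MonoidHom.ofInjective (centExtIncl_injective N Y)).toEquiv _ _
    (fun n => ?_)
  show f n * conj (f' n) = F (centExtIncl N Y n) * conj (F' (centExtIncl N Y n))
  rw [h, h']

variable [hY : Y.IsIrreducible]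

/-- the character of the tautological representation of `Ĝ` -/
theorem centExtRep_isIrrCharacter :
    Cfsg.IsIrrCharacter (centExt N Y) (centExtRep N Y).character :=
  ⟨d, centExtRep N Y, inferInstance, rfl⟩

theorem centExtRep_character_incl (n : N) :
    (centExtRep N Y).character (centExtIncl N Y n) = Y.character n := rfl

/-- the restriction of that character to the image of `N` is irreducible -/
theorem centExtRep_res_isIrrCharacter :
    Cfsg.IsIrrCharacter (centExtIncl N Y).range
      (fun x : (centExtIncl N Y).range => (centExtRep N Y).character x) := by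
  have h1 : Cfsg.IsIrrCharacter N Y.character := ⟨d, Y, hY, rfl⟩
  have h2 := Helper80.isIrrCharacter_comp_mulEquiv
    (MonoidHom.ofInjective (centExtIncl_injective N Y)).symm h1
  have h3 : (fun x : (centExtIncl N Y).range => (centExtRep N Y).character x) =
      fun x => Y.character ((MonoidHom.ofInjective (centExtIncl_injective N Y)).symm x) := by
    funext x
    obtain ⟨n, hn⟩ := x.2
    have hx : x = MonoidHom.ofInjective (centExtIncl_injective N Y) n := Subtype.ext hn.symm
    rw [hx, MulEquiv.symm_apply_apply]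
    rfl
  rw [h3]
  exact h2

/-- **Gallagher in `Ĝ`**: an irreducible character of `G` over `θ` pulls back to `β * θ̂` -/
theorem centExt_gallagher
    (hinv : ∀ (g : G) (n : N), Y.character (MulAut.conjNormal g n) = Y.character n)
    [Fintype N] {χ : G → ℂ} (hχ : Cfsg.IsIrrCharacter G χ)
    (hne : Cfsg.classInner (fun n : N => χ n) Y.character ≠ 0) :
    ∃ β : centExt N Y → ℂ, Cfsg.IsIrrCharacter (centExt N Y) β ∧
      (∀ n : N, β (centExtIncl N Y n) = β 1) ∧
      ∀ x : centExt N Y, χ (centExtProj N Y x) = β x * (centExtRep N Y).character x := by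
  haveI : Fintype (centExt N Y) := Fintype.ofFinite _
  haveI : Fintype (centExtIncl N Y).range := Fintype.ofFinite _
  have hχ' : Cfsg.IsIrrCharacter (centExt N Y) (fun x => χ (centExtProj N Y x)) :=
    Helper80.isIrrCharacter_comp (centExtProj N Y) (centExtProj_surjective N Y hinv) hχ
  have hne' : Cfsg.classInner (fun x : (centExtIncl N Y).range => χ (centExtProj N Y x))
      (fun x : (centExtIncl N Y).range => (centExtRep N Y).character x) ≠ 0 := by
    rw [classInner_incl_range N Y (fun x => χ (centExtProj N Y x)) (centExtRep N Y).character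
      (fun n : N => χ n) Y.character (fun n => rfl) (fun n => rfl)]
    exact hne
  obtain ⟨β, hβ, hβN, hβχ⟩ := gallagher_exists (centExtIncl N Y).range
    (centExtRep_isIrrCharacter N Y) (centExtRep_res_isIrrCharacter N Y) hχ' hne'
  refine ⟨β, hβ, fun n => hβN ⟨centExtIncl N Y n, n, rfl⟩, fun x => ?_⟩
  exact congrFun hβχ x

/-- `Ĝ ⧸ N₀` is a central extension of `G ⧸ N`: the index of its centre divides `|G : N|` -/
theorem centExt_center_index_dvd
    (hinv : ∀ (g : G) (n : N), Y.character (MulAut.conjNormal g n) = Y.character n) :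
    (Subgroup.center (centExt N Y ⧸ (centExtIncl N Y).range)).index ∣ N.index := by
  have hle : (centExtIncl N Y).range ≤ N.comap (centExtProj N Y) := by
    rintro _ ⟨n, rfl⟩
    exact n.2
  let pbar : (centExt N Y ⧸ (centExtIncl N Y).range) →* G ⧸ N :=
    QuotientGroup.map (centExtIncl N Y).range N (centExtProj N Y) hle
  have hsurj : Function.Surjective pbar := by
    intro q
    obtain ⟨g, rfl⟩ := QuotientGroup.mk_surjective q
    obtain ⟨x, rfl⟩ := centExtProj_surjective N Y hinv g
    exact ⟨QuotientGroup.mk x, rfl⟩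
  have hker : pbar.ker ≤ Subgroup.center (centExt N Y ⧸ (centExtIncl N Y).range) := by
    intro q hq
    obtain ⟨x, rfl⟩ := QuotientGroup.mk_surjective q
    have h1 : ((centExtProj N Y x : G) : G ⧸ N) = 1 := hq
    rw [QuotientGroup.eq_one_iff] at h1
    set n : N := ⟨centExtProj N Y x, h1⟩ with hn
    set z : centExt N Y := (centExtIncl N Y n)⁻¹ * x with hz
    have hz1 : centExtProj N Y z = 1 := by
      rw [hz, map_mul, map_inv, centExtProj_incl]
      exact inv_mul_cancel _
    have hxz : (QuotientGroup.mk x : centExt N Y ⧸ (centExtIncl N Y).range) = QuotientGroup.mk z := by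
      rw [hz, QuotientGroup.mk_mul]
      have : (QuotientGroup.mk (centExtIncl N Y n)⁻¹ : centExt N Y ⧸ (centExtIncl N Y).range) = 1 := by
        rw [QuotientGroup.eq_one_iff]
        exact inv_mem ⟨n, rfl⟩
      rw [this, one_mul]
    rw [hxz, Subgroup.mem_center_iff]
    intro q'
    obtain ⟨y, rfl⟩ := QuotientGroup.mk_surjective q'
    rw [← QuotientGroup.mk_mul, ← QuotientGroup.mk_mul, centExt_central N Y z hz1 y]
  have h2 := Subgroup.index_dvd_of_le hker
  have h3 : pbar.ker.index = N.index := by
    rw [Subgroup.index_ker, MonoidHom.range_eq_top.2 hsurj, Subgroup.card_top]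
    rfl
  rwa [h3] at h2

/-- conditional form of `χ(1)/θ(1) ∣ |G:N|` for invariant `θ`, given that irreducible degrees
divide the index of the centre -/
theorem degree_dvd_of_invariant
    (hcenter : ∀ (H : Type u) [Group H] [Finite H] (n : ℕ)
      (ρ : Representation ℂ H (Fin n → ℂ)), ρ.IsIrreducible → n ∣ (Subgroup.center H).index)
    (hinv : ∀ (g : G) (n : N), Y.character (MulAut.conjNormal g n) = Y.character n)
    [Fintype N] {χ : G → ℂ} (hχ : Cfsg.IsIrrCharacter G χ)
    (hne : Cfsg.classInner (fun n : N => χ n) Y.character ≠ 0) :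
    ∃ e : ℕ, Cfsg.charDegree χ = e * d ∧ e ∣ N.index := by
  obtain ⟨β, hβ, hβN, hβχ⟩ := centExt_gallagher N Y hinv hχ hne
  obtain ⟨βbar, hβbar, hβeq⟩ := Helper80.exists_isIrrCharacter_deflate (centExtIncl N Y).range hβ
    (fun x hx => by
      obtain ⟨n, rfl⟩ := hx
      exact hβN n)
  obtain ⟨e, ρ, hρ, hρc⟩ := hβbar
  have h1 : e ∣ (Subgroup.center (centExt N Y ⧸ (centExtIncl N Y).range)).index :=
    hcenter _ e ρ hρ
  refine ⟨e, ?_, h1.trans (centExt_center_index_dvd N Y hinv)⟩
  have h2 := hβχ 1
  rw [map_one] at h2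
  have h3 : β 1 = (e : ℂ) := by
    rw [← hβeq 1, ← hρc]
    exact Helper80.char_one_fin ρ
  have h4 : (centExtRep N Y).character 1 = (d : ℂ) := Helper80.char_one_fin _
  rw [h3, h4, Helper80.char_one_eq_charDegree (isCharacter_of_irr hχ)] at h2
  exact_mod_cast h2

omit [Finite G] hY in
/-- conditional form of `χ(1)/θ(1) ∣ |G:N|` (any constituent), given that irreducible degrees
divide the index of the centre -/
theorem degree_dvd_index
    (hcenter : ∀ (H : Type u) [Group H] [Finite H] (n : ℕ)
      (ρ : Representation ℂ H (Fin n → ℂ)), ρ.IsIrreducible → n ∣ (Subgroup.center H).index)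
    [Fintype G] [Fintype N] {χ : G → ℂ} (hχ : Cfsg.IsIrrCharacter G χ) {ϑ : N → ℂ}
    (hϑ : Cfsg.IsIrrCharacter N ϑ) (hcon : Cfsg.classInner (fun n : N => χ n) ϑ ≠ 0) :
    Cfsg.charDegree ϑ ∣ Cfsg.charDegree χ ∧
      Cfsg.charDegree χ / Cfsg.charDegree ϑ ∣ N.index := by
  have hNT : N ≤ inertia N ϑ :=
    le_inertia N (isClassFunction_of_isCharacter (isCharacter_of_irr hϑ))
  haveI : Fintype (inertia N ϑ) := Fintype.ofFinite _
  obtain ⟨ψ, hψ, hind, hmult⟩ := clifford_correspondence N (inertia N ϑ) hNT hχ hϑ
    (fun g => mem_inertia_iff N ϑ g) hcon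
  have hinT : ∀ t : inertia N ϑ, ∀ n : N,
      ϑ ⟨(t : G) * n * (t : G)⁻¹, hN.conj_mem n n.2 t⟩ = ϑ n :=
    fun t => (mem_inertia_iff' N ϑ t).1 t.2
  obtain ⟨d, Y, hY, rfl⟩ := hϑ
  haveI := hY
  haveI : Fintype (N.subgroupOf (inertia N Y.character)) := Fintype.ofFinite _
  let Y' : Representation ℂ (N.subgroupOf (inertia N Y.character)) (Fin d → ℂ) :=
    Y.comp (Subgroup.subgroupOfEquivOfLe hNT).toMonoidHom
  haveI : Y'.IsIrreducible :=
    Helper81.isIrreducible_comp_mulEquiv (Subgroup.subgroupOfEquivOfLe hNT) Y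
  have hinv' : ∀ (t : inertia N Y.character) (n' : N.subgroupOf (inertia N Y.character)),
      Y'.character (MulAut.conjNormal t n') = Y'.character n' := by
    intro t n'
    show Y.character (Subgroup.subgroupOfEquivOfLe hNT (MulAut.conjNormal t n')) =
      Y.character (Subgroup.subgroupOfEquivOfLe hNT n')
    rw [← hinT t (Subgroup.subgroupOfEquivOfLe hNT n')]
    congr 1
  have hne' : Cfsg.classInner (fun n' : N.subgroupOf (inertia N Y.character) => ψ n')
      Y'.character ≠ 0 := by
    have := classInner_subgroupOf N (inertia N Y.character) hNT ψ Y.character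
    rw [hmult] at this
    rw [← this] at hcon
    exact hcon
  obtain ⟨e₁, he₁, hdvd⟩ := degree_dvd_of_invariant (N.subgroupOf (inertia N Y.character)) Y'
    hcenter hinv' hψ hne'
  have hdχ : Cfsg.charDegree χ = (inertia N Y.character).index * (e₁ * d) := by
    have h1 := Helper80.char_one_eq_charDegree (isCharacter_of_irr hχ)
    have h0 : χ 1 = ((inertia N Y.character).index : ℂ) * ψ 1 := by
      rw [← hind, indFun_one]
    rw [h0, Helper80.char_one_eq_charDegree (isCharacter_of_irr hψ), he₁] at h1
    exact_mod_cast h1.symm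
  have hdϑ : Cfsg.charDegree Y.character = d := Helper80.charDegree_char Y
  have hd0 : 0 < d := centExt_d_pos Y
  rw [hdχ, hdϑ]
  refine ⟨⟨(inertia N Y.character).index * e₁, by ring⟩, ?_⟩
  have h2 : (inertia N Y.character).index * (e₁ * d) / d = (inertia N Y.character).index * e₁ := by
    rw [← mul_assoc]
    exact Nat.mul_div_cancel _ hd0
  rw [h2, ← Subgroup.relIndex_mul_index hNT, mul_comm]
  exact Nat.mul_dvd_mul_right hdvd _

end Cfsg.Agent.Lib.Helper75
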