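import Mathlib
import Cfsg.Prelude.Def_Characters
import Cfsg.Prelude.Def_Blocks
import Cfsg.Agent.Lib.Helper3.CharValues
import Cfsg.Agent.Lib.Helper80.CharOps
import Cfsg.Agent.Lib.Helper75.CentExt
import Cfsg.Agent.Lib.Helper75.CentExt3
import Cfsg.Agent.Lib.Helper75.CentExt4

set_option autoImplicit false
set_option linter.unusedSectionVars false
set_option linter.style.haveILetI false

namespace Cfsg.Agent.Lib.Helper75

open Representation Module
open Cfsg.Agent.Lib.Helper3
open scoped ComplexConjugate

universe u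

/-- a linear character of a subgroup of a finite commutative group extends to the group -/
theorem exists_hom_extension_of_comm {A : Type*} [Group A] [Finite A]
    (hcomm : ∀ a b : A, a * b = b * a) (H : Subgroup A) (f : H →* ℂˣ) :
    ∃ φ : A →* ℂˣ, ∀ h : H, φ h = f h := by
  letI : CommGroup A := { (inferInstance : Group A) with mul_comm := hcomm }
  haveI : NeZero (Monoid.exponent A) := ⟨Monoid.exponent_ne_zero_of_finite⟩
  obtain ⟨φ, hφ⟩ := MonoidHom.domRestrict_surjective (M := ℂ) H f
  exact ⟨φ, fun h => DFunLike.congr_fun hφ h⟩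

variable {G : Type u} [Group G] [Finite G] (N : Subgroup G) [hN : N.Normal] {d : ℕ}
  (Y : Representation ℂ N (Fin d → ℂ))

/-- the map `Ĝ ⧸ N₀ → G ⧸ N` induced by the projection -/
def centExtBar : (centExt N Y ⧸ (centExtIncl N Y).range) →* G ⧸ N :=
  QuotientGroup.map (centExtIncl N Y).range N (centExtProj N Y) (by
    rintro _ ⟨n, rfl⟩
    exact n.2)

theorem centExtBar_mk (x : centExt N Y) :
    centExtBar N Y (QuotientGroup.mk x) = QuotientGroup.mk (centExtProj N Y x) := rfl

variable [hY : Y.IsIrreducible]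

/-- the kernel of `Ĝ ⧸ N₀ → G ⧸ N` is central -/
theorem centExtBar_ker_le_center :
    (centExtBar N Y).ker ≤ Subgroup.center (centExt N Y ⧸ (centExtIncl N Y).range) := by
  intro q hq
  obtain ⟨x, rfl⟩ := QuotientGroup.mk_surjective q
  have h1 : ((centExtProj N Y x : G) : G ⧸ N) = 1 := hq
  rw [QuotientGroup.eq_one_iff] at h1
  set n : N := ⟨centExtProj N Y x, h1⟩ with hn
  set z : centExt N Y := (centExtIncl N Y n)⁻¹ * x with hz
  have hz1 : centExtProj N Y z = 1 := by
    rw [hz, map_mul, map_inv, centExtProj_incl]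
    exact inv_mul_cancel _
  have hxz : (QuotientGroup.mk x : centExt N Y ⧸ (centExtIncl N Y).range) = QuotientGroup.mk z := by
    rw [hz, QuotientGroup.mk_mul]
    have : (QuotientGroup.mk (centExtIncl N Y n)⁻¹ : centExt N Y ⧸ (centExtIncl N Y).range) = 1 := by
      rw [QuotientGroup.eq_one_iff]
      exact inv_mem ⟨n, rfl⟩
    rw [this, one_mul]
  rw [hxz, Subgroup.mem_center_iff]
  intro q'
  obtain ⟨y, rfl⟩ := QuotientGroup.mk_surjective q'
  rw [← QuotientGroup.mk_mul, ← QuotientGroup.mk_mul, centExt_central N Y z hz1 y]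

/-- if `Ĝ ⧸ N₀` is commutative then `λ` extends -/
theorem one_mem_extExp_of_comm
    (hcomm : ∀ a b : centExt N Y ⧸ (centExtIncl N Y).range, a * b = b * a) :
    (1 : ℤ) ∈ extExp N Y := by
  -- the kernel embeds into the quotient
  let j : (centExtProj N Y).ker →* centExt N Y ⧸ (centExtIncl N Y).range :=
    (QuotientGroup.mk' (centExtIncl N Y).range).comp (centExtProj N Y).ker.subtype
  have hj : Function.Injective j := by
    rw [injective_iff_map_eq_one]
    intro z hz
    have h1 : (QuotientGroup.mk z.1 : centExt N Y ⧸ (centExtIncl N Y).range) = 1 := hz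
    rw [QuotientGroup.eq_one_iff] at h1
    obtain ⟨n, hn⟩ := h1
    have h2 : centExtProj N Y z.1 = 1 := z.2
    rw [← hn, centExtProj_incl] at h2
    apply Subtype.ext
    rw [← hn]
    have : n = 1 := Subtype.ext h2
    rw [this, map_one]
    rfl
  let lam' : j.range →* ℂˣ := (centExtLam N Y).comp (MonoidHom.ofInjective hj).symm.toMonoidHom
  obtain ⟨φ, hφ⟩ := exists_hom_extension_of_comm hcomm j.range lam'
  refine ⟨φ.comp (QuotientGroup.mk' (centExtIncl N Y).range), fun n => ?_, fun z => ?_⟩
  · show φ (QuotientGroup.mk (centExtIncl N Y n)) = 1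
    have : (QuotientGroup.mk (centExtIncl N Y n) : centExt N Y ⧸ (centExtIncl N Y).range) = 1 := by
      rw [QuotientGroup.eq_one_iff]
      exact ⟨n, rfl⟩
    rw [this, map_one]
  · rw [zpow_one]
    have h1 := hφ ⟨j z, z, rfl⟩
    have h2 : lam' ⟨j z, z, rfl⟩ = centExtLam N Y z := by
      show centExtLam N Y ((MonoidHom.ofInjective hj).symm ⟨j z, z, rfl⟩) = centExtLam N Y z
      congr 1
      rw [MulEquiv.symm_apply_eq]
      rfl
    rw [h2] at h1
    exact h1

/-- **cyclic quotient**: an invariant irreducible `Y` extends to `G` when `G ⧸ N` is cyclic -/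
theorem exists_extension_of_cyclic
    (hinv : ∀ (g : G) (n : N), Y.character (MulAut.conjNormal g n) = Y.character n)
    (hcyc : IsCyclic (G ⧸ N)) :
    ∃ X : Representation ℂ G (Fin d → ℂ), X.IsIrreducible ∧ ∀ n : N, X n = Y n := by
  apply exists_extension_of_one_mem N Y hinv
  apply one_mem_extExp_of_comm
  exact fun a b => ((centExtBar N Y).isMulCommutative_of_isCyclic_of_ker_le_center
    (centExtBar_ker_le_center N Y)).is_comm.comm a b

end Cfsg.Agent.Lib.Helper75
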