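import Mathlib
import Cfsg.Prelude.Def_Characters
import Cfsg.Prelude.Def_Blocks
import Cfsg.Agent.Lib.Helper3.CharValues
import Cfsg.Agent.Lib.Helper80.CharOps
import Cfsg.Agent.Lib.Helper80.CharKer
import Cfsg.Agent.Lib.Helper80.Schur
import Cfsg.Agent.Lib.Helper75.CharDecomp
import Cfsg.Agent.Lib.Helper75.CharInd
import Cfsg.Agent.Lib.Helper75.Clifford
import Cfsg.Agent.Lib.Helper75.CliffordAct
import Cfsg.Agent.Lib.Helper75.CliffordCorr
import Cfsg.Agent.Lib.Helper75.Gallagher
import Cfsg.Agent.Lib.Helper75.CentExt3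

/-!
# Gallagher, forward direction; descent along surjections; central restrictions
-/

set_option autoImplicit false
set_option linter.unusedSectionVars false
set_option linter.style.haveILetI false

namespace Cfsg.Agent.Lib.Helper75

open Representation Module
open Cfsg.Agent.Lib.Helper3
open scoped ComplexConjugate

universe u

section Forward

variable {G : Type u} [Group G] (N : Subgroup G) [hN : N.Normal] [Fintype N] [Fintype G]

/-- **Gallagher, forward direction**: if `χ ∈ Irr(G)` restricts irreducibly to the normal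
subgroup `N` and `β₀ ∈ Irr(G)` is trivial on `N`, then `β₀ * χ` is irreducible -/
theorem gallagher_irr {χ : G → ℂ} (hχ : Cfsg.IsIrrCharacter G χ)
    (hχN : Cfsg.IsIrrCharacter N (fun n : N => χ n)) {β₀ : G → ℂ}
    (hβ₀ : Cfsg.IsIrrCharacter G β₀) (hβ₀N : ∀ n : N, β₀ n = β₀ 1) :
    Cfsg.IsIrrCharacter G (β₀ * χ) := by
  classical
  haveI : Fintype (Cfsg.IrrCharacter G) := Fintype.ofFinite _
  have hχc := isCharacter_of_irr hχ
  have hχcf := isClassFunction_of_isCharacter hχc
  have h1N : Cfsg.IsIrrCharacter N (fun _ : N => (1 : ℂ)) := Helper80.isIrrCharacter_one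
  set R : G → ℂ := Cfsg.indFun N (fun _ : N => (1 : ℂ)) with hRdef
  have hRc : Cfsg.IsCharacter G R := isCharacter_indFun N (isCharacter_of_irr h1N)
  obtain ⟨b, hb, hR⟩ := char_eq_sum_irr hRc
  -- the induced character of `χ_N`
  have hind : Cfsg.indFun N (fun n : N => χ n) = χ * R := by
    have := indFun_mul_res N hχcf (fun _ : N => (1 : ℂ))
    simp only [mul_one] at this
    exact this
  have hind' : Cfsg.indFun N (fun n : N => χ n) =
      ∑ β : Cfsg.IrrCharacter G, (b β : ℂ) • ((β : G → ℂ) * χ) := by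
    rw [hind]
    conv_lhs => rw [hR]
    rw [Finset.mul_sum]
    refine Finset.sum_congr rfl (fun β _ => ?_)
    funext g
    simp only [Pi.mul_apply, Pi.smul_apply, smul_eq_mul]
    ring
  have hβχ : ∀ β : Cfsg.IrrCharacter G, Cfsg.IsCharacter G ((β : G → ℂ) * χ) :=
    fun β => Helper80.isCharacter_mul (isCharacter_of_irr β.2) hχc
  have hc : ∀ β β' : Cfsg.IrrCharacter G, ∃ c : ℕ,
      Cfsg.classInner ((β : G → ℂ) * χ) ((β' : G → ℂ) * χ) = c :=
    fun β β' => classInner_char_nat (hβχ β) (hβχ β')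
  choose c hc using hc
  -- norm of the induced character, first computation
  have hnorm1 : Cfsg.classInner (Cfsg.indFun N (fun n : N => χ n))
      (Cfsg.indFun N (fun n : N => χ n)) = (N.index : ℂ) := by
    rw [frobenius_reciprocity N _ (indFun_isClassFunction N _)]
    have : (fun n : N => Cfsg.indFun N (fun n : N => χ n) n) = (N.index : ℂ) • fun n : N => χ n := by
      funext n
      have h2 := congrFun hind n
      have h3 := congrFun (indFun_one_res N) n
      simp only [Pi.mul_apply, Pi.smul_apply, smul_eq_mul] at h2 h3 ⊢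
      rw [h2, hRdef, h3, mul_comm]
    rw [this, Helper80.classInner_smul_right, classInner_irr_self hχN]
    simp
  -- second computation
  have hnorm2 : Cfsg.classInner (Cfsg.indFun N (fun n : N => χ n))
      (Cfsg.indFun N (fun n : N => χ n)) =
      ((∑ β : Cfsg.IrrCharacter G, ∑ β' : Cfsg.IrrCharacter G, b β * b β' * c β β' : ℕ) : ℂ) := by
    conv_lhs => rw [hind']
    rw [classInner_sum_left]
    push_cast
    refine Finset.sum_congr rfl (fun β _ => ?_)
    rw [classInner_smul_left, Helper80.classInner_sum_right, Finset.mul_sum]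
    refine Finset.sum_congr rfl (fun β' _ => ?_)
    rw [Helper80.classInner_smul_right, hc β β']
    simp only [Complex.conj_natCast]
    ring
  -- norm of the permutation character
  have hnormR : ((∑ β : Cfsg.IrrCharacter G, b β * b β : ℕ) : ℂ) = (N.index : ℂ) := by
    have h2 : Cfsg.classInner R R = (N.index : ℂ) := by
      rw [hRdef, frobenius_reciprocity N _ (indFun_isClassFunction N _), indFun_one_res]
      have : (fun _ : N => (N.index : ℂ)) = (N.index : ℂ) • fun _ : N => (1 : ℂ) := by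
        funext n
        simp
      rw [this, Helper80.classInner_smul_right, classInner_irr_self h1N]
      simp
    rw [← h2]
    conv_rhs => rw [hR]
    rw [classInner_sum_left]
    push_cast
    refine Finset.sum_congr rfl (fun β _ => ?_)
    rw [classInner_smul_left, ← hR, classInner_conj_symm, hb β]
    simp
  have hsum : ∑ β : Cfsg.IrrCharacter G, ∑ β' : Cfsg.IrrCharacter G, b β * b β' * c β β' =
      ∑ β : Cfsg.IrrCharacter G, b β * b β := by
    have : ((∑ β : Cfsg.IrrCharacter G, ∑ β' : Cfsg.IrrCharacter G, b β * b β' * c β β' : ℕ) : ℂ) =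
        ((∑ β : Cfsg.IrrCharacter G, b β * b β : ℕ) : ℂ) := by
      rw [← hnorm2, hnorm1, hnormR]
    exact_mod_cast this
  -- each `β * χ` has norm at least one
  have hc1 : ∀ β : Cfsg.IrrCharacter G, 1 ≤ c β β := by
    intro β
    rw [Nat.one_le_iff_ne_zero]
    intro h0
    have h2 := hc β β
    rw [h0] at h2
    simp only [Nat.cast_zero] at h2
    have h3 := congrFun (eq_zero_of_classInner_self h2) 1
    simp only [Pi.mul_apply, Pi.zero_apply] at h3
    rcases mul_eq_zero.1 h3 with h4 | h4
    · exact Helper80.char_one_ne_zero β.2 h4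
    · exact Helper80.char_one_ne_zero hχ h4
  have hle : ∀ β ∈ (Finset.univ : Finset (Cfsg.IrrCharacter G)),
      b β * b β ≤ ∑ β' : Cfsg.IrrCharacter G, b β * b β' * c β β' := by
    intro β _
    calc b β * b β ≤ b β * b β * c β β := Nat.le_mul_of_pos_right _ (hc1 β)
      _ ≤ ∑ β' : Cfsg.IrrCharacter G, b β * b β' * c β β' :=
        Finset.single_le_sum (f := fun β' => b β * b β' * c β β') (fun _ _ => Nat.zero_le _)
          (Finset.mem_univ β)
  have heq := (Finset.sum_eq_sum_iff_of_le hle).1 hsum.symm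
  set β : Cfsg.IrrCharacter G := ⟨β₀, hβ₀⟩ with hβdef
  have hb0 : b β ≠ 0 := by
    intro h0
    have h2 := hb β
    rw [h0, hRdef, frobenius_reciprocity N _
      (isClassFunction_of_isCharacter (isCharacter_of_irr β.2))] at h2
    have h3 : (fun n : N => (β : G → ℂ) n) = (β₀ 1) • (fun _ : N => (1 : ℂ)) := by
      funext n
      show β₀ n = β₀ 1 • (1 : ℂ)
      rw [hβ₀N n, smul_eq_mul, mul_one]
    rw [h3, Helper80.classInner_smul_right, classInner_irr_self h1N] at h2
    simp only [mul_one, Nat.cast_zero, map_eq_zero] at h2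
    exact Helper80.char_one_ne_zero hβ₀ h2
  have hcβ : c β β = 1 := by
    have h2 := heq β (Finset.mem_univ β)
    have h3 : b β * b β * c β β ≤ ∑ β' : Cfsg.IrrCharacter G, b β * b β' * c β β' :=
      Finset.single_le_sum (f := fun β' => b β * b β' * c β β') (fun _ _ => Nat.zero_le _)
        (Finset.mem_univ β)
    rw [← h2] at h3
    have h4 : 0 < b β * b β := Nat.mul_pos (Nat.pos_of_ne_zero hb0) (Nat.pos_of_ne_zero hb0)
    have h5 : c β β ≤ 1 := by
      by_contra hcon
      have hcon' : 2 ≤ c β β := by omega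
      have : b β * b β * 2 ≤ b β * b β * c β β := Nat.mul_le_mul_left _ hcon'
      omega
    exact le_antisymm h5 (hc1 β)
  have hirr : Cfsg.IsIrrCharacter G ((β : G → ℂ) * χ) := by
    apply isIrrCharacter_of_classInner_self (hβχ β)
    rw [hc β β, hcβ]
    simp
  exact hirr

end Forward

/-- an irreducible character that is trivial on the kernel of a surjection descends -/
theorem exists_irr_descend {H K : Type u} [Group H] [Group K] [Finite H] (f : H →* K)
    (hf : Function.Surjective f) {χ : H → ℂ} (hχ : Cfsg.IsIrrCharacter H χ)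
    (hker : ∀ h ∈ f.ker, χ h = χ 1) :
    ∃ ψ : K → ℂ, Cfsg.IsIrrCharacter K ψ ∧ ∀ h : H, ψ (f h) = χ h := by
  obtain ⟨ψ₀, hψ₀, hψ₀eq⟩ := Helper80.exists_isIrrCharacter_deflate f.ker hχ hker
  let e : H ⧸ f.ker ≃* K := QuotientGroup.quotientKerEquivOfSurjective f hf
  refine ⟨fun k => ψ₀ (e.symm k), Helper80.isIrrCharacter_comp_mulEquiv e.symm hψ₀, fun h => ?_⟩
  have h1 : e.symm (f h) = (h : H ⧸ f.ker) := by
    rw [MulEquiv.symm_apply_eq]
    rfl
  show ψ₀ (e.symm (f h)) = χ h
  rw [h1]
  exact hψ₀eq h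

/-- central elements act on an irreducible character through a linear character -/
theorem exists_central_hom {H Z : Type*} [Group H] [Group Z] (f : Z →* H)
    (hf : ∀ (z : Z) (h : H), f z * h = h * f z) {ψ : H → ℂ} (hψ : Cfsg.IsIrrCharacter H ψ) :
    ∃ lam : Z →* ℂˣ, ∀ z : Z, ψ (f z) = ψ 1 * ((lam z : ℂˣ) : ℂ) := by
  obtain ⟨n, ρ, hirr, rfl⟩ := hψ
  haveI hirr' : ρ.IsIrreducible := hirr
  have hn : 0 < n := centExt_d_pos ρ
  have hsc : ∀ z : Z, ∃ c : ℂ, ρ (f z) = c • (1 : Module.End ℂ (Fin n → ℂ)) := by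
    intro z
    apply Helper80.schur_scalar ρ
    intro g
    rw [← map_mul, ← map_mul, hf z g]
  let c : Z → ℂ := fun z => scalarOf ⟨0, hn⟩ (ρ (f z))
  have hc : ∀ z : Z, ρ (f z) = c z • (1 : Module.End ℂ (Fin n → ℂ)) := by
    intro z
    obtain ⟨c', hc'⟩ := hsc z
    show ρ (f z) = scalarOf ⟨0, hn⟩ (ρ (f z)) • (1 : Module.End ℂ (Fin n → ℂ))
    rw [hc', scalarOf_smul_one]
  let lamH : Z →* ℂˣ := MonoidHom.toHomUnits
    { toFun := c
      map_one' := by
        show scalarOf ⟨0, hn⟩ (ρ (f 1)) = 1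
        rw [map_one, map_one]
        have := scalarOf_smul_one (⟨0, hn⟩ : Fin n) 1
        rwa [one_smul] at this
      map_mul' := fun z z' => by
        show scalarOf ⟨0, hn⟩ (ρ (f (z * z'))) = c z * c z'
        rw [map_mul, map_mul, hc z, hc z', smul_mul_assoc, one_mul, smul_smul, scalarOf_smul_one] }
  refine ⟨lamH, fun z => ?_⟩
  rw [Helper80.char_one_fin]
  show LinearMap.trace ℂ _ (ρ (f z)) = (n : ℂ) * c z
  rw [hc z, map_smul, LinearMap.trace_one, Module.finrank_fin_fun, smul_eq_mul, mul_comm]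

/-- an irreducible character restricted to a subgroup of central elements is a multiple of any
of its irreducible constituents -/
theorem res_central_eq {Γ : Type u} [Group Γ] (G Z : Subgroup Γ) [Finite G] [Fintype Z]
    (hZG : Z ≤ G) (hcomm : ∀ z ∈ Z, ∀ g ∈ G, z * g = g * z) {β : G → ℂ}
    (hβ : Cfsg.IsIrrCharacter G β) {θ : Z → ℂ} (hθ : Cfsg.IsIrrCharacter Z θ)
    (hne : Cfsg.classInner (fun z : Z => β ⟨z, hZG z.2⟩) θ ≠ 0) :
    ∀ z : Z, β ⟨z, hZG z.2⟩ = β 1 * θ z := by
  obtain ⟨lamH, hlam⟩ := exists_central_hom (Subgroup.inclusion hZG)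
    (fun z g => Subtype.ext (hcomm z z.2 g g.2)) hβ
  have hcirr := Helper80.isIrrCharacter_of_hom lamH
  have hres : (fun z : Z => β ⟨z, hZG z.2⟩) = (β 1) • (fun z => ((lamH z : ℂˣ) : ℂ)) :=
    funext fun z => hlam z
  rw [hres, classInner_smul_left] at hne
  have hcθ : (fun z => ((lamH z : ℂˣ) : ℂ)) = θ := by
    by_contra hcon
    exact hne (by rw [classInner_irr_ne hcirr hθ hcon, mul_zero])
  intro z
  rw [← hcθ]
  exact hlam z

end Cfsg.Agent.Lib.Helper75
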