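import Mathlib
import Cfsg.Agent.Lib.Helper75.Gallagher2
import Cfsg.Agent.Lib.Helper75.GaloisChar
import Cfsg.Agent.Lib.Helper15.LinChar
import Cfsg.Agent.S0161

/-!
# Characters fixed by a Galois automorphism of `2`-power order, over a normal subgroup of odd index

The Galois automorphism is given through a power map `g ↦ g ^ k` (`k` prime to `|G|`) that has
`2`-power order and inverts the elements of odd order.  A fixed `θ ∈ Irr(N)`, `|G : N|` odd, lies
under exactly one fixed `χ ∈ Irr(G)`.
-/

set_option autoImplicit false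
set_option linter.style.haveILetI false

namespace Cfsg.Agent.Lib.Helper75

open Representation Module
open Cfsg.Agent.Lib.Helper3
open scoped ComplexConjugate

universe u

section Parity

/-- a self-map of `2`-power order: a sum of an invariant function mod `2` only sees the fixed
points -/
theorem sum_iterate_two_pow {S : Type*} [Fintype S] [DecidableEq S] (e : ℕ) :
    ∀ (τ : S → S), (∀ s, τ^[2 ^ e] s = s) → ∀ (f : S → ZMod 2), (∀ s, f (τ s) = f s) →
      ∑ s, f s = ∑ s ∈ Finset.univ.filter (fun s => τ s = s), f s := by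
  induction e with
  | zero =>
    intro τ hτ f _
    have h : ∀ s, τ s = s := by
      intro s
      simpa using hτ s
    rw [Finset.filter_true_of_mem (fun s _ => h s)]
  | succ e ih =>
    intro τ hτ f hf
    have h2 : ∀ s, (τ ∘ τ)^[2 ^ e] s = s := by
      intro s
      have h3 := hτ s
      rw [pow_succ, mul_comm, Function.iterate_mul] at h3
      exact h3
    rw [ih (τ ∘ τ) h2 f (fun s => by rw [Function.comp_apply, hf, hf])]
    rw [← Finset.sum_filter_add_sum_filter_not (Finset.univ.filter (fun s => (τ ∘ τ) s = s))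
      (fun s => τ s = s)]
    have hzero : ∑ s ∈ (Finset.univ.filter (fun s => (τ ∘ τ) s = s)).filter
        (fun s => ¬ τ s = s), f s = 0 := by
      apply Finset.sum_involution (fun s _ => τ s)
      · intro s _
        rw [hf]
        exact CharTwo.add_self_eq_zero _
      · intro s hs _
        simp only [Finset.mem_filter, Finset.mem_univ, true_and, Function.comp_apply] at hs
        exact hs.2
      · intro s hs
        simp only [Finset.mem_filter, Finset.mem_univ, true_and, Function.comp_apply] at hs ⊢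
        refine ⟨by rw [hs.1], ?_⟩
        rw [hs.1]
        exact fun h => hs.2 h.symm
      · intro s hs
        simp only [Finset.mem_filter, Finset.mem_univ, true_and, Function.comp_apply] at hs
        exact hs.1
    rw [hzero, add_zero]
    refine Finset.sum_congr ?_ (fun _ _ => rfl)
    ext s
    simp only [Finset.mem_filter, Finset.mem_univ, true_and, Function.comp_apply]
    constructor
    · intro h
      exact h.2
    · intro h
      exact ⟨by rw [h, h], h⟩

end Parity

section Twist

variable {G : Type u} [Group G]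

/-- twisting a function by a power map -/
def powTw (k : ℕ) (f : G → ℂ) : G → ℂ := fun g => f (g ^ k)

theorem powTw_apply (k : ℕ) (f : G → ℂ) (g : G) : powTw k f g = f (g ^ k) := rfl

theorem powTw_iterate (k : ℕ) (f : G → ℂ) (j : ℕ) : (powTw k)^[j] f = powTw (k ^ j) f := by
  induction j with
  | zero =>
    funext g
    simp [powTw]
  | succ j ih =>
    rw [Function.iterate_succ_apply', ih]
    funext g
    show f ((g ^ k) ^ (k ^ j)) = f (g ^ (k ^ (j + 1)))
    rw [← pow_mul, pow_succ, mul_comm]

theorem classInner_powTw [Fintype G] {k : ℕ} (hk : Nat.Coprime k (Nat.card G)) (f h : G → ℂ) :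
    Cfsg.classInner (powTw k f) (powTw k h) = Cfsg.classInner f h := by
  unfold Cfsg.classInner powTw
  congr 1
  exact Equiv.sum_comp (powCoprime hk.symm) (fun g => f g * conj (h g))

theorem isIrr_powTw [Fintype G] {k : ℕ} (hk : Nat.Coprime k (Nat.card G)) {χ : G → ℂ}
    (hχ : Cfsg.IsIrrCharacter G χ) : Cfsg.IsIrrCharacter G (powTw k χ) :=
  isIrrCharacter_pow hχ k hk

theorem coprime_card_subgroup [Finite G] (N : Subgroup G) {k : ℕ}
    (hk : Nat.Coprime k (Nat.card G)) : Nat.Coprime k (Nat.card N) :=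
  Nat.Coprime.coprime_dvd_right (Subgroup.card_subgroup_dvd_card N) hk

/-- in a quotient of odd order by `N`, the power map `k` inverts -/
theorem pow_succ_mem_of_odd_index [Finite G] (N : Subgroup G) [N.Normal] (hidx : Odd N.index)
    (k : ℕ) (hk₂ : ∀ g : G, Odd (orderOf g) → g ^ k = g⁻¹) (g : G) : g ^ (k + 1) ∈ N := by
  have ho : orderOf g ≠ 0 := (orderOf_pos g).ne'
  obtain ⟨a, m, hm, hom⟩ := Nat.exists_eq_two_pow_mul_odd ho
  have hu : Odd (orderOf (g ^ (2 ^ a))) := by
    apply Odd.of_dvd_nat hm
    apply orderOf_dvd_of_pow_eq_one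
    rw [← pow_mul, ← hom, pow_orderOf_eq_one]
  have h1 := hk₂ _ hu
  have h2 : (g ^ (k + 1)) ^ (2 ^ a) = 1 := by
    rw [← pow_mul, mul_comm, pow_mul, pow_succ, h1, inv_mul_cancel]
  have h3 : ((g ^ (k + 1) : G) : G ⧸ N) ^ (2 ^ a) = 1 := by
    rw [← QuotientGroup.mk_pow, h2, QuotientGroup.mk_one]
  have h4 : ((g ^ (k + 1) : G) : G ⧸ N) ^ N.index = 1 := by
    rw [Subgroup.index_eq_card]
    exact pow_card_eq_one'
  have h5 : Nat.gcd (2 ^ a) N.index = 1 := by
    apply Nat.Coprime.pow_left
    exact (Nat.coprime_two_left.mpr hidx)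
  have h6 := pow_gcd_eq_one.mpr ⟨h3, h4⟩
  rw [h5, pow_one] at h6
  exact (QuotientGroup.eq_one_iff _).mp h6

end Twist

section Main

variable {G : Type u} [Group G] [Fintype G] (N : Subgroup G) [hN : N.Normal] [Fintype N]

omit [Fintype N] in
include hN in
/-- a fixed irreducible character trivial on `N` is trivial -/
theorem eq_one_of_fixed_of_trivial_on (hidx : Odd N.index) (k : ℕ)
    (hk₂ : ∀ g : G, Odd (orderOf g) → g ^ k = g⁻¹) {β : G → ℂ} (hβ : Cfsg.IsIrrCharacter G β)
    (hβN : ∀ n : N, β n = β 1) (hfix : powTw k β = β) : β = fun _ => 1 := by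
  obtain ⟨ψ, hψ, hval⟩ := Cfsg.Agent.Lib.Helper80.exists_isIrrCharacter_deflate (N := N) hβ
    (fun x hx => hβN ⟨x, hx⟩)
  have hodd : Odd (Nat.card (G ⧸ N)) := by
    rw [← Subgroup.index_eq_card]
    exact hidx
  have hreal : ∀ x : G ⧸ N, (ψ x).im = 0 := by
    intro x
    induction x using QuotientGroup.induction_on with
    | H g =>
      have h1 : ψ ((g : G ⧸ N)) = conj (ψ (g : G ⧸ N)) := by
        have h2 : β (g ^ k) = β g := congrFun hfix g
        have h3 : ((g ^ k : G) : G ⧸ N) = (g : G ⧸ N)⁻¹ := by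
          have h4 := (QuotientGroup.eq_one_iff (N := N) (g ^ (k + 1))).mpr
            (pow_succ_mem_of_odd_index N hidx k hk₂ g)
          rw [pow_succ, QuotientGroup.mk_mul] at h4
          exact eq_inv_of_mul_eq_one_left h4
        rw [← isCharacter_inv (isCharacter_of_irr hψ), ← h3, hval, hval, h2]
      exact Complex.conj_eq_iff_im.mp h1.symm
  have h5 := Cfsg.Agent.S0161.result hodd ⟨ψ, hψ⟩ hreal
  funext g
  rw [← hval g]
  exact congrFun h5 _

/-- the inner product of the restrictions of two irreducible characters over a common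
constituent -/
theorem res_inner_eq {χ₁ χ₂ : G → ℂ} (h₁ : Cfsg.IsIrrCharacter G χ₁)
    (h₂ : Cfsg.IsIrrCharacter G χ₂) {θ : N → ℂ} (hθ : Cfsg.IsIrrCharacter N θ)
    (ho₁ : Cfsg.classInner (fun n : N => χ₁ n) θ ≠ 0) :
    Cfsg.classInner (fun n : N => χ₁ n) (fun n : N => χ₂ n) =
      Cfsg.classInner (fun n : N => χ₁ n) θ * (Nat.card (Constit N χ₁) : ℂ) *
        conj (Cfsg.classInner (fun n : N => χ₂ n) θ) := by
  classical
  haveI : Fintype (Constit N χ₁) := Fintype.ofFinite _
  have hcf₂ := isClassFunction_of_isCharacter (isCharacter_of_irr h₂)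
  conv_lhs => rw [res_eq_smul_sum_constit N h₁ hθ ho₁]
  rw [classInner_smul_left, classInner_sum_left]
  have h3 : ∀ θ' : Constit N χ₁, Cfsg.classInner (θ'.1 : N → ℂ) (fun n : N => χ₂ n) =
      conj (Cfsg.classInner (fun n : N => χ₂ n) θ) := by
    intro θ'
    obtain ⟨g, hg⟩ := clifford_conj N h₁ hθ θ'.1.2 ho₁ θ'.2
    rw [classInner_conj_symm, ← hg, classInner_res_conjChar N hcf₂]
  rw [Finset.sum_congr rfl (fun θ' _ => h3 θ'), Finset.sum_const, Finset.card_univ,
    nsmul_eq_mul, ← Nat.card_eq_fintype_card]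
  ring

end Main

end Cfsg.Agent.Lib.Helper75
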