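import Mathlib
import Cfsg.Agent.Lib.Helper75.OddGal

/-!
# Characters fixed by a Galois automorphism of `2`-power order: parity, uniqueness, existence
-/

set_option autoImplicit false
set_option linter.style.haveILetI false

namespace Cfsg.Agent.Lib.Helper75

open Representation Module
open Cfsg.Agent.Lib.Helper3
open scoped ComplexConjugate

universe u

section Main

variable {G : Type u} [Group G] [Fintype G] (N : Subgroup G) [hN : N.Normal] [Fintype N]

/-- the twist as a self-map of the irreducible characters -/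
noncomputable def twIrr {k : ℕ} (hk : Nat.Coprime k (Nat.card G)) (β : Cfsg.IrrCharacter G) :
    Cfsg.IrrCharacter G := ⟨powTw k β.1, isIrr_powTw hk β.2⟩

theorem twIrr_iterate {k : ℕ} (hk : Nat.Coprime k (Nat.card G)) (β : Cfsg.IrrCharacter G)
    (j : ℕ) : (((twIrr hk)^[j] β : Cfsg.IrrCharacter G) : G → ℂ) = powTw (k ^ j) β.1 := by
  induction j with
  | zero =>
    funext g
    simp [powTw]
  | succ j ih =>
    rw [Function.iterate_succ_apply']
    show powTw k (((twIrr hk)^[j] β : Cfsg.IrrCharacter G) : G → ℂ) = _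
    rw [ih]
    funext g
    show β.1 ((g ^ k) ^ (k ^ j)) = β.1 (g ^ (k ^ (j + 1)))
    rw [← pow_mul, pow_succ, mul_comm]

theorem twIrr_iterate_fixed {k : ℕ} (hk : Nat.Coprime k (Nat.card G)) (e : ℕ)
    (hke : ∀ g : G, g ^ (k ^ (2 ^ e)) = g) (β : Cfsg.IrrCharacter G) :
    (twIrr hk)^[2 ^ e] β = β := by
  apply Subtype.ext
  rw [twIrr_iterate]
  funext g
  show β.1 (g ^ (k ^ (2 ^ e))) = β.1 g
  rw [hke]

/-- the parity lemma for sums over the irreducible characters -/
theorem sum_irr_parity [Fintype (Cfsg.IrrCharacter G)] [DecidableEq (Cfsg.IrrCharacter G)]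
    {k : ℕ} (hk : Nat.Coprime k (Nat.card G)) (e : ℕ)
    (hke : ∀ g : G, g ^ (k ^ (2 ^ e)) = g) (f : Cfsg.IrrCharacter G → ℕ)
    (hf : ∀ β, f (twIrr hk β) = f β) :
    ((∑ β, f β : ℕ) : ZMod 2) =
      ∑ β ∈ Finset.univ.filter (fun β : Cfsg.IrrCharacter G => twIrr hk β = β),
        (f β : ZMod 2) := by
  rw [Nat.cast_sum]
  exact sum_iterate_two_pow e (twIrr hk) (twIrr_iterate_fixed hk e hke)
    (fun β => (f β : ZMod 2)) (fun β => by rw [hf])

/-- **parity of the inner product of restrictions** of two fixed irreducible characters -/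
theorem res_inner_parity (hidx : Odd N.index) (k : ℕ) (hk : Nat.Coprime k (Nat.card G)) (e : ℕ)
    (hke : ∀ g : G, g ^ (k ^ (2 ^ e)) = g)
    (hk₂ : ∀ g : G, Odd (orderOf g) → g ^ k = g⁻¹)
    {χ₁ χ₂ : G → ℂ} (h₁ : Cfsg.IsIrrCharacter G χ₁) (h₂ : Cfsg.IsIrrCharacter G χ₂)
    (hf₁ : powTw k χ₁ = χ₁) (hf₂ : powTw k χ₂ = χ₂) :
    ∃ r : ℕ, Cfsg.classInner (fun n : N => χ₁ n) (fun n : N => χ₂ n) = r ∧
      (Odd r ↔ χ₁ = χ₂) := by
  classical
  haveI : Fintype (Cfsg.IrrCharacter G) := Fintype.ofFinite _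
  have hkN : Nat.Coprime k (Nat.card N) := coprime_card_subgroup N hk
  set ψ : G → ℂ := χ₁ * (fun g => conj (χ₂ g)) with hψdef
  have hψ : Cfsg.IsCharacter G ψ :=
    Cfsg.Agent.Lib.Helper80.isCharacter_mul (isCharacter_of_irr h₁)
      (Cfsg.Agent.Lib.Helper80.isCharacter_conj (isCharacter_of_irr h₂))
  have hψcf := isClassFunction_of_isCharacter hψ
  have hψtw : powTw k ψ = ψ := by
    funext g
    show χ₁ (g ^ k) * conj (χ₂ (g ^ k)) = χ₁ g * conj (χ₂ g)
    rw [show χ₁ (g ^ k) = χ₁ g from congrFun hf₁ g, show χ₂ (g ^ k) = χ₂ g from congrFun hf₂ g]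
  have h1N : Cfsg.IsIrrCharacter N (fun _ : N => (1 : ℂ)) :=
    Cfsg.Agent.Lib.Helper80.isIrrCharacter_one
  have h1G : Cfsg.IsIrrCharacter G (fun _ : G => (1 : ℂ)) :=
    Cfsg.Agent.Lib.Helper80.isIrrCharacter_one
  set R : G → ℂ := Cfsg.indFun N (fun _ : N => (1 : ℂ)) with hRdef
  have hR : Cfsg.IsCharacter G R := isCharacter_indFun N (isCharacter_of_irr h1N)
  obtain ⟨m, hm, hsum⟩ := char_eq_sum_irr hR
  choose c hc using fun β : Cfsg.IrrCharacter G => classInner_irr_char_nat hψ β.2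
  -- the restricted inner product
  have e1 : Cfsg.classInner (fun n : N => χ₁ n) (fun n : N => χ₂ n) =
      conj (Cfsg.classInner R ψ) := by
    rw [hRdef, frobenius_reciprocity N _ hψcf, ← classInner_conj_symm]
    unfold Cfsg.classInner
    congr 1
    refine Finset.sum_congr rfl (fun n _ => ?_)
    simp [hψdef]
  have e2 : Cfsg.classInner R ψ = ((∑ β : Cfsg.IrrCharacter G, m β * c β : ℕ) : ℂ) := by
    conv_lhs => rw [hsum]
    rw [classInner_sum_left]
    push_cast
    refine Finset.sum_congr rfl (fun β _ => ?_)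
    rw [classInner_smul_left, hc β]
  -- multiplicities through Frobenius reciprocity
  have hmres : ∀ β : Cfsg.IrrCharacter G, (m β : ℂ) =
      Cfsg.classInner (fun _ : N => (1 : ℂ)) (fun n : N => (β : G → ℂ) n) := by
    intro β
    rw [← hm β, hRdef,
      frobenius_reciprocity N _ (isClassFunction_of_isCharacter (isCharacter_of_irr β.2))]
  -- invariance under the twist
  have hmτ : ∀ β, m (twIrr hk β) * c (twIrr hk β) = m β * c β := by
    intro β
    have hm1 : m (twIrr hk β) = m β := by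
      have h3 : (m (twIrr hk β) : ℂ) = (m β : ℂ) := by
        rw [hmres, hmres]
        have h4 := classInner_powTw (G := N) hkN (fun _ : N => (1 : ℂ))
          (fun n : N => (β : G → ℂ) n)
        rw [← h4]
        rfl
      exact_mod_cast h3
    have hc1 : c (twIrr hk β) = c β := by
      have h3 : (c (twIrr hk β) : ℂ) = (c β : ℂ) := by
        rw [← hc, ← hc]
        have h4 := classInner_powTw hk (β : G → ℂ) ψ
        rw [hψtw] at h4
        exact h4
      exact_mod_cast h3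
    rw [hm1, hc1]
  have hpar := sum_irr_parity hk e hke (fun β => m β * c β) hmτ
  -- fixed characters with nonzero multiplicity are trivial
  have hfixed : ∀ β : Cfsg.IrrCharacter G, twIrr hk β = β → m β ≠ 0 →
      β = ⟨fun _ => 1, h1G⟩ := by
    intro β hβ hmβ
    apply Subtype.ext
    have h3 : Cfsg.classInner (fun n : N => (β : G → ℂ) n) (fun _ : N => (1 : ℂ)) ≠ 0 := by
      rw [classInner_conj_symm, ← hmres]
      simpa using hmβ
    have h4 := res_eq_smul_of_invariant N β.2 h1N h3 (fun g => rfl)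
    have h5 : ∀ n : N, (β : G → ℂ) n = (β : G → ℂ) 1 := by
      intro n
      have h6 := congrFun h4 n
      have h7 := congrFun h4 1
      simp only [Pi.smul_apply, smul_eq_mul, mul_one] at h6 h7
      rw [h6]
      exact h7.symm
    exact eq_one_of_fixed_of_trivial_on N hidx k hk₂ β.2 h5 (congrArg Subtype.val hβ)
  -- the trivial character
  have hm1 : m ⟨fun _ => 1, h1G⟩ = 1 := by
    have h3 : (m ⟨fun _ => 1, h1G⟩ : ℂ) = 1 := by
      rw [hmres]
      exact classInner_irr_self h1N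
    exact_mod_cast h3
  have hc1 : (c ⟨fun _ => 1, h1G⟩ : ℂ) = Cfsg.classInner χ₂ χ₁ := by
    rw [← hc]
    unfold Cfsg.classInner
    congr 1
    refine Finset.sum_congr rfl (fun g _ => ?_)
    simp [hψdef, mul_comm]
  have hsumfix : ∑ β ∈ Finset.univ.filter (fun β : Cfsg.IrrCharacter G => twIrr hk β = β),
      ((m β * c β : ℕ) : ZMod 2) = ((c ⟨fun _ => 1, h1G⟩ : ℕ) : ZMod 2) := by
    rw [Finset.sum_eq_single_of_mem (⟨fun _ => 1, h1G⟩ : Cfsg.IrrCharacter G)]
    · rw [hm1, one_mul]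
    · simp only [Finset.mem_filter, Finset.mem_univ, true_and]
      apply Subtype.ext
      rfl
    · intro β hβ hne
      simp only [Finset.mem_filter, Finset.mem_univ, true_and] at hβ
      have h3 : m β = 0 := by
        by_contra h4
        exact hne (hfixed β hβ h4)
      rw [h3, zero_mul, Nat.cast_zero]
  refine ⟨∑ β : Cfsg.IrrCharacter G, m β * c β, ?_, ?_⟩
  · rw [e1, e2, Complex.conj_natCast]
  · rw [← ZMod.natCast_eq_one_iff_odd, hpar, hsumfix]
    by_cases h : χ₁ = χ₂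
    · have h3 : (c ⟨fun _ => 1, h1G⟩ : ℂ) = 1 := by
        rw [hc1, h]
        exact classInner_irr_self h₂
      have h4 : c ⟨fun _ => 1, h1G⟩ = 1 := by exact_mod_cast h3
      rw [h4]
      simp [h]
    · have h3 : (c ⟨fun _ => 1, h1G⟩ : ℂ) = 0 := by
        rw [hc1]
        exact classInner_irr_ne h₂ h₁ (fun h' => h h'.symm)
      have h4 : c ⟨fun _ => 1, h1G⟩ = 0 := by exact_mod_cast h3
      rw [h4]
      simp [h]

/-- **uniqueness** of the fixed irreducible character over a given constituent -/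
theorem fixed_over_unique (hidx : Odd N.index) (k : ℕ) (hk : Nat.Coprime k (Nat.card G)) (e : ℕ)
    (hke : ∀ g : G, g ^ (k ^ (2 ^ e)) = g)
    (hk₂ : ∀ g : G, Odd (orderOf g) → g ^ k = g⁻¹)
    {θ : N → ℂ} (hθ : Cfsg.IsIrrCharacter N θ)
    {χ₁ χ₂ : G → ℂ} (h₁ : Cfsg.IsIrrCharacter G χ₁) (h₂ : Cfsg.IsIrrCharacter G χ₂)
    (hf₁ : powTw k χ₁ = χ₁) (hf₂ : powTw k χ₂ = χ₂)
    (ho₁ : Cfsg.classInner (fun n : N => χ₁ n) θ ≠ 0)
    (ho₂ : Cfsg.classInner (fun n : N => χ₂ n) θ ≠ 0) : χ₁ = χ₂ := by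
  classical
  obtain ⟨a₁, ha₁⟩ := classInner_char_irr_nat (isCharacter_res N (isCharacter_of_irr h₁)) hθ
  obtain ⟨a₂, ha₂⟩ := classInner_char_irr_nat (isCharacter_res N (isCharacter_of_irr h₂)) hθ
  obtain ⟨r₁₁, hr₁₁, hodd₁₁⟩ := res_inner_parity N hidx k hk e hke hk₂ h₁ h₁ hf₁ hf₁
  obtain ⟨r₂₂, hr₂₂, hodd₂₂⟩ := res_inner_parity N hidx k hk e hke hk₂ h₂ h₂ hf₂ hf₂
  obtain ⟨r₁₂, hr₁₂, hodd₁₂⟩ := res_inner_parity N hidx k hk e hke hk₂ h₁ h₂ hf₁ hf₂
  rw [res_inner_eq N h₁ h₁ hθ ho₁, ha₁, Complex.conj_natCast] at hr₁₁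
  rw [res_inner_eq N h₂ h₂ hθ ho₂, ha₂, Complex.conj_natCast] at hr₂₂
  rw [res_inner_eq N h₁ h₂ hθ ho₁, ha₁, ha₂, Complex.conj_natCast] at hr₁₂
  have e₁₁ : a₁ * Nat.card (Constit N χ₁) * a₁ = r₁₁ := by exact_mod_cast hr₁₁
  have e₂₂ : a₂ * Nat.card (Constit N χ₂) * a₂ = r₂₂ := by exact_mod_cast hr₂₂
  have e₁₂ : a₁ * Nat.card (Constit N χ₁) * a₂ = r₁₂ := by exact_mod_cast hr₁₂
  have o₁₁ : Odd r₁₁ := hodd₁₁.mpr rfl
  have o₂₂ : Odd r₂₂ := hodd₂₂.mpr rfl
  rw [← e₁₁] at o₁₁
  rw [← e₂₂] at o₂₂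
  have oa₁ : Odd a₁ := (Nat.odd_mul.mp o₁₁).2
  have ot₁ : Odd (Nat.card (Constit N χ₁)) := (Nat.odd_mul.mp (Nat.odd_mul.mp o₁₁).1).2
  have oa₂ : Odd a₂ := (Nat.odd_mul.mp o₂₂).2
  apply hodd₁₂.mp
  rw [← e₁₂]
  exact (oa₁.mul ot₁).mul oa₂

/-- **existence** of a fixed irreducible character over a fixed constituent -/
theorem exists_fixed_over (hidx : Odd N.index) (k : ℕ) (hk : Nat.Coprime k (Nat.card G)) (e : ℕ)
    (hke : ∀ g : G, g ^ (k ^ (2 ^ e)) = g)
    {θ : N → ℂ} (hθ : Cfsg.IsIrrCharacter N θ) (hθfix : powTw k θ = θ) :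
    ∃ χ : G → ℂ, Cfsg.IsIrrCharacter G χ ∧ powTw k χ = χ ∧
      Cfsg.classInner (fun n : N => χ n) θ ≠ 0 := by
  classical
  haveI : Fintype (Cfsg.IrrCharacter G) := Fintype.ofFinite _
  have hkN : Nat.Coprime k (Nat.card N) := coprime_card_subgroup N hk
  have hθcf := isClassFunction_of_isCharacter (isCharacter_of_irr hθ)
  set I : G → ℂ := Cfsg.indFun N θ with hIdef
  have hI : Cfsg.IsCharacter G I := isCharacter_indFun N (isCharacter_of_irr hθ)
  have hIcf := indFun_isClassFunction N θ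
  obtain ⟨a, ha, hsum⟩ := char_eq_sum_irr hI
  have hares : ∀ χ : Cfsg.IrrCharacter G, (a χ : ℂ) =
      Cfsg.classInner θ (fun n : N => (χ : G → ℂ) n) := by
    intro χ
    rw [← ha χ, hIdef,
      frobenius_reciprocity N _ (isClassFunction_of_isCharacter (isCharacter_of_irr χ.2))]
  -- the norm of the induced character
  have e1 : Cfsg.classInner I I = ((∑ χ : Cfsg.IrrCharacter G, a χ * a χ : ℕ) : ℂ) := by
    conv_lhs => lhs; rw [hsum]
    rw [classInner_sum_left]
    push_cast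
    refine Finset.sum_congr rfl (fun χ _ => ?_)
    rw [classInner_smul_left, classInner_conj_symm, ha χ, Complex.conj_natCast]
  -- the norm through the inertia group
  have hNT : N ≤ inertia N θ := le_inertia N hθcf
  have e2 : Cfsg.classInner I I = (N.relIndex (inertia N θ) : ℂ) := by
    rw [hIdef, frobenius_reciprocity N _ hIcf, indFun_res N θ, classInner_conj_symm,
      classInner_smul_left, classInner_sum_left]
    have h3 : ∀ x : G, Cfsg.classInner (conjChar N θ x) θ =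
        if x ∈ inertia N θ then 1 else 0 := by
      intro x
      by_cases hx : x ∈ inertia N θ
      · rw [if_pos hx, (mem_inertia_iff N θ x).mp hx]
        exact classInner_irr_self hθ
      · rw [if_neg hx]
        exact classInner_irr_ne (isIrrCharacter_conjChar N hθ x) hθ
          (fun h => hx ((mem_inertia_iff N θ x).mpr h))
    rw [Finset.sum_congr rfl (fun x _ => h3 x)]
    have h6 : (∑ x : G, (if x ∈ inertia N θ then (1 : ℂ) else 0)) =
        (Nat.card (inertia N θ) : ℂ) := by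
      rw [Finset.sum_boole, Nat.card_eq_fintype_card, Fintype.card_subtype]
    rw [h6]
    have h4 : (Nat.card (inertia N θ) : ℂ) =
        (Nat.card N : ℂ) * (N.relIndex (inertia N θ) : ℂ) := by
      have h5 := Subgroup.card_mul_index (N.subgroupOf (inertia N θ))
      rw [Nat.card_congr (Subgroup.subgroupOfEquivOfLe hNT).toEquiv] at h5
      rw [← h5]
      push_cast
      rfl
    have hN0 : (Nat.card N : ℂ) ≠ 0 := by
      exact_mod_cast (Nat.card_pos (α := N)).ne'
    rw [h4]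
    simp only [map_mul, map_inv₀, Complex.conj_natCast]
    field_simp
  have hodd : Odd (∑ χ : Cfsg.IrrCharacter G, a χ * a χ) := by
    have h3 : (∑ χ : Cfsg.IrrCharacter G, a χ * a χ) = N.relIndex (inertia N θ) := by
      have h4 := e1.symm.trans e2
      exact_mod_cast h4
    rw [h3]
    exact Odd.of_dvd_nat hidx (Subgroup.relIndex_dvd_index_of_le hNT)
  have haτ : ∀ χ, a (twIrr hk χ) * a (twIrr hk χ) = a χ * a χ := by
    intro χ
    have h3 : a (twIrr hk χ) = a χ := by
      have h4 : (a (twIrr hk χ) : ℂ) = (a χ : ℂ) := by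
        rw [hares, hares]
        have h5 := classInner_powTw (G := N) hkN θ (fun n : N => (χ : G → ℂ) n)
        rw [hθfix] at h5
        rw [← h5]
        rfl
      exact_mod_cast h4
    rw [h3]
  have hpar := sum_irr_parity hk e hke (fun χ => a χ * a χ) haτ
  rw [ZMod.natCast_eq_one_iff_odd.mpr hodd] at hpar
  by_contra hcon0
  have hcon : ∀ χ : G → ℂ, Cfsg.IsIrrCharacter G χ → powTw k χ = χ →
      Cfsg.classInner (fun n : N => χ n) θ = 0 := by
    intro χ h1 h2
    by_contra h3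
    exact hcon0 ⟨χ, h1, h2, h3⟩
  have hzero : ∑ χ ∈ Finset.univ.filter (fun χ : Cfsg.IrrCharacter G => twIrr hk χ = χ),
      ((a χ * a χ : ℕ) : ZMod 2) = 0 := by
    apply Finset.sum_eq_zero
    intro χ hχ
    simp only [Finset.mem_filter, Finset.mem_univ, true_and] at hχ
    have h3 := hcon χ.1 χ.2 (congrArg Subtype.val hχ)
    have h4 : (a χ : ℂ) = 0 := by
      rw [hares, classInner_conj_symm, h3, map_zero]
    have h5 : a χ = 0 := by exact_mod_cast h4
    rw [h5]
    simp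
  rw [hzero] at hpar
  exact one_ne_zero hpar

end Main

end Cfsg.Agent.Lib.Helper75
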