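import Mathlib
import Cfsg.Agent.Lib.Helper75.OddGal2
import Cfsg.Agent.S0886
import Cfsg.Agent.S0888

/-!
# Characters fixed by a Galois automorphism of `2`-power order: extensions

An invariant fixed `θ ∈ Irr(N)`, `|G : N|` odd, extends to `G`, and the unique fixed irreducible
character over it is an extension.
-/

set_option autoImplicit false
set_option linter.style.haveILetI false

namespace Cfsg.Agent.Lib.Helper75

open Representation Module
open Cfsg.Agent.Lib.Helper3
open scoped ComplexConjugate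

universe u

section FixedExt

variable {G : Type u} [Group G] [Fintype G] (N : Subgroup G) [hN : N.Normal] [Fintype N]

/-- if a fixed `θ` extends to `G`, it has a fixed extension -/
theorem exists_fixed_extension (hidx : Odd N.index) (k : ℕ) (hk : Nat.Coprime k (Nat.card G))
    (hk₂ : ∀ g : G, Odd (orderOf g) → g ^ k = g⁻¹)
    {θ : N → ℂ} (hθ : Cfsg.IsIrrCharacter N θ) (hθfix : powTw k θ = θ)
    {χ' : G → ℂ} (h' : Cfsg.IsIrrCharacter G χ') (hext : ∀ n : N, χ' n = θ n) :
    ∃ χ : G → ℂ, Cfsg.IsIrrCharacter G χ ∧ powTw k χ = χ ∧ ∀ n : N, χ n = θ n := by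
  classical
  have hidx' := hidx
  have hresχ' : (fun n : N => χ' n) = θ := funext hext
  have hχN : Cfsg.IsIrrCharacter N (fun n : N => χ' n) := by
    rw [hresχ']
    exact hθ
  have hψ : Cfsg.IsIrrCharacter G (powTw k χ') := isIrr_powTw hk h'
  have hψres : (fun n : N => powTw k χ' n) = θ := by
    funext n
    show χ' ((n : G) ^ k) = θ n
    have h1 := hext (n ^ k)
    rw [Subgroup.coe_pow] at h1
    rw [h1]
    exact congrFun hθfix n
  have hψN : Cfsg.classInner (fun n : N => powTw k χ' n) (fun n : N => χ' n) ≠ 0 := by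
    rw [hψres, hresχ', classInner_irr_self hθ]
    exact one_ne_zero
  obtain ⟨β, hβ, hβN, hmul⟩ := gallagher_exists N h' hχN hψ hψN
  have hχ1 : χ' 1 ≠ 0 := Cfsg.Agent.Lib.Helper80.char_one_ne_zero h'
  have hβ1 : β 1 = 1 := by
    have h1 := congrFun hmul 1
    simp only [powTw_apply, one_pow, Pi.mul_apply] at h1
    have h2 : β 1 * χ' 1 = 1 * χ' 1 := by rw [← h1, one_mul]
    exact mul_right_cancel₀ hχ1 h2
  set f : G →* ℂˣ := Cfsg.Agent.Lib.Helper15.linCharHom (isCharacter_of_irr hβ) hβ1 with hf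
  have hfval : ∀ g, ((f g : ℂˣ) : ℂ) = β g := fun g => rfl
  have hfN : ∀ g : G, g ∈ N → f g = 1 := by
    intro g hg
    apply Units.ext
    rw [hfval, Units.val_one, ← hβ1]
    exact hβN ⟨g, hg⟩
  obtain ⟨j, hj⟩ := hidx
  have hpowm : ∀ g : G, f g ^ N.index = 1 := by
    intro g
    rw [← map_pow]
    apply hfN
    apply (QuotientGroup.eq_one_iff (N := N) _).mp
    rw [QuotientGroup.mk_pow, Subgroup.index_eq_card]
    exact pow_card_eq_one'
  set lam : G →* ℂˣ := f ^ (j + 1) with hlam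
  have hlamN : ∀ g : G, g ∈ N → lam g = 1 := by
    intro g hg
    rw [hlam, MonoidHom.pow_apply, hfN g hg, one_pow]
  have hlam2 : ∀ g : G, lam g * lam g = f g := by
    intro g
    rw [hlam, MonoidHom.pow_apply, ← pow_add]
    have h1 : j + 1 + (j + 1) = N.index + 1 := by omega
    rw [h1, pow_succ, hpowm, one_mul]
  have hlamk : ∀ g : G, lam (g ^ k) = (lam g)⁻¹ := by
    intro g
    have h1 := hlamN _ (pow_succ_mem_of_odd_index N hidx' k hk₂ g)
    rw [pow_succ, map_mul] at h1
    exact eq_inv_of_mul_eq_one_left h1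
  have hlamirr : Cfsg.IsIrrCharacter G (fun g => ((lam g : ℂˣ) : ℂ)) :=
    Cfsg.Agent.Lib.Helper80.isIrrCharacter_of_hom lam
  refine ⟨(fun g => ((lam g : ℂˣ) : ℂ)) * χ', gallagher_irr N h' hχN hlamirr ?_, ?_, ?_⟩
  · intro n
    show ((lam (n : G) : ℂˣ) : ℂ) = ((lam 1 : ℂˣ) : ℂ)
    rw [hlamN _ n.2, map_one]
  · funext g
    show ((lam (g ^ k) : ℂˣ) : ℂ) * χ' (g ^ k) = ((lam g : ℂˣ) : ℂ) * χ' g
    have h1 : χ' (g ^ k) = β g * χ' g := congrFun hmul g
    rw [h1, ← hfval, ← mul_assoc, ← Units.val_mul, hlamk, ← hlam2 g, inv_mul_cancel_left]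
  · intro n
    show ((lam (n : G) : ℂˣ) : ℂ) * χ' n = θ n
    rw [hlamN _ n.2, Units.val_one, one_mul, hext]

end FixedExt

section PrimePower

/-- an invariant fixed `θ` extends when `|G : N|` is a prime power -/
theorem exists_ext_of_prime_power_index (q : ℕ) [hq : Fact q.Prime] :
    ∀ (n : ℕ) (G : Type u) [Group G] [Fintype G] (N : Subgroup G) [hN : N.Normal] [Fintype N],
    N.index = q ^ n → Odd N.index → ∀ (k e : ℕ), Nat.Coprime k (Nat.card G) →
    (∀ g : G, g ^ (k ^ (2 ^ e)) = g) → (∀ g : G, Odd (orderOf g) → g ^ k = g⁻¹) →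
    ∀ (θ : N → ℂ), Cfsg.IsIrrCharacter N θ → powTw k θ = θ →
    (∀ (g : G) (n : N), θ ⟨g * n * g⁻¹, hN.conj_mem n n.2 g⟩ = θ n) →
    ∃ χ : G → ℂ, Cfsg.IsIrrCharacter G χ ∧ ∀ n : N, χ n = θ n := by
  intro n
  induction n with
  | zero =>
    intro G _ _ N hN _ hidx _ k e hk hke hk₂ θ hθ hθfix hinv
    have htop : N = ⊤ := Subgroup.index_eq_one.mp (by simpa using hidx)
    have hsub : Subsingleton (G ⧸ N) := by
      refine ⟨fun x y => ?_⟩
      induction x using QuotientGroup.induction_on with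
      | H a =>
        induction y using QuotientGroup.induction_on with
        | H b =>
          apply QuotientGroup.eq.mpr
          rw [htop]
          exact Subgroup.mem_top _
    exact Cfsg.Agent.S0886.result N isCyclic_of_subsingleton θ hθ hinv
  | succ n ih =>
    intro G _ _ N hN _ hidx hodd k e hk hke hk₂ θ hθ hθfix hinv
    classical
    -- a normal subgroup of index `q` above `N`
    have hcard : Nat.card (G ⧸ N) = q ^ (n + 1) := by
      rw [← Subgroup.index_eq_card]
      exact hidx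
    obtain ⟨K, hK⟩ := Sylow.exists_subgroup_card_pow_prime q (n := n) (G := G ⧸ N)
      (by rw [hcard]; exact pow_dvd_pow q (Nat.le_succ n))
    have hKidx : K.index = q := by
      have h1 := Subgroup.card_mul_index K
      rw [hK, hcard, pow_succ] at h1
      exact Nat.eq_of_mul_eq_mul_left (pow_pos hq.out.pos n) h1
    have hKn : K.Normal := by
      apply Subgroup.normal_of_index_eq_minFac_card
      rw [hKidx, hcard, Nat.Prime.pow_minFac hq.out (Nat.succ_ne_zero n)]
    set M : Subgroup G := K.comap (QuotientGroup.mk' N) with hM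
    have hMn : M.Normal := hKn.comap _
    have hNM : N ≤ M := by
      intro x hx
      show (QuotientGroup.mk' N x) ∈ K
      rw [QuotientGroup.mk'_apply, (QuotientGroup.eq_one_iff x).mpr hx]
      exact K.one_mem
    have hMidx : M.index = q := by
      rw [hM, Subgroup.index_comap_of_surjective K (QuotientGroup.mk'_surjective N)]
      exact hKidx
    haveI : Fintype M := Fintype.ofFinite M
    set N' : Subgroup M := N.subgroupOf M with hN'
    haveI : Fintype N' := Fintype.ofFinite N'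
    haveI hN'n : N'.Normal := hN.subgroupOf M
    have hN'idx : N'.index = q ^ n := by
      have h1 := Subgroup.relIndex_mul_index hNM
      rw [hMidx, hidx, pow_succ] at h1
      exact Nat.eq_of_mul_eq_mul_right hq.out.pos h1
    have hN'odd : Odd N'.index := by
      rw [hN'idx]
      rw [hidx] at hodd
      exact Odd.of_dvd_nat hodd (pow_dvd_pow q (Nat.le_succ n))
    set θ' : N' → ℂ := fun x => θ ⟨((x : M) : G), x.2⟩ with hθ'
    have hθ'irr : Cfsg.IsIrrCharacter N' θ' :=
      Cfsg.Agent.Lib.Helper80.isIrrCharacter_comp_mulEquiv (Subgroup.subgroupOfEquivOfLe hNM) hθ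
    have hkM : Nat.Coprime k (Nat.card M) := coprime_card_subgroup M hk
    have hkeM : ∀ g : M, g ^ (k ^ (2 ^ e)) = g := by
      intro g
      apply Subtype.ext
      rw [Subgroup.coe_pow]
      exact hke g
    have hk₂M : ∀ g : M, Odd (orderOf g) → g ^ k = g⁻¹ := by
      intro g hg
      apply Subtype.ext
      rw [Subgroup.coe_pow, Subgroup.coe_inv]
      exact hk₂ g (by rw [Subgroup.orderOf_coe]; exact hg)
    have hθ'fix : powTw k θ' = θ' := by
      funext x
      have h1 := congrFun hθfix ⟨((x : M) : G), x.2⟩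
      exact h1
    have hθ'inv : ∀ (g : M) (x : N'), θ' ⟨g * x * g⁻¹, hN'n.conj_mem x x.2 g⟩ = θ' x := by
      intro g x
      exact hinv (g : G) ⟨((x : M) : G), x.2⟩
    obtain ⟨η₀, hη₀, hη₀ext⟩ :=
      ih M N' hN'idx hN'odd k e hkM hkeM hk₂M θ' hθ'irr hθ'fix hθ'inv
    obtain ⟨η, hη, hηfix, hηext⟩ :=
      exists_fixed_extension N' hN'odd k hkM hk₂M hθ'irr hθ'fix hη₀ hη₀ext
    -- `η` is `G`-invariant
    have hηinv : ∀ (g : G) (m : M), η ⟨g * m * g⁻¹, hMn.conj_mem m m.2 g⟩ = η m := by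
      intro g m
      have h1 : conjChar M η g⁻¹ = η := by
        apply fixed_over_unique N' hN'odd k hkM e hkeM hk₂M hθ'irr
          (isIrrCharacter_conjChar M hη g⁻¹) hη ?_ hηfix ?_ ?_
        · funext m
          show conjChar M η g⁻¹ (m ^ k) = conjChar M η g⁻¹ m
          rw [conjChar_inv_apply, conjChar_inv_apply]
          have h2 := congrFun hηfix ⟨g * m * g⁻¹, hMn.conj_mem m m.2 g⟩
          rw [← h2]
          show η _ = η (_ ^ k)
          congr 1
          apply Subtype.ext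
          show g * ((m ^ k : M) : G) * g⁻¹ = (g * (m : G) * g⁻¹) ^ k
          rw [Subgroup.coe_pow, conj_pow]
        · have h3 : (fun x : N' => conjChar M η g⁻¹ x) = θ' := by
            funext x
            rw [conjChar_inv_apply]
            have hmem : (⟨g * ((x : M) : G) * g⁻¹, hMn.conj_mem _ (x : M).2 g⟩ : M) ∈ N' := by
              show g * ((x : M) : G) * g⁻¹ ∈ N
              exact hN.conj_mem _ x.2 g
            have h4 := hηext ⟨_, hmem⟩
            refine h4.trans ?_
            exact hinv g ⟨((x : M) : G), x.2⟩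
          rw [h3, classInner_irr_self hθ'irr]
          exact one_ne_zero
        · have h3 : (fun x : N' => η x) = θ' := funext hηext
          rw [h3, classInner_irr_self hθ'irr]
          exact one_ne_zero
      have h2 := congrFun h1 m
      rw [conjChar_inv_apply] at h2
      exact h2
    have hcyc : IsCyclic (G ⧸ M) :=
      isCyclic_of_prime_card (p := q) (by rw [← Subgroup.index_eq_card]; exact hMidx)
    obtain ⟨χ, hχ, hχext⟩ := Cfsg.Agent.S0886.result M hcyc η hη hηinv
    refine ⟨χ, hχ, fun n => ?_⟩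
    have h1 := hχext ⟨(n : G), hNM n.2⟩
    rw [h1]
    exact hηext ⟨⟨(n : G), hNM n.2⟩, n.2⟩

end PrimePower

section General

variable {G : Type u} [Group G] [Fintype G] (N : Subgroup G) [hN : N.Normal] [Fintype N]

omit [Fintype N] in
/-- an invariant fixed `θ` extends to `G` when `|G : N|` is odd -/
theorem exists_ext_of_odd_index (hidx : Odd N.index) (k e : ℕ)
    (hk : Nat.Coprime k (Nat.card G)) (hke : ∀ g : G, g ^ (k ^ (2 ^ e)) = g)
    (hk₂ : ∀ g : G, Odd (orderOf g) → g ^ k = g⁻¹)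
    {θ : N → ℂ} (hθ : Cfsg.IsIrrCharacter N θ) (hθfix : powTw k θ = θ)
    (hinv : ∀ (g : G) (n : N), θ ⟨g * n * g⁻¹, hN.conj_mem n n.2 g⟩ = θ n) :
    ∃ χ : G → ℂ, Cfsg.IsIrrCharacter G χ ∧ ∀ n : N, χ n = θ n := by
  classical
  apply Cfsg.Agent.S0888.result N θ hθ hinv
  intro p hp
  haveI : Fact p.Prime := ⟨hp⟩
  obtain ⟨S⟩ : Nonempty (Sylow p (G ⧸ N)) := inferInstance
  set P : Subgroup G := (S : Subgroup (G ⧸ N)).comap (QuotientGroup.mk' N) with hP
  have hNP : N ≤ P := by
    intro x hx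
    show (QuotientGroup.mk' N x) ∈ (S : Subgroup (G ⧸ N))
    rw [QuotientGroup.mk'_apply, (QuotientGroup.eq_one_iff x).mpr hx]
    exact Subgroup.one_mem _
  have hPidx : P.index = (S : Subgroup (G ⧸ N)).index :=
    Subgroup.index_comap_of_surjective _ (QuotientGroup.mk'_surjective N)
  have hcop : Nat.Coprime P.index p := by
    rw [hPidx]
    exact Nat.Coprime.symm ((Nat.Prime.coprime_iff_not_dvd hp).mpr S.not_dvd_index)
  obtain ⟨j, hj⟩ := IsPGroup.iff_card.mp S.isPGroup'
  have hrel : N.relIndex P = p ^ j := by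
    have h1 := Subgroup.relIndex_mul_index hNP
    have h2 := Subgroup.card_mul_index (S : Subgroup (G ⧸ N))
    rw [← Subgroup.index_eq_card, ← hPidx, hj] at h2
    have h3 : P.index ≠ 0 := Subgroup.index_ne_zero_of_finite
    exact Nat.eq_of_mul_eq_mul_right (Nat.pos_of_ne_zero h3) (h1.trans h2.symm)
  haveI : Fintype P := Fintype.ofFinite P
  set N' : Subgroup P := N.subgroupOf P with hN'
  haveI : Fintype N' := Fintype.ofFinite N'
  haveI hN'n : N'.Normal := hN.subgroupOf P
  have hN'idx : N'.index = p ^ j := hrel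
  have hN'odd : Odd N'.index :=
    Odd.of_dvd_nat hidx (Subgroup.relIndex_dvd_index_of_le hNP)
  set θ' : N' → ℂ := fun x => θ ⟨((x : P) : G), x.2⟩ with hθ'
  have hθ'irr : Cfsg.IsIrrCharacter N' θ' :=
    Cfsg.Agent.Lib.Helper80.isIrrCharacter_comp_mulEquiv (Subgroup.subgroupOfEquivOfLe hNP) hθ
  have hkP : Nat.Coprime k (Nat.card P) := coprime_card_subgroup P hk
  have hkeP : ∀ g : P, g ^ (k ^ (2 ^ e)) = g := by
    intro g
    apply Subtype.ext
    rw [Subgroup.coe_pow]
    exact hke g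
  have hk₂P : ∀ g : P, Odd (orderOf g) → g ^ k = g⁻¹ := by
    intro g hg
    apply Subtype.ext
    rw [Subgroup.coe_pow, Subgroup.coe_inv]
    exact hk₂ g (by rw [Subgroup.orderOf_coe]; exact hg)
  have hθ'fix : powTw k θ' = θ' := by
    funext x
    have h1 := congrFun hθfix ⟨((x : P) : G), x.2⟩
    exact h1
  have hθ'inv : ∀ (g : P) (x : N'), θ' ⟨g * x * g⁻¹, hN'n.conj_mem x x.2 g⟩ = θ' x := by
    intro g x
    exact hinv (g : G) ⟨((x : P) : G), x.2⟩
  obtain ⟨η, hη, hηext⟩ := exists_ext_of_prime_power_index p j P N' hN'idx hN'odd k e hkP hkeP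
    hk₂P θ' hθ'irr hθ'fix hθ'inv
  exact ⟨P, hNP, η, hcop, ⟨j, hrel⟩, hη, fun n => hηext ⟨⟨(n : G), hNP n.2⟩, n.2⟩⟩

/-- **Galois-fixed characters over a normal subgroup of odd index** -/
theorem fixed_over_odd_index (hidx : Odd N.index) (k e : ℕ)
    (hk : Nat.Coprime k (Nat.card G)) (hke : ∀ g : G, g ^ (k ^ (2 ^ e)) = g)
    (hk₂ : ∀ g : G, Odd (orderOf g) → g ^ k = g⁻¹)
    {θ : N → ℂ} (hθ : Cfsg.IsIrrCharacter N θ) (hθfix : powTw k θ = θ) :
    ∃ χ : G → ℂ, Cfsg.IsIrrCharacter G χ ∧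
      (Cfsg.classInner (fun n : N => χ n) θ ≠ 0 ∧ powTw k χ = χ ∧
        ((∀ (g : G) (n : N), θ ⟨g * n * g⁻¹, hN.conj_mem n n.2 g⟩ = θ n) →
          ∀ n : N, χ n = θ n)) ∧
      ∀ χ' : G → ℂ, Cfsg.IsIrrCharacter G χ' → Cfsg.classInner (fun n : N => χ' n) θ ≠ 0 →
        powTw k χ' = χ' → χ' = χ := by
  obtain ⟨χ, hχ, hχfix, hχo⟩ := exists_fixed_over N hidx k hk e hke hθ hθfix
  refine ⟨χ, hχ, ⟨hχo, hχfix, ?_⟩, ?_⟩
  · intro hinv
    obtain ⟨χ₀, hχ₀, hχ₀ext⟩ := exists_ext_of_odd_index N hidx k e hk hke hk₂ hθ hθfix hinv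
    obtain ⟨χ₁, hχ₁, hχ₁fix, hχ₁ext⟩ :=
      exists_fixed_extension N hidx k hk hk₂ hθ hθfix hχ₀ hχ₀ext
    have h1 : Cfsg.classInner (fun n : N => χ₁ n) θ ≠ 0 := by
      rw [show (fun n : N => χ₁ n) = θ from funext hχ₁ext, classInner_irr_self hθ]
      exact one_ne_zero
    have h2 := fixed_over_unique N hidx k hk e hke hk₂ hθ hχ hχ₁ hχfix hχ₁fix hχo h1
    intro n
    rw [h2]
    exact hχ₁ext n
  · intro χ' hχ' hχ'o hχ'fix
    exact fixed_over_unique N hidx k hk e hke hk₂ hθ hχ' hχ hχ'fix hχfix hχ'o hχo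

end General

end Cfsg.Agent.Lib.Helper75
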