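import Mathlib
import Cfsg.Agent.Lib.Helper75.OddGal3
import Cfsg.Agent.Lib.Helper16.Osima
import Cfsg.Agent.Lib.Helper79.LocalGlobal
import Cfsg.Agent.S4517

/-!
# Galois-fixed characters over a normal subgroup of odd index and the principal `2`-block

`N ⊴ G` of odd index, `θ ∈ Irr(N)` and `χ ∈ Irr(G)` over `θ`, both fixed by a Galois
automorphism of `2`-power order inverting the odd-order roots of unity (given through a power
map).  Then `χ ∈ B₀(G)` iff `θ ∈ B₀(N)`.
-/

set_option autoImplicit false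
set_option linter.style.haveILetI false

namespace Cfsg.Agent.Lib.Helper75

open Representation Module
open Cfsg.Agent.Lib.Helper3
open scoped ComplexConjugate

universe u

section Basic

/-- the index of the centralizer is invariant under automorphisms -/
theorem index_centralizer_map {H : Type*} [Group H] (φ : H ≃* H) (n : H) :
    (Subgroup.centralizer ({φ n} : Set H)).index = (Subgroup.centralizer ({n} : Set H)).index := by
  have h : (Subgroup.centralizer ({φ n} : Set H)).comap φ.toMonoidHom =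
      Subgroup.centralizer ({n} : Set H) := by
    ext x
    simp only [Subgroup.mem_comap, Subgroup.mem_centralizer_iff, Set.mem_singleton_iff, forall_eq,
      MulEquiv.coe_toMonoidHom]
    constructor
    · intro h1
      apply φ.injective
      rw [map_mul, map_mul]
      exact h1
    · intro h1
      have h2 := congrArg φ h1
      rw [map_mul, map_mul] at h2
      exact h2
  rw [← h, Subgroup.index_comap_of_surjective _ φ.surjective]

variable {G : Type u} [Group G]

theorem centralChar_powTw [Finite G] {k : ℕ} (hk : Nat.Coprime k (Nat.card G)) (f : G → ℂ)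
    (g : G) : Cfsg.centralChar (powTw k f) g = Cfsg.centralChar f (g ^ k) := by
  unfold Cfsg.centralChar powTw
  rw [Cfsg.Agent.Lib.Helper79.centralizer_pow_of_coprime g
    (Nat.Coprime.coprime_dvd_right (orderOf_dvd_natCard g) hk), one_pow]

theorem sameBlock_powTw_iff [Finite G] {M : Ideal Cfsg.AlgInt} {k : ℕ}
    (hk : Nat.Coprime k (Nat.card G)) (f h : G → ℂ) :
    Cfsg.SameBlock M (powTw k f) (powTw k h) ↔ Cfsg.SameBlock M f h := by
  unfold Cfsg.SameBlock
  constructor
  · intro H y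
    obtain ⟨g, rfl⟩ : ∃ g : G, g ^ k = y :=
      ⟨(powCoprime hk.symm).symm y, (powCoprime hk.symm).apply_symm_apply y⟩
    have h1 := H g
    rwa [centralChar_powTw hk, centralChar_powTw hk] at h1
  · intro H g
    rw [centralChar_powTw hk, centralChar_powTw hk]
    exact H (g ^ k)

variable (N : Subgroup G) [hN : N.Normal]

theorem centralChar_conjChar (θ : N → ℂ) (x : G) (n : N) :
    Cfsg.centralChar (conjChar N θ x) n =
      Cfsg.centralChar θ ((MulAut.conjNormal x : N ≃* N)⁻¹ n) := by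
  unfold Cfsg.centralChar conjChar
  rw [index_centralizer_map ((MulAut.conjNormal x : N ≃* N)⁻¹) n, map_one]

/-- the principal block of a normal subgroup is stable under conjugation -/
theorem sameBlock_one_conjChar {M : Ideal Cfsg.AlgInt} {θ : N → ℂ}
    (h : Cfsg.SameBlock M (fun _ : N => (1 : ℂ)) θ) (x : G) :
    Cfsg.SameBlock M (fun _ : N => (1 : ℂ)) (conjChar N θ x) := by
  intro n
  rw [centralChar_conjChar]
  have h1 := h ((MulAut.conjNormal x : N ≃* N)⁻¹ n)
  have h2 : Cfsg.centralChar (fun _ : N => (1 : ℂ)) n =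
      Cfsg.centralChar (fun _ : N => (1 : ℂ)) ((MulAut.conjNormal x : N ≃* N)⁻¹ n) := by
    unfold Cfsg.centralChar
    rw [index_centralizer_map ((MulAut.conjNormal x : N ≃* N)⁻¹) n]
  rw [h2]
  exact h1

end Basic

section Down

variable {G : Type u} [Group G] [Fintype G] (N : Subgroup G) [hN : N.Normal] [Fintype N]

/-- **the principal block covers only the principal block**: a constituent on `N` of a
character in the principal block of `G` lies in the principal block of `N` -/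
theorem principal_of_over {M : Ideal Cfsg.AlgInt} (hMp : M.IsPrime)
    {χ : G → ℂ} (hχ : Cfsg.IsIrrCharacter G χ) {θ : N → ℂ} (hθ : Cfsg.IsIrrCharacter N θ)
    (hover : Cfsg.classInner (fun n : N => χ n) θ ≠ 0)
    (hχB : Cfsg.SameBlock M (fun _ : G => (1 : ℂ)) χ) :
    Cfsg.SameBlock M (fun _ : N => (1 : ℂ)) θ := by
  classical
  haveI : Fintype (Cfsg.IrrCharacter N) := Fintype.ofFinite _
  have hχc := isCharacter_of_irr hχ
  have hχcf := isClassFunction_of_isCharacter hχc
  have h1N : Cfsg.IsIrrCharacter N (fun _ : N => (1 : ℂ)) :=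
    Cfsg.Agent.Lib.Helper80.isIrrCharacter_one
  set B₁ : Set (Cfsg.IrrCharacter N) := Cfsg.principalBlock M N with hB₁
  have hB₁blk : Cfsg.IsPBlock M B₁ := ⟨⟨fun _ => 1, h1N⟩, rfl⟩
  have hα₁ := Cfsg.Agent.Lib.Helper16.isRClass_blockCoeff hMp hB₁blk
  have hom := Cfsg.Agent.Lib.Helper16.omega_blockCoeff hMp hB₁blk
  set α₁ : N → ℂ := Cfsg.blockCoeff B₁ with hα₁def
  have hmemB₁ : ∀ θ' : Cfsg.IrrCharacter N, θ' ∈ B₁ ↔
      Cfsg.SameBlock M (fun _ : N => (1 : ℂ)) (θ' : N → ℂ) := fun θ' => Iff.rfl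
  -- `B₁` is stable under conjugation
  have hstab : ∀ (θ' : Cfsg.IrrCharacter N) (x : G),
      (⟨conjChar N θ'.1 x, isIrrCharacter_conjChar N θ'.2 x⟩ : Cfsg.IrrCharacter N) ∈ B₁ ↔
        θ' ∈ B₁ := by
    intro θ' x
    constructor
    · intro h
      have h2 := sameBlock_one_conjChar N ((hmemB₁ _).mp h) x⁻¹
      have h3 : conjChar N (conjChar N θ'.1 x) x⁻¹ = θ'.1 := by
        funext n
        unfold conjChar
        simp
      rw [h3] at h2
      exact (hmemB₁ _).mpr h2
    · intro h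
      exact (hmemB₁ _).mpr (sameBlock_one_conjChar N ((hmemB₁ _).mp h) x)
  -- `α₁` is `G`-invariant
  have hα₁inv : ∀ (x : G) (n : N), α₁ (MulAut.conjNormal x n) = α₁ n := by
    intro x n
    have hcf : Cfsg.IsClassFunction N (fun m : N => α₁ (MulAut.conjNormal x m)) := by
      intro m h
      show α₁ (MulAut.conjNormal x (h * m * h⁻¹)) = α₁ (MulAut.conjNormal x m)
      rw [map_mul, map_mul, map_inv]
      exact hα₁.1 _ _
    have hom2 : ∀ θ' : Cfsg.IrrCharacter N,
        Cfsg.Agent.Lib.Helper16.omega (θ' : N → ℂ) (fun m : N => α₁ (MulAut.conjNormal x m)) =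
          if θ' ∈ B₁ then 1 else 0 := by
      intro θ'
      have h3 := hom ⟨conjChar N θ'.1 x, isIrrCharacter_conjChar N θ'.2 x⟩
      have h4 : (if (⟨conjChar N θ'.1 x, isIrrCharacter_conjChar N θ'.2 x⟩ :
          Cfsg.IrrCharacter N) ∈ B₁ then (1 : ℂ) else 0) = if θ' ∈ B₁ then 1 else 0 :=
        if_congr (hstab θ' x) rfl rfl
      rw [← h4, ← h3]
      unfold Cfsg.Agent.Lib.Helper16.omega
      rw [← Equiv.sum_comp (MulAut.conjNormal x : N ≃* N).toEquiv
        (fun m : N => α₁ m * conjChar N θ'.1 x m / conjChar N θ'.1 x 1)]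
      refine Finset.sum_congr rfl (fun m _ => ?_)
      show _ = α₁ (MulAut.conjNormal x m) * conjChar N θ'.1 x (MulAut.conjNormal x m) /
        conjChar N θ'.1 x 1
      rw [conjChar_apply_one]
      unfold conjChar
      simp
    exact (Cfsg.Agent.Lib.Helper16.blockCoeff_eq_of_omega hcf hom2 n).symm
  -- the class function on `G`
  set α : G → ℂ := Cfsg.extendByZero N α₁ with hαdef
  have hαR : Cfsg.Agent.Lib.Helper16.IsRClass M α := by
    constructor
    · intro g h
      by_cases hg : g ∈ N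
      · have hg' : h * g * h⁻¹ ∈ N := hN.conj_mem g hg h
        rw [hαdef, extendByZero_mem N α₁ hg, extendByZero_mem N α₁ hg']
        have h2 := hα₁inv h ⟨g, hg⟩
        rw [← h2]
        congr 1
      · have hg' : h * g * h⁻¹ ∉ N := by
          intro hc
          apply hg
          have h2 := hN.conj_mem _ hc h⁻¹
          have h3 : h⁻¹ * (h * g * h⁻¹) * h⁻¹⁻¹ = g := by group
          rw [h3] at h2
          exact h2
        rw [hαdef, extendByZero_not_mem N α₁ hg, extendByZero_not_mem N α₁ hg']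
    · intro g
      by_cases hg : g ∈ N
      · rw [hαdef, extendByZero_mem N α₁ hg]
        exact hα₁.2 _
      · rw [hαdef, extendByZero_not_mem N α₁ hg]
        exact Cfsg.Agent.Lib.Helper16.memLocalRing_zero hMp
  -- the values of the central characters
  have hom1 : Cfsg.Agent.Lib.Helper16.omega (fun _ : G => (1 : ℂ)) α = 1 := by
    have h3 := sum_extendByZero_mul N α₁ (fun _ : G => (1 : ℂ))
    have h4 := hom ⟨fun _ => 1, h1N⟩
    have hone : (⟨fun _ => 1, h1N⟩ : Cfsg.IrrCharacter N) ∈ B₁ :=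
      Cfsg.Agent.Lib.Helper16.sameBlock_refl hMp (fun _ : N => (1 : ℂ))
    rw [if_pos hone] at h4
    unfold Cfsg.Agent.Lib.Helper16.omega at h4 ⊢
    simp only [mul_one, div_one] at h3 h4 ⊢
    rw [h3]
    exact h4
  have hsumθ : ∀ θ' : Cfsg.IrrCharacter N, ∑ n : N, α₁ n * (θ' : N → ℂ) n =
      (θ' : N → ℂ) 1 * (if θ' ∈ B₁ then 1 else 0) := by
    intro θ'
    have h3 := hom θ'
    unfold Cfsg.Agent.Lib.Helper16.omega at h3
    rw [← Finset.sum_div] at h3
    have h4 : (θ' : N → ℂ) 1 ≠ 0 := Cfsg.Agent.Lib.Helper80.char_one_ne_zero θ'.2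
    rw [← h3]
    field_simp
  have homχ : (∀ θ' : Cfsg.IrrCharacter N, θ' ∈ B₁ →
      Cfsg.classInner (fun n : N => χ n) (θ' : N → ℂ) = 0) →
      Cfsg.Agent.Lib.Helper16.omega χ α = 0 := by
    intro hno
    obtain ⟨m, hm, hsum⟩ := char_eq_sum_irr (isCharacter_res N hχc)
    unfold Cfsg.Agent.Lib.Helper16.omega
    rw [← Finset.sum_div, sum_extendByZero_mul N α₁ χ]
    have h5 : ∑ n : N, α₁ n * χ n = 0 := by
      have h6 : ∀ n : N, χ n = ∑ θ' : Cfsg.IrrCharacter N, (m θ' : ℂ) * (θ' : N → ℂ) n := by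
        intro n
        have h7 := congrFun hsum n
        simp only [Finset.sum_apply, Pi.smul_apply, smul_eq_mul] at h7
        exact h7
      simp only [h6, Finset.mul_sum]
      rw [Finset.sum_comm]
      apply Finset.sum_eq_zero
      intro θ' _
      have h8 : ∑ n : N, α₁ n * ((m θ' : ℂ) * (θ' : N → ℂ) n) =
          (m θ' : ℂ) * ∑ n : N, α₁ n * (θ' : N → ℂ) n := by
        rw [Finset.mul_sum]
        refine Finset.sum_congr rfl (fun n _ => ?_)
        ring
      rw [h8, hsumθ θ']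
      by_cases hθ' : θ' ∈ B₁
      · have h9 : (m θ' : ℂ) = 0 := by
          rw [← hm θ']
          exact hno θ' hθ'
        rw [h9, zero_mul]
      · rw [if_neg hθ', mul_zero, mul_zero]
    rw [h5, zero_div]
  by_contra hcon
  have hno : ∀ θ' : Cfsg.IrrCharacter N, θ' ∈ B₁ →
      Cfsg.classInner (fun n : N => χ n) (θ' : N → ℂ) = 0 := by
    intro θ' hθ'
    by_contra hne
    obtain ⟨g, hg⟩ := clifford_conj N hχ θ'.2 hθ hne hover
    apply hcon
    rw [← hg]
    exact sameBlock_one_conjChar N ((hmemB₁ _).mp hθ') g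
  have h5 := Cfsg.Agent.Lib.Helper16.memLocalIdeal_omega_sub_fun hMp
    (χ := fun _ : G => (1 : ℂ)) (ψ := χ) (fun _ _ => rfl) (fun x g => hχcf g x) hχB hαR
  rw [hom1, homχ hno, sub_zero] at h5
  exact Cfsg.Agent.Lib.Helper16.not_memLocalIdeal_one hMp h5

end Down

section Up

variable {G : Type u} [Group G] [Fintype G] (N : Subgroup G) [hN : N.Normal] [Fintype N]

/-- a fixed irreducible character over `θ` has odd multiplicity -/
theorem odd_mult_of_fixed (hidx : Odd N.index) (k : ℕ) (hk : Nat.Coprime k (Nat.card G)) (e : ℕ)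
    (hke : ∀ g : G, g ^ (k ^ (2 ^ e)) = g)
    (hk₂ : ∀ g : G, Odd (orderOf g) → g ^ k = g⁻¹)
    {θ : N → ℂ} (hθ : Cfsg.IsIrrCharacter N θ)
    {χ : G → ℂ} (hχ : Cfsg.IsIrrCharacter G χ) (hχfix : powTw k χ = χ)
    (hover : Cfsg.classInner (fun n : N => χ n) θ ≠ 0) (a : ℕ)
    (ha : Cfsg.classInner (fun n : N => χ n) θ = a) : Odd a := by
  obtain ⟨r, hr, hodd⟩ := res_inner_parity N hidx k hk e hke hk₂ hχ hχ hχfix hχfix
  rw [res_inner_eq N hχ hχ hθ hover, ha, Complex.conj_natCast] at hr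
  have e₁ : a * Nat.card (Constit N χ) * a = r := by exact_mod_cast hr
  have o₁ : Odd r := hodd.mpr rfl
  rw [← e₁] at o₁
  exact (Nat.odd_mul.mp o₁).2

/-- **going up**: the fixed irreducible character over a fixed character of the principal
`2`-block of `N` lies in the principal `2`-block of `G` -/
theorem principal_of_under {M : Ideal Cfsg.AlgInt} (hM : Cfsg.IsPModular 2 M)
    (hidx : Odd N.index) (k : ℕ) (hk : Nat.Coprime k (Nat.card G)) (e : ℕ)
    (hke : ∀ g : G, g ^ (k ^ (2 ^ e)) = g)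
    (hk₂ : ∀ g : G, Odd (orderOf g) → g ^ k = g⁻¹)
    {θ : N → ℂ} (hθ : Cfsg.IsIrrCharacter N θ) (hθfix : powTw k θ = θ)
    {χ : G → ℂ} (hχ : Cfsg.IsIrrCharacter G χ) (hχfix : powTw k χ = χ)
    (hover : Cfsg.classInner (fun n : N => χ n) θ ≠ 0)
    (hθB : Cfsg.SameBlock M (fun _ : N => (1 : ℂ)) θ) :
    Cfsg.SameBlock M (fun _ : G => (1 : ℂ)) χ := by
  classical
  haveI : Fintype (Cfsg.IrrCharacter G) := Fintype.ofFinite _
  have hMp := Cfsg.Agent.Lib.Helper16.isPrime_of_isPModular hM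
  have hkN : Nat.Coprime k (Nat.card N) := coprime_card_subgroup N hk
  have hθcf := isClassFunction_of_isCharacter (isCharacter_of_irr hθ)
  have h1N : Cfsg.IsIrrCharacter N (fun _ : N => (1 : ℂ)) :=
    Cfsg.Agent.Lib.Helper80.isIrrCharacter_one
  set χ₀ : Cfsg.IrrCharacter G := ⟨χ, hχ⟩ with hχ₀
  set B : Set (Cfsg.IrrCharacter G) := Cfsg.blockOf M χ with hBdef
  have hB : Cfsg.IsPBlock M B := ⟨χ₀, rfl⟩
  have hχB : χ₀ ∈ B := Cfsg.Agent.Lib.Helper16.mem_blockOf_self hMp χ₀
  -- `B` is stable under the twist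
  have hBtw : ∀ χ' : Cfsg.IrrCharacter G, twIrr hk χ' ∈ B ↔ χ' ∈ B := by
    intro χ'
    show Cfsg.SameBlock M χ (powTw k χ'.1) ↔ Cfsg.SameBlock M χ χ'.1
    have h1 := sameBlock_powTw_iff (M := M) hk χ χ'.1
    rw [hχfix] at h1
    exact h1
  have hαB := Cfsg.Agent.Lib.Helper16.isRClass_blockCoeff hMp hB
  set β : N → ℂ := fun n => Cfsg.blockCoeff B (n : G) with hβdef
  have hβR : Cfsg.Agent.Lib.Helper16.IsRClass M β :=
    ⟨fun n h => hαB.1 (n : G) (h : G), fun n => hαB.2 n⟩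
  have h1 := Cfsg.Agent.Lib.Helper16.memLocalIdeal_omega_sub_fun hMp
    (χ := fun _ : N => (1 : ℂ)) (ψ := θ) (fun _ _ => rfl) (fun x g => hθcf g x) hθB hβR
  -- multiplicities
  choose a ha using fun χ' : Cfsg.IrrCharacter G =>
    classInner_irr_char_nat (isCharacter_res N (isCharacter_of_irr χ'.2)) hθ
  choose m' hm' using fun χ' : Cfsg.IrrCharacter G =>
    classInner_irr_char_nat (isCharacter_res N (isCharacter_of_irr χ'.2)) h1N
  have hd : ∀ χ' : Cfsg.IrrCharacter G, (χ' : G → ℂ) 1 = (Cfsg.charDegree (χ' : G → ℂ) : ℂ) :=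
    fun χ' => Cfsg.Agent.Lib.Helper80.char_one_eq_charDegree (isCharacter_of_irr χ'.2)
  have hN0 : (Nat.card N : ℂ) ≠ 0 := by
    exact_mod_cast (Nat.card_pos (α := N)).ne'
  have hG0 : (Nat.card G : ℂ) ≠ 0 := by
    exact_mod_cast (Nat.card_pos (α := G)).ne'
  have hcardGN : (Nat.card G : ℂ) = (Nat.card N : ℂ) * (N.index : ℂ) := by
    have h2 := Subgroup.card_mul_index N
    exact_mod_cast h2.symm
  have hidx0 : (N.index : ℂ) ≠ 0 := by
    exact_mod_cast (Subgroup.index_ne_zero_of_finite (H := N))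
  -- sums over `N` of character values
  have hsum1 : ∀ χ' : Cfsg.IrrCharacter G, ∑ n : N, conj ((χ' : G → ℂ) n) =
      (Nat.card N : ℂ) * (m' χ' : ℂ) := by
    intro χ'
    have h2 := hm' χ'
    unfold Cfsg.classInner at h2
    simp only [one_mul] at h2
    rw [← h2]
    field_simp
  have hsumθ : ∀ χ' : Cfsg.IrrCharacter G, ∑ n : N, θ n * conj ((χ' : G → ℂ) n) =
      (Nat.card N : ℂ) * (a χ' : ℂ) := by
    intro χ'
    have h2 := ha χ'
    unfold Cfsg.classInner at h2
    rw [← h2]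
    field_simp
  -- the inertia index
  set t : ℕ := (inertia N θ).index with ht
  have htodd : Odd t :=
    Odd.of_dvd_nat hidx (Subgroup.index_dvd_of_le (le_inertia N hθcf))
  have hdeg : ∀ χ' : Cfsg.IrrCharacter G, (χ' : G → ℂ) 1 * (a χ' : ℂ) =
      (a χ' : ℂ) * (t : ℂ) * θ 1 * (a χ' : ℂ) := by
    intro χ'
    by_cases h0 : a χ' = 0
    · rw [h0]
      simp
    · have h2 : Cfsg.classInner (fun n : N => (χ' : G → ℂ) n) θ = (a χ' : ℂ) := by
        rw [classInner_conj_symm, ha χ', Complex.conj_natCast]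
      have h3 : Cfsg.classInner (fun n : N => (χ' : G → ℂ) n) θ ≠ 0 := by
        rw [h2]
        exact_mod_cast h0
      rw [res_one_eq N χ'.2 hθ h3, card_constit_eq_index_inertia N χ'.2 hθ h3, h2]
  -- the two central character values
  have hθ1 : θ 1 ≠ 0 := Cfsg.Agent.Lib.Helper80.char_one_ne_zero hθ
  have hS₁ : (N.index : ℂ) * Cfsg.Agent.Lib.Helper16.omega (fun _ : N => (1 : ℂ)) β =
      ((∑ χ' : Cfsg.IrrCharacter G,
        (if χ' ∈ B then Cfsg.charDegree (χ' : G → ℂ) * m' χ' else 0) : ℕ) : ℂ) := by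
    have h2 : ∑ n : N, ∑ χ' : Cfsg.IrrCharacter G,
        (if χ' ∈ B then (χ' : G → ℂ) 1 * conj ((χ' : G → ℂ) (n : G)) else 0) =
        (Nat.card N : ℂ) * ((∑ χ' : Cfsg.IrrCharacter G,
          (if χ' ∈ B then Cfsg.charDegree (χ' : G → ℂ) * m' χ' else 0) : ℕ) : ℂ) := by
      rw [Finset.sum_comm]
      push_cast
      rw [Finset.mul_sum]
      refine Finset.sum_congr rfl (fun χ' _ => ?_)
      by_cases hχ' : χ' ∈ B
      · simp only [if_pos hχ']
        rw [← Finset.mul_sum, hsum1 χ', hd χ']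
        ring
      · simp only [if_neg hχ']
        simp
    have h3 : ∑ n : N, ∑ᶠ χ' ∈ B, (χ' : G → ℂ) 1 * conj ((χ' : G → ℂ) (n : G)) =
        ∑ n : N, ∑ χ' : Cfsg.IrrCharacter G,
          (if χ' ∈ B then (χ' : G → ℂ) 1 * conj ((χ' : G → ℂ) (n : G)) else 0) := by
      refine Finset.sum_congr rfl (fun n _ => ?_)
      rw [Cfsg.Agent.Lib.Helper16.finsum_mem_eq_sum_ite]
    unfold Cfsg.Agent.Lib.Helper16.omega
    simp only [mul_one, div_one, hβdef]
    unfold Cfsg.blockCoeff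
    rw [← Finset.mul_sum, h3, h2, hcardGN]
    field_simp
  have hS₂ : (N.index : ℂ) * Cfsg.Agent.Lib.Helper16.omega θ β =
      ((t * ∑ χ' : Cfsg.IrrCharacter G,
        (if χ' ∈ B then a χ' * a χ' else 0) : ℕ) : ℂ) := by
    have h2 : ∑ n : N, ∑ χ' : Cfsg.IrrCharacter G,
        (if χ' ∈ B then (χ' : G → ℂ) 1 * conj ((χ' : G → ℂ) (n : G)) else 0) * θ n =
        (Nat.card N : ℂ) * θ 1 * ((t * ∑ χ' : Cfsg.IrrCharacter G,
          (if χ' ∈ B then a χ' * a χ' else 0) : ℕ) : ℂ) := by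
      rw [Finset.sum_comm]
      push_cast
      rw [Finset.mul_sum, Finset.mul_sum]
      refine Finset.sum_congr rfl (fun χ' _ => ?_)
      by_cases hχ' : χ' ∈ B
      · simp only [if_pos hχ']
        have h4 : ∑ n : N, (χ' : G → ℂ) 1 * conj ((χ' : G → ℂ) (n : G)) * θ n =
            (χ' : G → ℂ) 1 * ∑ n : N, θ n * conj ((χ' : G → ℂ) (n : G)) := by
          rw [Finset.mul_sum]
          refine Finset.sum_congr rfl (fun n _ => ?_)
          ring
        rw [h4, hsumθ χ']
        have h5 := hdeg χ'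
        linear_combination (Nat.card N : ℂ) * h5
      · simp only [if_neg hχ']
        simp
    have h3 : ∑ n : N, (∑ᶠ χ' ∈ B, (χ' : G → ℂ) 1 * conj ((χ' : G → ℂ) (n : G))) * θ n =
        ∑ n : N, ∑ χ' : Cfsg.IrrCharacter G,
          (if χ' ∈ B then (χ' : G → ℂ) 1 * conj ((χ' : G → ℂ) (n : G)) else 0) * θ n := by
      refine Finset.sum_congr rfl (fun n _ => ?_)
      rw [Cfsg.Agent.Lib.Helper16.finsum_mem_eq_sum_ite, Finset.sum_mul]
    unfold Cfsg.Agent.Lib.Helper16.omega
    simp only [hβdef]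
    unfold Cfsg.blockCoeff
    have h6 : ∑ n : N, (Nat.card G : ℂ)⁻¹ *
        (∑ᶠ χ' ∈ B, (χ' : G → ℂ) 1 * conj ((χ' : G → ℂ) (n : G))) * θ n / θ 1 =
        (Nat.card G : ℂ)⁻¹ * (θ 1)⁻¹ *
          ∑ n : N, (∑ᶠ χ' ∈ B, (χ' : G → ℂ) 1 * conj ((χ' : G → ℂ) (n : G))) * θ n := by
      rw [Finset.mul_sum]
      refine Finset.sum_congr rfl (fun n _ => ?_)
      field_simp
    rw [h6, h3, h2, hcardGN]
    field_simp
  -- the congruence
  set A₁ : ℕ := ∑ χ' : Cfsg.IrrCharacter G,
    (if χ' ∈ B then Cfsg.charDegree (χ' : G → ℂ) * m' χ' else 0) with hA₁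
  set A₂ : ℕ := ∑ χ' : Cfsg.IrrCharacter G, (if χ' ∈ B then a χ' * a χ' else 0) with hA₂
  have hcong : Cfsg.MemLocalIdeal M ((A₁ : ℂ) - ((t * A₂ : ℕ) : ℂ)) := by
    have h2 := Cfsg.Agent.Lib.Helper16.memLocalIdeal_mul_left hMp
      (Cfsg.Agent.Lib.Helper16.memLocalRing_natCast hMp N.index) h1
    rw [mul_sub, hS₁, hS₂] at h2
    exact h2
  -- parity of `A₂`
  have haτ : ∀ χ' : Cfsg.IrrCharacter G,
      (if twIrr hk χ' ∈ B then a (twIrr hk χ') * a (twIrr hk χ') else 0) =
        (if χ' ∈ B then a χ' * a χ' else 0) := by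
    intro χ'
    have h3 : a (twIrr hk χ') = a χ' := by
      have h4 : (a (twIrr hk χ') : ℂ) = (a χ' : ℂ) := by
        rw [← ha, ← ha]
        have h5 := classInner_powTw (G := N) hkN θ (fun n : N => (χ' : G → ℂ) n)
        rw [hθfix] at h5
        rw [← h5]
        rfl
      exact_mod_cast h4
    rw [h3, if_congr (hBtw χ') rfl rfl]
  have hpar := sum_irr_parity hk e hke
    (fun χ' : Cfsg.IrrCharacter G => if χ' ∈ B then a χ' * a χ' else 0) haτ
  have haχ₀ : Odd (a χ₀) := by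
    apply odd_mult_of_fixed N hidx k hk e hke hk₂ hθ hχ hχfix hover
    rw [classInner_conj_symm, ha χ₀, Complex.conj_natCast]
  have hsumfix : ∑ χ' ∈ Finset.univ.filter (fun χ' : Cfsg.IrrCharacter G => twIrr hk χ' = χ'),
      (((if χ' ∈ B then a χ' * a χ' else 0 : ℕ)) : ZMod 2) = 1 := by
    rw [Finset.sum_eq_single_of_mem χ₀]
    · rw [if_pos hχB]
      rw [ZMod.natCast_eq_one_iff_odd]
      exact haχ₀.mul haχ₀
    · simp only [Finset.mem_filter, Finset.mem_univ, true_and]
      apply Subtype.ext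
      exact hχfix
    · intro χ' hχ' hne
      simp only [Finset.mem_filter, Finset.mem_univ, true_and] at hχ'
      have h3 : a χ' = 0 := by
        by_contra h4
        apply hne
        apply Subtype.ext
        have h5 : Cfsg.classInner (fun n : N => (χ' : G → ℂ) n) θ ≠ 0 := by
          rw [classInner_conj_symm, ha χ', Complex.conj_natCast]
          exact_mod_cast h4
        exact fixed_over_unique N hidx k hk e hke hk₂ hθ χ'.2 hχ
          (congrArg Subtype.val hχ') hχfix h5 hover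
      rw [h3]
      simp
  have hA₂odd : Odd A₂ := by
    rw [← ZMod.natCast_eq_one_iff_odd, hA₂, hpar, hsumfix]
  have hA₁odd : Odd A₁ := by
    by_contra hcon
    have heven : Even A₁ := Nat.not_odd_iff_even.mp hcon
    have h2 : Cfsg.MemLocalIdeal M (A₁ : ℂ) :=
      (Cfsg.Agent.Lib.Helper16.memLocalIdeal_natCast_iff hM A₁).mpr (even_iff_two_dvd.mp heven)
    have h3 := Cfsg.Agent.Lib.Helper16.memLocalIdeal_sub hMp h2 hcong
    rw [sub_sub_cancel] at h3
    have h4 := (Cfsg.Agent.Lib.Helper16.memLocalIdeal_natCast_iff hM (t * A₂)).mp h3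
    exact (Nat.not_even_iff_odd.mpr (htodd.mul hA₂odd)) (even_iff_two_dvd.mpr h4)
  -- a character of odd degree in `B`
  obtain ⟨χ₁, hχ₁B, hχ₁odd⟩ : ∃ χ₁ : Cfsg.IrrCharacter G, χ₁ ∈ B ∧
      Odd (Cfsg.charDegree (χ₁ : G → ℂ)) := by
    by_contra hcon
    apply (Nat.not_even_iff_odd.mpr hA₁odd)
    rw [hA₁]
    apply Finset.even_sum
    intro χ' _
    by_cases hχ' : χ' ∈ B
    · rw [if_pos hχ']
      have h2 : ¬ Odd (Cfsg.charDegree (χ' : G → ℂ)) := fun h => hcon ⟨χ', hχ', h⟩
      exact (Nat.not_odd_iff_even.mp h2).mul_right _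
    · rw [if_neg hχ']
      exact Even.zero
  have hdef : Cfsg.blockDefect 2 B = (Nat.card G).factorization 2 := by
    unfold Cfsg.blockDefect
    have hinf : sInf ((fun ψ : Cfsg.IrrCharacter G =>
        (Cfsg.charDegree (ψ : G → ℂ)).factorization 2) '' B) = 0 := by
      rw [Nat.sInf_eq_zero]
      left
      refine ⟨χ₁, hχ₁B, ?_⟩
      show (Cfsg.charDegree (χ₁ : G → ℂ)).factorization 2 = 0
      apply Nat.factorization_eq_zero_of_not_dvd
      exact fun h => (Nat.not_even_iff_odd.mpr hχ₁odd) (even_iff_two_dvd.mpr h)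
    rw [hinf, Nat.sub_zero]
  have hstab : ∀ χ' ∈ B, ∃ ψ ∈ B, ∀ g : G, (ψ : G → ℂ) g = (χ' : G → ℂ) (g ^ k) :=
    fun χ' hχ' => ⟨twIrr hk χ', (hBtw χ').mpr hχ', fun g => rfl⟩
  have hfin := Cfsg.Agent.S4517.result M hM k hk hk₂ B hB hdef hstab
  have h7 : χ₀ ∈ Cfsg.principalBlock M G := by
    rw [← hfin]
    exact hχB
  exact h7

end Up

end Cfsg.Agent.Lib.Helper75
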